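import Cfsg.Agent.Lib.FGS68.Kreknin
import Mathlib

/-!
A Lie ring of exponent prime to `p` with an automorphism of period `p` without fixed points: the iterated
brackets vanish as far as they do in every graded family. The eigen-decomposition is made in functions
`ZMod p → L` with the convolution bracket, a shift playing the root of unity.
-/

set_option autoImplicit false

namespace CfsgLib.FGS68

open Finset

variable {p : ℕ} [hp : Fact p.Prime] {L : Type*} [AddCommGroup L] (β : L →+ L →+ L)

/-- Convolution bracket. -/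
noncomputable def conv : (ZMod p → L) →+ (ZMod p → L) →+ (ZMod p → L) :=
  AddMonoidHom.mk' (fun f => AddMonoidHom.mk' (fun g k => ∑ a, β (f a) (g (k - a)))
      (fun g g' => by funext k; simp [Finset.sum_add_distrib]))
    (fun f f' => by
      refine DFunLike.ext _ _ fun g => ?_
      funext k
      simp [Finset.sum_add_distrib])

theorem conv_apply (f g : ZMod p → L) (k : ZMod p) : conv β f g k = ∑ a, β (f a) (g (k - a)) := rfl

variable {β}

theorem jacobi_conv (hj : JacobiId β) : JacobiId (conv (p := p) β) := by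
  intro f g h
  funext k
  rw [Pi.add_apply, conv_apply, conv_apply, conv_apply]
  simp only [conv_apply, map_sum, AddMonoidHom.finset_sum_apply]
  rw [Finset.sum_comm, Finset.sum_comm (f := fun a b => β (β (f b) (h (a - b))) (g (k - a))),
    ← Finset.sum_add_distrib]
  refine Finset.sum_congr rfl fun b _ => ?_
  rw [← Equiv.sum_comp (Equiv.addLeft b) (fun a => β (β (f b) (g (a - b))) (h (k - a))),
    ← Equiv.sum_comp (Equiv.subLeft k) (fun a => β (β (f b) (h (a - b))) (g (k - a))), ← Finset.sum_add_distrib]
  refine Finset.sum_congr rfl fun c _ => ?_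
  simp only [Equiv.coe_addLeft, Equiv.subLeft_apply]
  rw [hj, add_sub_cancel_left, sub_sub_cancel, show k - (b + c) = k - b - c by ring,
    show k - c - b = k - b - c by ring]

/-- The `j`-th eigenfamily. -/
def eigFam (α : L →+ L) (j : ZMod p) : AddSubgroup (ZMod p → L) where
  carrier := {f | ∀ k, α (f k) = f (k - j)}
  zero_mem' := fun k => by simp
  add_mem' := fun {a b} ha hb k => by simp [ha k, hb k]
  neg_mem' := fun {a} ha k => by simp [ha k]

variable {α : L →+ L}

theorem gradedFam_eig (hfix : ∀ x, α x = x → x = 0) (hmul : ∀ a b, α (β a b) = β (α a) (α b)) :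
    GradedFam (conv (p := p) β) (eigFam α) := by
  refine ⟨(AddSubgroup.eq_bot_iff_forall _).2 fun f hf => funext fun k => hfix _ ?_, ?_⟩
  · have := hf k; rwa [sub_zero] at this
  · intro i j f g hf hg k
    rw [conv_apply, conv_apply, map_sum, ← Equiv.sum_comp (Equiv.subRight i) fun a => β (f a) (g (k - (i + j) - a))]
    refine Finset.sum_congr rfl fun a _ => ?_
    rw [hmul, hf a, hg (k - a), Equiv.subRight_apply, show k - (i + j) - (a - i) = k - a - j by ring]

theorem iterate_mod (hper : ∀ x, (⇑α)^[p] x = x) (n : ℕ) (x : L) : (⇑α)^[n] x = (⇑α)^[n % p] x := by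
  conv_lhs => rw [← Nat.mod_add_div n p, Function.iterate_add_apply]
  congr 1
  generalize n / p = q
  induction q with
  | zero => simp
  | succ q ih => rw [Nat.mul_succ, Function.iterate_add_apply, hper, ih]

/-- `p δ₀ x - x`. -/
def spread (x : L) : ZMod p → L := fun k => (if k = 0 then p • x else 0) - x

theorem spread_mem_closure (hper : ∀ x, (⇑α)^[p] x = x) (hfix : ∀ x, α x = x → x = 0) (x : L) :
    spread (p := p) x ∈ AddSubgroup.closure {f : ZMod p → L | ∃ j, f ∈ eigFam α j} := by
  classical
  haveI : NeZero p := ⟨hp.out.ne_zero⟩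
  set A : ZMod p → L := fun i => (⇑α)^[i.val] x
  have hA : ∀ i, α (A i) = A (i + 1) := fun i => by
    show α ((⇑α)^[i.val] x) = (⇑α)^[(i + 1).val] x
    rw [← Function.iterate_succ_apply' (f := ⇑α), iterate_mod hper (i.val.succ), ZMod.val_add, ZMod.val_one]
  have hall : ∑ i, A i = 0 := hfix _ (by
    rw [map_sum, Finset.sum_congr rfl fun i _ => hA i]
    exact Equiv.sum_comp (Equiv.addRight (1 : ZMod p)) A)
  have hnon : ∑ i ∈ univ.erase (0 : ZMod p), A i = -x := by
    rw [eq_neg_iff_add_eq_zero, show x = A 0 by simp [A], Finset.sum_erase_add _ _ (Finset.mem_univ 0), hall]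
  have hsum : spread (p := p) x = ∑ j ∈ univ.erase (0 : ZMod p), fun k => A (-k * j⁻¹) := by
    funext k
    rw [Finset.sum_apply]
    by_cases hk : k = 0
    · subst hk
      rw [Finset.sum_congr rfl fun j _ => show A (-0 * j⁻¹) = x by simp [A], Finset.sum_const,
        Finset.card_erase_of_mem (Finset.mem_univ 0), Finset.card_univ, ZMod.card]
      show (if (0 : ZMod p) = 0 then p • x else 0) - x = _
      rw [if_pos rfl, sub_eq_iff_eq_add, ← succ_nsmul, Nat.sub_add_cancel hp.out.one_le]
    · show (if k = 0 then p • x else 0) - x = _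
      rw [if_neg hk, zero_sub, ← hnon]
      refine Finset.sum_nbij' (fun j => -k * j⁻¹) (fun j => -k * j⁻¹) ?_ ?_ ?_ ?_ ?_
      all_goals intro j hj
      · simp [hk, (Finset.mem_erase.1 hj).1]
      · simp [hk, (Finset.mem_erase.1 hj).1]
      · field_simp
      · field_simp
      · have hj0 := (Finset.mem_erase.1 hj).1
        congr 1
        field_simp
  rw [hsum]
  refine AddSubgroup.sum_mem _ fun j hj => AddSubgroup.subset_closure ⟨j, fun k => ?_⟩
  rw [hA]
  congr 1
  have := (Finset.mem_erase.1 hj).1
  field_simp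
  ring

theorem conv_spread (a b : L) : conv (p := p) β (spread a) (spread b) = p • spread (p := p) (β a b) := by
  classical
  funext k
  rw [conv_apply, Pi.smul_apply]
  simp only [spread, map_sub, AddMonoidHom.sub_apply, Finset.sum_sub_distrib]
  have e1 : ∀ c : ZMod p → L, ∑ t, β (if t = 0 then p • a else 0) (c t) = β (p • a) (c 0) := fun c => by
    rw [Finset.sum_eq_single (0 : ZMod p) (fun t _ ht => by simp [ht]) (by simp)]
    simp
  have e2 : ∑ t, β a (if k - t = 0 then p • b else 0) = β a (p • b) := by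
    rw [Finset.sum_eq_single k (fun t _ ht => by simp [sub_eq_zero, Ne.symm ht]) (by simp)]
    simp
  rw [e1 (fun t => if k - t = 0 then p • b else 0), e1 (fun _ => b), e2, Finset.sum_const, Finset.card_univ,
    ZMod.card]
  simp only [map_nsmul, AddMonoidHom.nsmul_apply, sub_zero]
  by_cases hk : k = 0 <;> simp [hk, smul_sub]

theorem conv_mem_closure {F : ZMod p → AddSubgroup (ZMod p → L)} {t : ℕ} {f g : ZMod p → L}
    (hf : f ∈ AddSubgroup.closure {f | ∃ k, f ∈ pw (conv β) F F t k})
    (hg : g ∈ AddSubgroup.closure {g | ∃ k, g ∈ F k}) :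
    conv β f g ∈ AddSubgroup.closure {f | ∃ k, f ∈ pw (conv β) F F (t + 1) k} := by
  refine left_mem_of_closure hf ?_
  rintro f' ⟨i, hf'⟩
  refine right_mem_of_closure hg ?_
  rintro g' ⟨j, hg'⟩
  exact AddSubgroup.subset_closure ⟨i + j, mem_bk hf' hg'⟩

/-- Vanishing transfers from the eigenfamily. -/
theorem foldl_eq_zero (hper : ∀ x, (⇑α)^[p] x = x) (hfix : ∀ x, α x = x → x = 0)
    {N : ℕ} (hN : N.Coprime p) (hexp : ∀ x : L, N • x = 0) (t : ℕ)
    (hbot : ∀ k, pw (conv β) (eigFam (p := p) α) (eigFam α) t k = ⊥) (m : L) (l : List L) (hl : l.length = t) :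
    l.foldl (fun a x => β a x) m = 0 := by
  haveI : NeZero p := ⟨hp.out.ne_zero⟩
  have key : ∀ (l : List L) (s e : ℕ) (w : L),
      p ^ e • spread (p := p) w ∈ AddSubgroup.closure {f | ∃ k, f ∈ pw (conv β) (eigFam α) (eigFam α) s k} →
      p ^ (e + l.length) • spread (p := p) (l.foldl (fun a x => β a x) w) ∈
        AddSubgroup.closure {f | ∃ k, f ∈ pw (conv β) (eigFam α) (eigFam α) (s + l.length) k} := by
    intro l
    induction l with
    | nil => intro s e w h; simpa using h
    | cons x l ih =>
      intro s e w h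
      rw [List.length_cons, show e + (l.length + 1) = e + 1 + l.length by ring,
        show s + (l.length + 1) = s + 1 + l.length by ring]
      refine ih (s + 1) (e + 1) (β w x) ?_
      have := conv_mem_closure h (spread_mem_closure hper hfix x)
      rwa [map_nsmul, AddMonoidHom.nsmul_apply, conv_spread, ← mul_smul, ← pow_succ] at this
  have h0 : p ^ 0 • spread (p := p) m ∈
      AddSubgroup.closure {f | ∃ k, f ∈ pw (conv β) (eigFam α) (eigFam α) 0 k} := by
    rw [pow_zero, one_smul]
    exact spread_mem_closure hper hfix m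
  have h1 := key l 0 0 m h0
  rw [zero_add, hl] at h1
  have h2 : AddSubgroup.closure {f | ∃ k, f ∈ pw (conv β) (eigFam (p := p) α) (eigFam α) t k} = ⊥ := by
    rw [eq_bot_iff, AddSubgroup.closure_le]
    rintro f ⟨k, hk⟩
    rw [hbot k] at hk
    exact hk
  rw [h2, AddSubgroup.mem_bot] at h1
  have h3 := congrFun h1 1
  simp only [Pi.smul_apply, spread, if_neg (one_ne_zero : (1 : ZMod p) ≠ 0), zero_sub, smul_neg, Pi.zero_apply,
    neg_eq_zero] at h3
  have hcop : N.Coprime (p ^ t) := hN.pow_right t
  have ha : addOrderOf (l.foldl (fun a x => β a x) m) = 1 :=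
    Nat.eq_one_of_dvd_coprimes hcop (addOrderOf_dvd_of_nsmul_eq_zero (hexp _)) (addOrderOf_dvd_of_nsmul_eq_zero h3)
  exact AddMonoid.addOrderOf_eq_one_iff.1 ha

end CfsgLib.FGS68
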