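import Cfsg.Agent.Lib.FGS68.Kreknin
import Mathlib

/-!
The Lie ring of the lower central series of a group.
-/

set_option autoImplicit false

namespace CfsgLib.FGS68

open scoped commutatorElement DirectSum

variable (G : Type*) [Group G]

/-- A term of the lower central series. -/
abbrev lcsTerm (i : ℕ) : Subgroup G := (⊤ : Subgroup G).lowerCentralSeries i

variable {G}

theorem lcsTerm_normal : ∀ i, (lcsTerm G i).Normal
  | 0 => (inferInstance : (⊤ : Subgroup G).Normal)
  | i + 1 => by
    haveI := lcsTerm_normal i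
    exact Subgroup.commutator_normal _ _

theorem comm_top_le (i : ℕ) : ⁅lcsTerm G i, (⊤ : Subgroup G)⁆ ≤ lcsTerm G (i + 1) := le_rfl

theorem commutator_lcsTerm_le (j : ℕ) : ∀ i, ⁅lcsTerm G i, lcsTerm G j⁆ ≤ lcsTerm G (i + j + 1) := by
  induction j with
  | zero => intro i; exact le_rfl
  | succ j ih =>
    intro i
    haveI := lcsTerm_normal (G := G) (i + (j + 1) + 1)
    set T := lcsTerm G (i + (j + 1) + 1)
    have h1 : ⁅⁅(⊤ : Subgroup G), lcsTerm G i⁆, lcsTerm G j⁆ ≤ T := by
      rw [Subgroup.commutator_comm ⊤ (lcsTerm G i)]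
      refine (ih (i + 1)).trans_eq ?_
      rw [show i + 1 + j + 1 = i + (j + 1) + 1 by ring]
    have h2 : ⁅⁅lcsTerm G i, lcsTerm G j⁆, (⊤ : Subgroup G)⁆ ≤ T :=
      (Subgroup.commutator_mono (ih i) le_rfl).trans_eq (by
        show lcsTerm G (i + j + 1 + 1) = T
        rw [show i + j + 1 + 1 = i + (j + 1) + 1 by ring])
    have e : ∀ U V W : Subgroup G, ⁅⁅U, V⁆, W⁆ ≤ T ↔
        ⁅⁅U.map (QuotientGroup.mk' T), V.map (QuotientGroup.mk' T)⁆, W.map (QuotientGroup.mk' T)⁆ = ⊥ := by
      intro U V W
      rw [← Subgroup.map_commutator, ← Subgroup.map_commutator, Subgroup.map_eq_bot_iff, QuotientGroup.ker_mk']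
    rw [Subgroup.commutator_comm]
    show ⁅⁅lcsTerm G j, (⊤ : Subgroup G)⁆, lcsTerm G i⁆ ≤ T
    rw [e] at h1 h2 ⊢
    exact Subgroup.commutator_commutator_eq_bot_of_rotate h1 h2

theorem commutatorElement_mem_lcsTerm {i j : ℕ} {x y : G} (hx : x ∈ lcsTerm G i) (hy : y ∈ lcsTerm G j) :
    ⁅x, y⁆ ∈ lcsTerm G (i + j + 1) :=
  commutator_lcsTerm_le j i (Subgroup.commutator_mem_commutator hx hy)

theorem lcsTerm_le {i j : ℕ} (h : i ≤ j) : lcsTerm G j ≤ lcsTerm G i :=
  Subgroup.lowerCentralSeries_antitone _ h

instance instNormalLayer (i : ℕ) : ((lcsTerm G (i + 1)).subgroupOf (lcsTerm G i)).Normal :=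
  (lcsTerm_normal (i + 1)).comap _

instance instCommGroupLayer (i : ℕ) : CommGroup (↥(lcsTerm G i) ⧸ (lcsTerm G (i + 1)).subgroupOf (lcsTerm G i)) :=
  { (inferInstance : Group (↥(lcsTerm G i) ⧸ (lcsTerm G (i + 1)).subgroupOf (lcsTerm G i))) with
    mul_comm := fun a b => by
      induction a using QuotientGroup.induction_on with | _ u => ?_
      induction b using QuotientGroup.induction_on with | _ v => ?_
      rw [← QuotientGroup.mk_mul, ← QuotientGroup.mk_mul, QuotientGroup.eq]
      have e : (u * v)⁻¹ * (v * u) = ⁅v⁻¹, u⁻¹⁆ := by simp [commutatorElement_def, mul_assoc]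
      rw [e]
      exact Subgroup.commutator_mem_commutator (v⁻¹).2 (Subgroup.mem_top _) }

variable (G)

/-- A layer of the lower central series. -/
abbrev Layer (i : ℕ) : Type _ := Additive (↥(lcsTerm G i) ⧸ (lcsTerm G (i + 1)).subgroupOf (lcsTerm G i))

/-- The Lie ring of the group. -/
abbrev GLie : Type _ := ⨁ i, Layer G i

variable {G}

/-- The class of an element in the Lie ring. -/
noncomputable def el (i : ℕ) (x : G) (hx : x ∈ lcsTerm G i) : GLie G :=
  DirectSum.of (Layer G) i (Additive.ofMul (QuotientGroup.mk ⟨x, hx⟩))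

theorem el_congr {i j : ℕ} (h : i = j) {x y : G} (e : x = y) (hx : x ∈ lcsTerm G i) (hy : y ∈ lcsTerm G j) :
    el i x hx = el j y hy := by
  subst h; subst e; rfl

theorem el_mul {i : ℕ} {x y : G} (hx : x ∈ lcsTerm G i) (hy : y ∈ lcsTerm G i) (h : x * y ∈ lcsTerm G i) :
    el i (x * y) h = el i x hx + el i y hy := by
  show DirectSum.of (Layer G) i _ = DirectSum.of (Layer G) i _ + DirectSum.of (Layer G) i _
  rw [← map_add]
  rfl

theorem el_eq_zero {i : ℕ} {x : G} (hx : x ∈ lcsTerm G i) : el i x hx = 0 ↔ x ∈ lcsTerm G (i + 1) := by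
  show DirectSum.of (Layer G) i _ = 0 ↔ _
  rw [map_eq_zero_iff _ (DirectSum.of_injective i)]
  show (QuotientGroup.mk (⟨x, hx⟩ : lcsTerm G i) : ↥(lcsTerm G i) ⧸ _) = 1 ↔ _
  rw [QuotientGroup.eq_one_iff]
  rfl

theorem el_conj {i : ℕ} (g : G) {u : G} (hu : u ∈ lcsTerm G i) (h : g * u * g⁻¹ ∈ lcsTerm G i) :
    el i (g * u * g⁻¹) h = el i u hu := by
  have hc : ⁅g, u⁆ ∈ lcsTerm G (i + 1) := by
    have := commutatorElement_mem_lcsTerm (i := 0) (x := g) trivial hu
    rwa [zero_add] at this
  have e : g * u * g⁻¹ = ⁅g, u⁆ * u := by simp [commutatorElement_def, mul_assoc]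
  rw [el_congr rfl e h (e ▸ h), el_mul (lcsTerm_le (Nat.le_succ i) hc) hu, (el_eq_zero _).2 hc, zero_add]

theorem el_one {i : ℕ} : el i (1 : G) (one_mem _) = 0 := (el_eq_zero _).2 (one_mem _)

theorem el_inv {i : ℕ} {x : G} (hx : x ∈ lcsTerm G i) : el i x⁻¹ (inv_mem hx) = -el i x hx := by
  rw [eq_neg_iff_add_eq_zero, ← el_mul _ _ (mul_mem (inv_mem hx) hx),
    el_congr rfl (inv_mul_cancel x) _ (one_mem _), el_one]

/-- Bracket with a fixed element. -/
noncomputable def innerHom (i j : ℕ) (x : lcsTerm G i) : Layer G j →+ GLie G :=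
  MonoidHom.toAdditiveLeft <| QuotientGroup.lift _
    ({ toFun := fun y : lcsTerm G j => Multiplicative.ofAdd
          (el (i + j + 1) ⁅(x : G), (y : G)⁆ (commutatorElement_mem_lcsTerm x.2 y.2))
       map_one' := by
          exact congrArg Multiplicative.ofAdd ((el_eq_zero _).2 (by simp [one_mem]))
       map_mul' := fun y z => by
          refine congrArg Multiplicative.ofAdd ?_
          have hz := commutatorElement_mem_lcsTerm x.2 z.2
          have hc : (y : G) * ⁅(x : G), (z : G)⁆ * (y : G)⁻¹ ∈ lcsTerm G (i + j + 1) :=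
            (lcsTerm_normal _).conj_mem _ hz _
          rw [el_congr rfl (show ⁅(x : G), ((y * z : lcsTerm G j) : G)⁆ =
              ⁅(x : G), (y : G)⁆ * ((y : G) * ⁅(x : G), (z : G)⁆ * (y : G)⁻¹) by
              rw [Subgroup.coe_mul, commutatorElement_mul_right_eq_mul_conj]; simp [mul_assoc])
              _ (mul_mem (commutatorElement_mem_lcsTerm x.2 y.2) hc),
            el_mul (commutatorElement_mem_lcsTerm x.2 y.2) hc, el_conj _ hz hc]
          rfl } :
      lcsTerm G j →* Multiplicative (GLie G))
    (fun y hy => by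
      refine congrArg Multiplicative.ofAdd ((el_eq_zero _).2 ?_)
      have h := commutatorElement_mem_lcsTerm x.2 (Subgroup.mem_subgroupOf.1 hy)
      exact lcsTerm_le (le_of_eq (by ring)) h)

theorem innerHom_mk (i j : ℕ) (x : lcsTerm G i) (y : lcsTerm G j) :
    innerHom i j x (Additive.ofMul (QuotientGroup.mk y)) =
      el (i + j + 1) ⁅(x : G), (y : G)⁆ (commutatorElement_mem_lcsTerm x.2 y.2) := rfl

/-- Bracket of two layers. -/
noncomputable def layerBr (i j : ℕ) : Layer G i →+ Layer G j →+ GLie G :=
  MonoidHom.toAdditiveLeft <| QuotientGroup.lift _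
    ({ toFun := fun x : lcsTerm G i => Multiplicative.ofAdd (innerHom i j x)
       map_one' := by
          refine congrArg Multiplicative.ofAdd (DFunLike.ext _ _ fun v => ?_)
          obtain ⟨v, rfl⟩ := Additive.ofMul.surjective v
          induction v using QuotientGroup.induction_on with | _ y => ?_
          rw [innerHom_mk, el_congr rfl (show ⁅((1 : lcsTerm G i) : G), (y : G)⁆ = 1 by simp) _ (one_mem _),
            el_one]
          rfl
       map_mul' := fun x z => by
          refine congrArg Multiplicative.ofAdd (DFunLike.ext _ _ fun v => ?_)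
          obtain ⟨v, rfl⟩ := Additive.ofMul.surjective v
          induction v using QuotientGroup.induction_on with | _ y => ?_
          show _ = innerHom i j x _ + innerHom i j z _
          have hz := commutatorElement_mem_lcsTerm z.2 y.2
          have hc : (x : G) * ⁅(z : G), (y : G)⁆ * (x : G)⁻¹ ∈ lcsTerm G (i + j + 1) :=
            (lcsTerm_normal _).conj_mem _ hz _
          rw [innerHom_mk, innerHom_mk, innerHom_mk,
            el_congr rfl (show ⁅((x * z : lcsTerm G i) : G), (y : G)⁆ =
              ((x : G) * ⁅(z : G), (y : G)⁆ * (x : G)⁻¹) * ⁅(x : G), (y : G)⁆ by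
              rw [Subgroup.coe_mul, commutatorElement_mul_left_eq_conj_mul])
              _ (mul_mem hc (commutatorElement_mem_lcsTerm x.2 y.2)),
            el_mul hc (commutatorElement_mem_lcsTerm x.2 y.2), el_conj _ hz hc, add_comm] } :
      lcsTerm G i →* Multiplicative (Layer G j →+ GLie G))
    (fun x hx => by
      refine congrArg Multiplicative.ofAdd (DFunLike.ext _ _ fun v => ?_)
      obtain ⟨v, rfl⟩ := Additive.ofMul.surjective v
      induction v using QuotientGroup.induction_on with | _ y => ?_
      rw [innerHom_mk]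
      refine (el_eq_zero _).2 ?_
      have h := commutatorElement_mem_lcsTerm (Subgroup.mem_subgroupOf.1 hx) y.2
      exact lcsTerm_le (le_of_eq (by ring)) h)

variable (G) in
/-- The bracket of the Lie ring. -/
noncomputable def lieBr : GLie G →+ GLie G →+ GLie G :=
  DirectSum.toAddMonoid fun i => (DirectSum.toAddMonoid fun j => (layerBr (G := G) i j).flip).flip

theorem lieBr_el {i j : ℕ} {x y : G} (hx : x ∈ lcsTerm G i) (hy : y ∈ lcsTerm G j) :
    lieBr G (el i x hx) (el j y hy) = el (i + j + 1) ⁅x, y⁆ (commutatorElement_mem_lcsTerm hx hy) := by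
  show lieBr G (DirectSum.of (Layer G) i _) (DirectSum.of (Layer G) j _) = _
  rw [lieBr, DirectSum.toAddMonoid_of, AddMonoidHom.flip_apply, DirectSum.toAddMonoid_of]
  rfl

theorem glie_induction {P : GLie G → Prop} (h0 : P 0) (hel : ∀ i x hx, P (el i x hx))
    (hadd : ∀ a b, P a → P b → P (a + b)) (a : GLie G) : P a := by
  induction a using DirectSum.induction_on with
  | zero => exact h0
  | of i v =>
    obtain ⟨v, rfl⟩ := Additive.ofMul.surjective v
    induction v using QuotientGroup.induction_on with | _ y => ?_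
    exact hel i y y.2
  | add a b ha hb => exact hadd a b ha hb

theorem lieBr_anti (a b : GLie G) : lieBr G a b = -lieBr G b a := by
  induction a using glie_induction with
  | h0 => simp
  | hadd a a' ha ha' => rw [map_add, AddMonoidHom.add_apply, ha, ha', map_add, neg_add]
  | hel i x hx =>
    induction b using glie_induction with
    | h0 => simp
    | hadd b b' hb hb' => rw [map_add, hb, hb', map_add, AddMonoidHom.add_apply, neg_add]
    | hel j y hy =>
      rw [lieBr_el, lieBr_el, ← el_inv]
      exact el_congr (by ring) (commutatorElement_inv y x).symm _ _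

theorem lieBr_cyclic (a b c : GLie G) :
    lieBr G (lieBr G a b) c + lieBr G (lieBr G b c) a + lieBr G (lieBr G c a) b = 0 := by
  induction a using glie_induction with
  | h0 => simp
  | hadd a a' ha ha' =>
    simp only [map_add, AddMonoidHom.add_apply]
    rw [show ∀ u u' v v' w w' : GLie G, u + u' + (v + v') + (w + w') = u + v + w + (u' + v' + w') from
      fun u u' v v' w w' => by abel, ha, ha', add_zero]
  | hel i x hx =>
    induction b using glie_induction with
    | h0 => simp
    | hadd b b' hb hb' =>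
      simp only [map_add, AddMonoidHom.add_apply]
      rw [show ∀ u u' v v' w w' : GLie G, u + u' + (v + v') + (w + w') = u + v + w + (u' + v' + w') from
        fun u u' v v' w w' => by abel, hb, hb', add_zero]
    | hel j y hy =>
      induction c using glie_induction with
      | h0 => simp
      | hadd c c' hc hc' =>
        simp only [map_add, AddMonoidHom.add_apply]
        rw [show ∀ u u' v v' w w' : GLie G, u + u' + (v + v') + (w + w') = u + v + w + (u' + v' + w') from
          fun u u' v v' w w' => by abel, hc, hc', add_zero]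
      | hel k z hz =>
        have hz' : y * z * y⁻¹ ∈ lcsTerm G k := (lcsTerm_normal k).conj_mem _ hz _
        have hx' : z * x * z⁻¹ ∈ lcsTerm G i := (lcsTerm_normal i).conj_mem _ hx _
        have hy' : x * y * x⁻¹ ∈ lcsTerm G j := (lcsTerm_normal j).conj_mem _ hy _
        conv_lhs =>
          arg 1; arg 1; arg 2; rw [← el_conj y hz hz']
        conv_lhs =>
          arg 1; arg 2; arg 2; rw [← el_conj z hx hx']
        conv_lhs =>
          arg 2; arg 2; rw [← el_conj x hy hy']
        simp only [lieBr_el]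
        have m1 := commutatorElement_mem_lcsTerm (commutatorElement_mem_lcsTerm hx hy) hz'
        have m2 := commutatorElement_mem_lcsTerm (commutatorElement_mem_lcsTerm hy hz) hx'
        have m3 := commutatorElement_mem_lcsTerm (commutatorElement_mem_lcsTerm hz hx) hy'
        have e2 : j + k + 1 + i + 1 = i + j + 1 + k + 1 := by ring
        have e3 : k + i + 1 + j + 1 = i + j + 1 + k + 1 := by ring
        rw [el_congr e2 rfl _ (e2 ▸ m2), el_congr e3 rfl _ (e3 ▸ m3), ← el_mul _ _ (mul_mem m1 (e2 ▸ m2)),
          ← el_mul _ _ (mul_mem (mul_mem m1 (e2 ▸ m2)) (e3 ▸ m3)),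
          el_congr rfl (commutatorElement_commutatorElement_conj_mul x y z) _ (one_mem _), el_one]

theorem jacobiId_lieBr : JacobiId (lieBr G) := by
  intro a b c
  have h := lieBr_cyclic a b c
  rw [lieBr_anti (lieBr G b c) a, lieBr_anti c a, map_neg (lieBr G), AddMonoidHom.neg_apply] at h
  rw [← sub_eq_zero, ← h]
  abel

end CfsgLib.FGS68
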