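import Cfsg.Agent.S0033
import Cfsg.Agent.Lib.FGS68.EigenFam
import Cfsg.Agent.Lib.FGS68.LieRingOfGroup
import Mathlib

/-!
The class of a finite group with an automorphism of prime order without fixed points.
-/

set_option autoImplicit false

namespace CfsgLib.FGS68

open scoped commutatorElement

variable {G : Type*} [Group G]

/-- The image of a layer under an automorphism. -/
noncomputable def layerMap (φ : MulAut G) (i : ℕ) : Layer G i →+ Layer G i :=
  MonoidHom.toAdditive <| QuotientGroup.map _ _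
    ({ toFun := fun x => ⟨φ x, (Subgroup.lowerCentralSeries.map φ.toMonoidHom i).trans
          (Subgroup.lowerCentralSeries_mono i le_top) ⟨x, x.2, rfl⟩⟩
       map_one' := Subtype.ext (map_one φ)
       map_mul' := fun x y => Subtype.ext (map_mul φ _ _) } : lcsTerm G i →* lcsTerm G i)
    (fun x hx => (Subgroup.lowerCentralSeries.map φ.toMonoidHom (i + 1)).trans
      (Subgroup.lowerCentralSeries_mono (i + 1) le_top) ⟨x, Subgroup.mem_subgroupOf.1 hx, rfl⟩)

/-- The induced map of the Lie ring. -/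
noncomputable def glieMap (φ : MulAut G) : GLie G →+ GLie G :=
  DirectSum.map (layerMap φ)

theorem map_mem_lcsTerm (φ : MulAut G) {i : ℕ} {x : G} (hx : x ∈ lcsTerm G i) : φ x ∈ lcsTerm G i :=
  (Subgroup.lowerCentralSeries.map φ.toMonoidHom i).trans
    (Subgroup.lowerCentralSeries_mono i le_top) ⟨x, hx, rfl⟩

theorem glieMap_el (φ : MulAut G) {i : ℕ} {x : G} (hx : x ∈ lcsTerm G i) :
    glieMap φ (el i x hx) = el i (φ x) (map_mem_lcsTerm φ hx) :=
  DirectSum.map_of (layerMap φ) i _

theorem glieMap_lieBr (φ : MulAut G) (a b : GLie G) :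
    glieMap φ (lieBr G a b) = lieBr G (glieMap φ a) (glieMap φ b) := by
  induction a using glie_induction with
  | h0 => simp
  | hadd a a' ha ha' => simp only [map_add, AddMonoidHom.add_apply, ha, ha']
  | hel i x hx =>
    induction b using glie_induction with
    | h0 => simp
    | hadd b b' hb hb' => simp only [map_add, hb, hb']
    | hel j y hy =>
      rw [lieBr_el, glieMap_el, glieMap_el, glieMap_el, lieBr_el]
      exact el_congr rfl (map_commutatorElement φ x y) _ _

theorem glieMap_iterate_el (φ : MulAut G) {i : ℕ} {x : G} (hx : x ∈ lcsTerm G i) :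
    ∀ n : ℕ, ∃ h, (⇑(glieMap φ))^[n] (el i x hx) = el i ((φ ^ n) x) h
  | 0 => ⟨hx, rfl⟩
  | n + 1 => by
    obtain ⟨h, e⟩ := glieMap_iterate_el φ hx n
    refine ⟨?_, ?_⟩
    · rw [pow_succ']; exact map_mem_lcsTerm φ h
    · rw [Function.iterate_succ_apply', e, glieMap_el]
      exact el_congr rfl (by rw [pow_succ']; rfl) _ _

theorem glie_component_fixed (φ : MulAut G) [Finite G] (hfpf : ∀ g, φ g = g → g = 1) (a : GLie G)
    (ha : glieMap φ a = a) : a = 0 := by
  refine DFinsupp.ext fun i => ?_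
  have h : layerMap φ i (a i) = a i := by
    have := congrArg (fun f : GLie G => f i) ha
    simpa [glieMap, DirectSum.map_apply] using this
  show a i = 0
  revert h
  generalize a i = v
  intro h
  obtain ⟨v, rfl⟩ := Additive.ofMul.surjective v
  induction v using QuotientGroup.induction_on with | _ x => ?_
  have h1 : (x : G)⁻¹ * φ x ∈ lcsTerm G (i + 1) :=
    Subgroup.mem_subgroupOf.1 (QuotientGroup.eq.1 (congrArg Additive.toMul h).symm)
  let ψ : lcsTerm G (i + 1) → lcsTerm G (i + 1) := fun u =>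
    ⟨(u : G)⁻¹ * φ u, mul_mem (inv_mem u.2) (map_mem_lcsTerm φ u.2)⟩
  have hψ : Function.Injective ψ := by
    intro u w huw
    have e : (u : G)⁻¹ * φ u = (w : G)⁻¹ * φ w := congrArg Subtype.val huw
    have h2 : φ ((u : G) * (w : G)⁻¹) = u * (w : G)⁻¹ := by
      rw [map_mul, map_inv]
      calc φ u * (φ w)⁻¹ = (u : G) * ((u : G)⁻¹ * φ u) * (φ w)⁻¹ := by simp [mul_assoc]
        _ = _ := by rw [e]; simp [mul_assoc]
    exact Subtype.ext (mul_inv_eq_one.1 (hfpf _ h2))
  obtain ⟨u, hu⟩ := Finite.injective_iff_surjective.1 hψ ⟨_, h1⟩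
  have e : (u : G)⁻¹ * φ u = (x : G)⁻¹ * φ x := congrArg Subtype.val hu
  have h2 : φ ((x : G) * (u : G)⁻¹) = x * (u : G)⁻¹ := by
    rw [map_mul, map_inv]
    calc φ x * (φ u)⁻¹ = (x : G) * ((x : G)⁻¹ * φ x) * (φ u)⁻¹ := by simp [mul_assoc]
      _ = _ := by rw [← e]; simp [mul_assoc]
  have hxu : (x : G) = u := mul_inv_eq_one.1 (hfpf _ h2)
  show Additive.ofMul (QuotientGroup.mk x) = Additive.ofMul 1
  rw [(QuotientGroup.eq_one_iff x).2 (Subgroup.mem_subgroupOf.2 (hxu ▸ u.2))]

theorem glie_nsmul_card [Finite G] (a : GLie G) : Nat.card G • a = 0 := by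
  induction a using glie_induction with
  | h0 => simp
  | hadd a b ha hb => rw [nsmul_add, ha, hb, add_zero]
  | hel i x hx =>
    show Nat.card G • DirectSum.of (Layer G) i (Additive.ofMul (QuotientGroup.mk (⟨x, hx⟩ : lcsTerm G i))) = 0
    rw [← map_nsmul, ← ofMul_pow, ← QuotientGroup.mk_pow,
      show (⟨x, hx⟩ : lcsTerm G i) ^ Nat.card G = 1 from Subtype.ext (pow_card_eq_one' (x := x))]
    exact map_zero _

theorem el_mem_folds : ∀ (t : ℕ) (x : G) (hx : x ∈ lcsTerm G t), el t x hx ∈ AddSubgroup.closure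
    {a : GLie G | ∃ (m : GLie G) (l : List (GLie G)), l.length = t ∧ l.foldl (fun u v => lieBr G u v) m = a}
  | 0, x, hx => AddSubgroup.subset_closure ⟨el 0 x hx, [], rfl, rfl⟩
  | t + 1, x, hx => by
    set S := AddSubgroup.closure {a : GLie G | ∃ (m : GLie G) (l : List (GLie G)), l.length = t + 1 ∧
      l.foldl (fun u v => lieBr G u v) m = a}
    let T : Subgroup G :=
      { carrier := {g | ∃ h : g ∈ lcsTerm G (t + 1), el (t + 1) g h ∈ S}
        one_mem' := ⟨one_mem _, by rw [el_one]; exact zero_mem _⟩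
        mul_mem' := fun {a b} ⟨ha, ha'⟩ ⟨hb, hb'⟩ => ⟨mul_mem ha hb, by rw [el_mul ha hb]; exact add_mem ha' hb'⟩
        inv_mem' := fun {a} ⟨ha, ha'⟩ => ⟨inv_mem ha, by rw [el_inv ha]; exact neg_mem ha'⟩ }
    suffices hle : lcsTerm G (t + 1) ≤ T by
      obtain ⟨h, h'⟩ := hle hx
      exact h'
    show ⁅lcsTerm G t, (⊤ : Subgroup G)⁆ ≤ T
    rw [Subgroup.commutator_le]
    intro a ha b hb
    have hab : ⁅a, b⁆ ∈ lcsTerm G (t + 1) := Subgroup.commutator_mem_commutator ha hb
    have hb0 : b ∈ lcsTerm G 0 := hb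
    refine ⟨hab, ?_⟩
    have e : el (t + 1) ⁅a, b⁆ hab = lieBr G (el t a ha) (el 0 b hb0) :=
      (el_congr rfl rfl _ _).trans (lieBr_el ha hb0).symm
    rw [e]
    refine left_mem_of_closure (el_mem_folds t a ha) ?_
    rintro _ ⟨m, l, hl, rfl⟩
    exact AddSubgroup.subset_closure ⟨m, l ++ [el 0 b hb], by simp [hl], by simp⟩

theorem lcsTerm_eq_bot_of_bound [Finite G] {p : ℕ} (hp : p.Prime) (α : MulAut G) (hα : orderOf α = p)
    (hfpf : ∀ g, α g = g → g = 1) (t : ℕ)
    (hbound : ∀ (β : GLie G →+ GLie G →+ GLie G) (F : ZMod p → AddSubgroup (ZMod p → GLie G)),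
      haveI := Fact.mk hp; JacobiId β → GradedFam (conv β) F → ∀ k, pw (conv β) F F t k = ⊥) :
    (⊤ : Subgroup G).lowerCentralSeries t = ⊥ := by
  haveI := Fact.mk hp
  haveI hnil : Group.IsNilpotent G := Cfsg.Agent.S0033.result α (fun g hg => hfpf g hg) p hp hα
  -- the order is prime to `p`
  have hcop : (Nat.card G).Coprime p := by
    have hP : IsPGroup p (Subgroup.zpowers α) := IsPGroup.of_card (n := 1) (by rw [Nat.card_zpowers, hα, pow_one])
    have h := hP.card_modEq_card_fixedPoints G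
    have hfix : MulAction.fixedPoints (Subgroup.zpowers α) G = {1} := by
      ext g
      simp only [MulAction.mem_fixedPoints, Set.mem_singleton_iff]
      constructor
      · exact fun hg => hfpf g (hg ⟨α, Subgroup.mem_zpowers α⟩)
      · rintro rfl m
        exact map_one (m : MulAut G)
    rw [hfix, Nat.card_coe_set_eq, Set.ncard_singleton] at h
    rw [Nat.coprime_comm, hp.coprime_iff_not_dvd]
    intro hd
    rw [Nat.ModEq, Nat.mod_eq_zero_of_dvd hd, Nat.mod_eq_of_lt hp.one_lt] at h
    omega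
  have hper : ∀ a : GLie G, (⇑(glieMap α))^[p] a = a := by
    intro a
    induction a using glie_induction with
    | h0 => exact iterate_map_zero _ p
    | hadd a b ha hb => rw [iterate_map_add, ha, hb]
    | hel i x hx =>
      obtain ⟨h, e⟩ := glieMap_iterate_el α hx p
      rw [e]
      exact el_congr rfl (by rw [← hα, pow_orderOf_eq_one]; rfl) _ _
  have hfixL : ∀ a : GLie G, glieMap α a = a → a = 0 := glie_component_fixed α hfpf
  have hgraded : GradedFam (conv (p := p) (lieBr G)) (eigFam (glieMap α)) :=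
    gradedFam_eig hfixL (glieMap_lieBr α)
  have hzero : ∀ (m : GLie G) (l : List (GLie G)), l.length = t → l.foldl (fun u v => lieBr G u v) m = 0 :=
    fun m l hl => foldl_eq_zero hper hfixL hcop glie_nsmul_card t
      (hbound (lieBr G) _ jacobiId_lieBr hgraded) m l hl
  have hle : lcsTerm G t ≤ lcsTerm G (t + 1) := by
    intro x hx
    refine (el_eq_zero hx).1 ?_
    have h2 : AddSubgroup.closure {a : GLie G | ∃ (m : GLie G) (l : List (GLie G)), l.length = t ∧
        l.foldl (fun u v => lieBr G u v) m = a} = ⊥ := by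
      rw [eq_bot_iff, AddSubgroup.closure_le]
      rintro _ ⟨m, l, hl, rfl⟩
      exact hzero m l hl
    have h3 := el_mem_folds t x hx
    rwa [h2, AddSubgroup.mem_bot] at h3
  obtain ⟨c, hc⟩ := Subgroup.nilpotent_iff_lowerCentralSeries.1 hnil
  have hall : ∀ m, lcsTerm G t ≤ lcsTerm G (t + m) := by
    intro m
    induction m with
    | zero => exact le_rfl
    | succ m ih => exact hle.trans (Subgroup.commutator_mono ih le_rfl)
  exact eq_bot_iff.2 (((hall c).trans (lcsTerm_le (by omega))).trans_eq hc)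

end CfsgLib.FGS68
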