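import Mathlib

/-!
Small general lemmas: normalisers and characteristic subgroups.
-/

namespace CfsgLib.FGS68

variable {G : Type*} [Group G]

/-- The normaliser of `A` normalises every characteristic subgroup of `A`. -/
theorem normalizer_le_map_of_char (A : Subgroup G) (C : Subgroup A) [C.Characteristic] :
    Subgroup.normalizer (A : Set G) ≤ Subgroup.normalizer ((C.map A.subtype : Subgroup G) : Set G) := by
  intro g hg
  refine Subgroup.mem_normalizer_iff_map_conj_eq.2 ?_
  set φ : MulAut A := A.normalizerMonoidHom ⟨g, hg⟩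
  have h := Subgroup.characteristic_iff_map_eq.1 ‹C.Characteristic› φ
  have e : (MulAut.conj g).toMonoidHom.comp A.subtype = A.subtype.comp φ.toMonoidHom := by
    ext a
    rfl
  calc (C.map A.subtype).map (MulAut.conj g).toMonoidHom = (C.map φ.toMonoidHom).map A.subtype := by
        rw [Subgroup.map_map, e, ← Subgroup.map_map]
    _ = _ := by rw [h]

/-- Conjugation carries normalisers to normalisers. -/
theorem normalizer_map_conj (g : G) (T : Subgroup G) :
    Subgroup.normalizer ((T.map (MulAut.conj g).toMonoidHom : Subgroup G) : Set G) =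
      (Subgroup.normalizer (T : Set G)).map (MulAut.conj g).toMonoidHom := by
  rw [Subgroup.map_equiv_normalizer_eq]

theorem map_conj_inv (g : G) (W : Subgroup G) :
    (W.map (MulAut.conj g⁻¹).toMonoidHom).map (MulAut.conj g).toMonoidHom = W := by
  rw [Subgroup.map_map]
  convert W.map_id using 2
  ext x
  simp [mul_assoc]

theorem mem_map_conj_iff {g x : G} {W : Subgroup G} :
    x ∈ W.map (MulAut.conj g).toMonoidHom ↔ g⁻¹ * x * g ∈ W := by
  constructor
  · rintro ⟨w, hw, rfl⟩
    simpa [mul_assoc] using hw
  · intro h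
    exact ⟨_, h, by simp [mul_assoc]⟩

/-- An element of a nilpotent setting: if a `p`-power of `v` lies in `D` and `v` has `p'`-order, then `v ∈ D`. -/
theorem mem_of_pow_prime_pow_mem {p : ℕ} (D : Subgroup G) {v : G} (hv : (orderOf v).Coprime p) {k : ℕ}
    (h : v ^ p ^ k ∈ D) : v ∈ D := by
  obtain ⟨m, hm⟩ := exists_pow_eq_self_of_coprime (hv.symm.pow_left k)
  rw [← hm]
  exact pow_mem h m

end CfsgLib.FGS68
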