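import Cfsg.Agent.Lib.Solvable.Core
import Mathlib

/-!
The Fitting subgroup of a normal subgroup as the set of elements centralising chief factors.
-/

namespace CfsgLib.FGS68

open scoped commutatorElement

variable {G : Type*} [Group G]

/-- `U / V` is a chief factor. -/
abbrev IsChiefPair (U V : Subgroup G) : Prop :=
  U.Normal ∧ V.Normal ∧ V < U ∧ ∀ W : Subgroup G, W.Normal → V ≤ W → W ≤ U → W = V ∨ W = U

/-- A nilpotent normal subgroup centralises every chief factor. -/
theorem nilpotent_centralizes_chief [Finite G] (F : Subgroup G) [F.Normal] [hnil : Group.IsNilpotent F]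
    (U V : Subgroup G) (hUV : IsChiefPair U V) {u f : G} (hu : u ∈ U) (hf : f ∈ F) :
    u * f * u⁻¹ * f⁻¹ ∈ V := by
  obtain ⟨hU, hV, hlt, hmin⟩ := hUV
  haveI := hU
  haveI := hV
  have hle : ⁅U, F⁆ ⊔ V ≤ U := sup_le (Subgroup.commutator_le_left U F) hlt.le
  rcases hmin (⁅U, F⁆ ⊔ V) inferInstance le_sup_right hle with h | h
  · rw [← commutatorElement_def, ← h]
    exact Subgroup.mem_sup_left (Subgroup.commutator_mem_commutator hu hf)
  exfalso
  obtain ⟨c, hc⟩ := (Subgroup.isNilpotent_iff_lowerCentralSeries F).1 hnil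
  have key : ∀ m, U ≤ F.lowerCentralSeries m ⊔ V := by
    intro m
    induction m with
    | zero =>
      rw [Subgroup.lowerCentralSeries_zero]
      exact h.ge.trans (sup_le_sup_right (Subgroup.commutator_le_right U F) V)
    | succ m ih =>
      refine h.ge.trans (sup_le ?_ le_sup_right)
      rw [Subgroup.commutator_le]
      intro a ha b hb
      haveI : (F.lowerCentralSeries m).Normal := by
        clear ih
        induction m with
        | zero => exact ‹F.Normal›
        | succ k ih2 => exact Subgroup.commutator_normal _ _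
      have ha1 : a ∈ ((F.lowerCentralSeries m ⊔ V : Subgroup G) : Set G) := ih ha
      rw [Subgroup.normal_mul] at ha1
      obtain ⟨l, hl, v, hv, rfl⟩ := ha1
      have e : ⁅l * v, b⁆ = (l * ⁅v, b⁆ * l⁻¹) * ⁅l, b⁆ := by simp [commutatorElement_def, mul_assoc]
      rw [e]
      refine mul_mem (Subgroup.mem_sup_right (hV.conj_mem _ ?_ l))
        (Subgroup.mem_sup_left (Subgroup.commutator_mem_commutator hl hb))
      exact Subgroup.commutator_le_left V ⊤ (Subgroup.commutator_mem_commutator hv trivial)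
  have := key c
  rw [hc, bot_sup_eq] at this
  exact hlt.not_ge this

/-- In a solvable group an element of `N` centralising all chief factors below `F` lies in `F`,
if `F` contains all normal nilpotent subgroups contained in `N`. -/
theorem mem_of_centralizes_chief [Finite G] [Group.IsSolvable G] (F N : Subgroup G) [F.Normal] [N.Normal]
    (hmax : ∀ D : Subgroup G, D.Normal → D ≤ N → Group.IsNilpotent D → D ≤ F) {g : G} (hgN : g ∈ N)
    (h : ∀ U V : Subgroup G, IsChiefPair U V → U ≤ F → ∀ u ∈ U, u * g * u⁻¹ * g⁻¹ ∈ V) : g ∈ F := by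
  classical
  -- the subgroup of all such elements
  let P : G → Prop := fun c => ∀ U V : Subgroup G, IsChiefPair U V → U ≤ F → ∀ u ∈ U, ⁅u, c⁆ ∈ V
  let C : Subgroup G :=
    { carrier := {c | c ∈ N ∧ P c}
      one_mem' := ⟨one_mem _, fun U V _ _ u _ => by simp [one_mem]⟩
      mul_mem' := fun {a b} ha hb => ⟨mul_mem ha.1 hb.1, fun U V hUV hUF u hu => by
        have e : ⁅u, a * b⁆ = ⁅u, a⁆ * (a * ⁅u, b⁆ * a⁻¹) := by simp [commutatorElement_def, mul_assoc]
        rw [e]
        exact mul_mem (ha.2 U V hUV hUF u hu) (hUV.2.1.conj_mem _ (hb.2 U V hUV hUF u hu) a)⟩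
      inv_mem' := fun {a} ha => ⟨inv_mem ha.1, fun U V hUV hUF u hu => by
        have e : ⁅u, a⁻¹⁆ = a⁻¹ * ⁅u, a⁆⁻¹ * a := by simp [commutatorElement_def, mul_assoc]
        rw [e]
        have := hUV.2.1.conj_mem _ (inv_mem (ha.2 U V hUV hUF u hu)) a⁻¹
        simpa using this⟩ }
  have hC : C.Normal := ⟨fun c hc a => ⟨‹N.Normal›.conj_mem c hc.1 a, fun U V hUV hUF u hu => by
    have hu' : a⁻¹ * u * a ∈ U := by simpa using hUV.1.conj_mem u hu a⁻¹
    have e : ⁅u, a * c * a⁻¹⁆ = a * ⁅a⁻¹ * u * a, c⁆ * a⁻¹ := by simp [commutatorElement_def, mul_assoc]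
    rw [e]
    exact hUV.2.1.conj_mem _ (hc.2 U V hUV hUF _ hu') a⟩⟩
  suffices hle : C ≤ F from hle ⟨hgN, fun U V hUV hUF u hu => by
    rw [commutatorElement_def]; exact h U V hUV hUF u hu⟩
  by_contra hne
  obtain ⟨D, ⟨hDn, hDC, hDF⟩, hDmin⟩ := Set.Finite.exists_minimal
    (s := {D : Subgroup G | D.Normal ∧ D ≤ C ∧ ¬ D ≤ F}) (Set.toFinite _) ⟨C, hC, le_rfl, hne⟩
  haveI := hDn
  have hDne : D ≠ ⊥ := fun hb => hDF (hb ▸ bot_le)
  have hD1 : ⁅D, D⁆ ≤ F := by
    by_contra hc
    have hle : D ≤ ⁅D, D⁆ := hDmin ⟨inferInstance, (Subgroup.commutator_le_self D).trans hDC, hc⟩ (Subgroup.commutator_le_self D)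
    haveI : Nontrivial D := (Subgroup.nontrivial_iff_ne_bot D).2 hDne
    refine (Group.IsSolvable.commutator_lt_top_of_nontrivial D).ne ?_
    apply Subgroup.map_injective D.subtype_injective
    rw [Subgroup.map_subtype_commutator, ← MonoidHom.range_eq_map, Subgroup.range_subtype]
    exact le_antisymm (Subgroup.commutator_le_self D) hle
  have hn : ∀ m, (D.lowerCentralSeries m).Normal := by
    intro m
    induction m with
    | zero => exact hDn
    | succ m ih => exact Subgroup.commutator_normal _ _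
  have hstep : ∀ m, 1 ≤ m → D.lowerCentralSeries m ≠ ⊥ →
      D.lowerCentralSeries (m + 1) < D.lowerCentralSeries m := by
    intro m hm hne'
    have hUF : D.lowerCentralSeries m ≤ F :=
      (Subgroup.lowerCentralSeries_antitone D hm).trans hD1
    obtain ⟨V, ⟨hVn, hVlt⟩, hVmax⟩ := Set.Finite.exists_maximal
      (s := {V : Subgroup G | V.Normal ∧ V < D.lowerCentralSeries m}) (Set.toFinite _)
      ⟨⊥, Subgroup.normal_bot, bot_lt_iff_ne_bot.2 hne'⟩
    have hpair : IsChiefPair (D.lowerCentralSeries m) V :=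
      ⟨hn m, hVn, hVlt, fun W hW hVW hWU => by
        rcases hWU.eq_or_lt with e | e
        · exact Or.inr e
        · exact Or.inl (le_antisymm (hVmax ⟨hW, e⟩ hVW) hVW)⟩
    refine lt_of_le_of_lt ?_ hVlt
    rw [Subgroup.lowerCentralSeries_succ, Subgroup.commutator_le]
    exact fun u hu d hd => (hDC hd).2 _ V hpair hUF u hu
  refine hDF (hmax D hDn (fun d hd => (hDC hd).1) ((Subgroup.isNilpotent_iff_lowerCentralSeries D).2 ?_))
  by_contra hno
  push Not at hno
  have hanti : StrictAnti fun m => Nat.card ↥(D.lowerCentralSeries (m + 1)) :=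
    strictAnti_nat_of_succ_lt fun m =>
      Set.Finite.card_lt_card (Set.toFinite _) (hstep (m + 1) (by omega) (hno _))
  have hbound : ∀ m, Nat.card ↥(D.lowerCentralSeries (m + 1)) + m ≤ Nat.card ↥(D.lowerCentralSeries 1) := by
    intro m
    induction m with
    | zero => simp
    | succ m ih =>
      have : Nat.card ↥(D.lowerCentralSeries (m + 1 + 1)) < Nat.card ↥(D.lowerCentralSeries (m + 1)) :=
        hanti (Nat.lt_succ_self m)
      omega
  have := hbound (Nat.card ↥(D.lowerCentralSeries 1) + 1)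
  omega

/-- A normal subgroup whose elements of order prime to `p` centralise `O_p(G)`, for all `p`, centralises
every chief factor with nilpotent top. -/
theorem centralizes_chief_of_coprime_fix [Finite G] (C U V : Subgroup G) [C.Normal]
    (hUV : IsChiefPair U V) (hUnil : Group.IsNilpotent U)
    (hfix : ∀ p : ℕ, p.Prime → ∀ c ∈ C, (orderOf c).Coprime p → ∀ x ∈ Cfsg.pCore p G, Commute c x)
    {c u : G} (hc : c ∈ C) (hu : u ∈ U) : u * c * u⁻¹ * c⁻¹ ∈ V := by
  classical
  obtain ⟨hU, hV, hlt, hmin⟩ := hUV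
  haveI := hU
  haveI := hV
  haveI := hUnil
  -- some `O_p` covers the factor
  obtain ⟨p, hp, hpU⟩ : ∃ p : ℕ, p.Prime ∧ U ≤ (U ⊓ Cfsg.pCore p G) ⊔ V := by
    by_contra hno
    push Not at hno
    have hall : ∀ p : ℕ, p.Prime → U ⊓ Cfsg.pCore p G ≤ V := fun p hp => by
      haveI : (Cfsg.pCore p G).Normal := CfsgLib.Solvable.pCore_normal (p := p) G
      rcases hmin ((U ⊓ Cfsg.pCore p G) ⊔ V) inferInstance le_sup_right (sup_le inf_le_left hlt.le) with e | e
      · exact le_sup_left.trans e.le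
      · exact absurd e.ge (hno p hp)
    refine hlt.not_ge ?_
    have htop : Cfsg.fittingSubgroup U = ⊤ := CfsgLib.Solvable.fittingSubgroup_eq_top
    have h1 : Cfsg.fittingSubgroup U ≤ V.subgroupOf U := by
      rw [CfsgLib.Solvable.fittingSubgroup_eq_iSup_pCore]
      refine iSup_le fun q => ?_
      haveI : Fact (q : ℕ).Prime := ⟨(Nat.mem_primeFactors.1 q.2).1⟩
      intro x hx
      refine hall q (Fact.out) ⟨x.2, ?_⟩
      haveI := CfsgLib.Solvable.pCore_characteristic (p := (q : ℕ)) U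
      exact CfsgLib.Solvable.le_pCore (inferInstance : ((Cfsg.pCore (q : ℕ) U).map U.subtype).Normal)
        ((CfsgLib.Solvable.pCore_isPGroup (p := (q : ℕ)) U).map _) ⟨x, hx, rfl⟩
    rw [htop, top_le_iff, Subgroup.subgroupOf_eq_top] at h1
    exact h1
  haveI := Fact.mk hp
  set π := QuotientGroup.mk' V
  set W := U.map π
  haveI hW : W.Normal := hU.map _ (QuotientGroup.mk'_surjective V)
  have hWim : ∀ w ∈ W, ∃ x ∈ U ⊓ Cfsg.pCore p G, π x = w := by
    rintro _ ⟨x, hx, rfl⟩
    have hx' : x ∈ (((U ⊓ Cfsg.pCore p G) ⊔ V : Subgroup G) : Set G) := hpU hx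
    rw [Subgroup.mul_normal] at hx'
    obtain ⟨a, ha, b, hb, rfl⟩ := hx'
    refine ⟨a, ha, ?_⟩
    rw [map_mul, show π b = 1 from (QuotientGroup.eq_one_iff b).2 hb, mul_one]
  have hWp : IsPGroup p W := by
    intro w
    obtain ⟨x, hx, hxw⟩ := hWim w w.2
    obtain ⟨k, hk⟩ := CfsgLib.Solvable.pCore_isPGroup (p := p) G ⟨x, hx.2⟩
    have hk' : x ^ p ^ k = 1 := congrArg Subtype.val hk
    exact ⟨k, Subtype.ext (by rw [SubmonoidClass.coe_pow, ← hxw, ← map_pow, hk', map_one]; rfl)⟩
  have hWne : W ≠ ⊥ := by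
    rw [Ne, Subgroup.map_eq_bot_iff, QuotientGroup.ker_mk']
    exact hlt.not_ge
  let act : ↥C →* MulAut W :=
    (W.normalizerMonoidHom.comp ((C.map π).subtype.codRestrict _
      (fun y => Subgroup.le_normalizer_of_normal (Subgroup.mem_top _)))).comp (π.subgroupMap C)
  have hact : ∀ (y : C) (w : W), ((act y w : W) : G ⧸ V) = π y * w * (π y)⁻¹ := fun _ _ => rfl
  have hR : IsPGroup p act.range := by
    rintro ⟨_, y, rfl⟩
    obtain ⟨a, m, hm, hordy⟩ := Nat.exists_eq_pow_mul_and_not_dvd (orderOf_pos y).ne' p hp.ne_one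
    refine ⟨a, Subtype.ext ?_⟩
    rw [SubmonoidClass.coe_pow, ← map_pow]
    refine MulEquiv.ext fun w => Subtype.ext ?_
    obtain ⟨x, hx, hxw⟩ := hWim w w.2
    have hcop : (orderOf ((y : G) ^ p ^ a)).Coprime p := by
      have hd : orderOf ((y : G) ^ p ^ a) ∣ m := orderOf_dvd_of_pow_eq_one (by
        rw [← pow_mul, ← hordy, ← Subgroup.orderOf_coe, pow_orderOf_eq_one])
      exact Nat.Coprime.coprime_dvd_left hd ((hp.coprime_iff_not_dvd.2 hm).symm)
    have h := (hfix p hp _ (pow_mem y.2 _) hcop x hx.2).eq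
    rw [hact, SubmonoidClass.coe_pow, ← hxw, ← map_mul, ← map_inv, ← map_mul]
    show π _ = ((1 : MulAut W) w : G ⧸ V)
    rw [MulAut.one_apply, ← hxw, h, mul_inv_cancel_right]
  obtain ⟨j, hj⟩ := hWp.exists_card_eq
  have hj0 : j ≠ 0 := fun h => hWne (Subgroup.card_eq_one.1 (by rw [hj, h, pow_zero]))
  obtain ⟨b, hb, hb1⟩ := hR.exists_fixed_point_of_prime_dvd_card_of_fixed_point W
    (by rw [hj]; exact dvd_pow_self p hj0) (a := 1) (fun r => map_one (r : MulAut W))
  set Y := W ⊓ Subgroup.centralizer ((C.map π : Subgroup (G ⧸ V)) : Set (G ⧸ V))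
  haveI : (C.map π).Normal := ‹C.Normal›.map _ (QuotientGroup.mk'_surjective V)
  have hbY : (b : G ⧸ V) ∈ Y := by
    refine ⟨b.2, Subgroup.mem_centralizer_iff.2 ?_⟩
    rintro _ ⟨y, hy, rfl⟩
    have h := congrArg Subtype.val (hb ⟨act ⟨y, hy⟩, ⟨_, rfl⟩⟩)
    exact mul_inv_eq_iff_eq_mul.1 h
  have hYU : U ≤ Y.comap π := by
    rcases hmin (U ⊓ Y.comap π) inferInstance (le_inf hlt.le fun v hv => by
      show π v ∈ Y
      rw [show π v = 1 from (QuotientGroup.eq_one_iff v).2 hv]; exact one_mem _) inf_le_left with e | e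
    · exfalso
      obtain ⟨x, hx, hxb⟩ := hWim b b.2
      have : x ∈ V := e ▸ ⟨hx.1, show π x ∈ Y from hxb.symm ▸ hbY⟩
      rw [show π x = 1 from (QuotientGroup.eq_one_iff x).2 this] at hxb
      exact hb1 (Subtype.ext hxb)
    · exact inf_eq_left.1 e
  have h := Subgroup.mem_centralizer_iff.1 (hYU hu).2 (π c) ⟨c, hc, rfl⟩
  rw [← QuotientGroup.eq_one_iff]
  show π _ = 1
  simp only [map_mul, map_inv]
  rw [← h]
  group

end CfsgLib.FGS68
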