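import Cfsg.Agent.Lib.FGS68.RegularOrbit
import Mathlib

/-!
A unit `a` with `(a - 1) ^ 2 = 0` normalising a group of units of order prime to `p` (`p` odd) centralises it,
if the commutators of the group commute with `a` and fix `a - 1`.
-/

set_option autoImplicit false

namespace CfsgLib.FGS68

open scoped commutatorElement

variable {A : Type*} [Ring A] {p : ℕ} [hp : Fact p.Prime]

theorem commute_of_sq_zero (hp2 : p ≠ 2) (hpA : (p : A) = 0) (Q : Subgroup Aˣ) [Finite Q]
    (hQcop : (Nat.card Q).Coprime p) (a : Aˣ) (ha : ((a : A) - 1) * ((a : A) - 1) = 0)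
    (hnorm : ∀ q ∈ Q, a * q * a⁻¹ ∈ Q)
    (hN : ∀ f ∈ ⁅Q, Q⁆, a * f = f * a ∧ ((a : A) - 1) * (f : A) = (a : A) - 1) :
    ∀ q ∈ Q, a * q = q * a := by
  classical
  set τ : A := (a : A) - 1
  set N := ⁅Q, Q⁆
  have hNQ : N ≤ Q := Subgroup.commutator_le_self Q
  haveI : Finite N := Finite.of_injective (Subgroup.inclusion hNQ) (Subgroup.inclusion_injective hNQ)
  haveI := Fintype.ofFinite N
  set c := Nat.card N
  have hc : c.Coprime p := hQcop.coprime_dvd_left (Subgroup.card_dvd_of_le hNQ)
  set m := c ^ (p - 2)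
  have hmc : ((m * c : ℕ) : A) = 1 := by
    have h1 : m * c ≡ 1 [MOD p] := by
      have h := Nat.ModEq.pow_totient hc
      rw [Nat.totient_prime hp.out] at h
      rwa [show m * c = c ^ (p - 1) by
        rw [← pow_succ]; congr 1; have := hp.out.two_le; omega]
    rw [← Nat.mod_add_div (m * c) p, Eq.trans h1 (Nat.one_mod_eq_one.2 hp.out.ne_one)]
    push_cast
    rw [hpA, zero_mul, add_zero]
  set S : A := ∑ f : N, ((f : Aˣ) : A)
  set e : A := (m : A) * S
  have hfS : ∀ f ∈ N, (f : A) * S = S := by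
    intro f hf
    rw [Finset.mul_sum]
    exact Fintype.sum_equiv (Equiv.mulLeft (⟨f, hf⟩ : N)) _ _ fun g => (Units.val_mul f g).symm
  have hSf : ∀ f ∈ N, S * (f : A) = S := by
    intro f hf
    rw [Finset.sum_mul]
    exact Fintype.sum_equiv (Equiv.mulRight (⟨f, hf⟩ : N)) _ _ fun g => (Units.val_mul (g : Aˣ) f).symm
  have hef : ∀ f ∈ N, e * (f : A) = e := fun f hf => by rw [mul_assoc, hSf f hf]
  have hτS : τ * S = (c : A) * τ := by
    rw [Finset.mul_sum, Finset.sum_congr rfl fun (f : N) _ => (hN _ f.2).2, Finset.sum_const, Finset.card_univ,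
      nsmul_eq_mul, ← Nat.card_eq_fintype_card]
  have hτe : τ * e = τ := by
    rw [← mul_assoc, ← (Nat.cast_commute m τ).eq, mul_assoc, hτS, ← mul_assoc, ← Nat.cast_mul, hmc, one_mul]
  have hee : e * e = e := by
    have h1 : e * S = (c : A) * e := by
      rw [Finset.mul_sum, Finset.sum_congr rfl fun (f : N) _ => hef _ f.2, Finset.sum_const, Finset.card_univ,
        nsmul_eq_mul, ← Nat.card_eq_fintype_card]
    show e * ((m : A) * S) = e
    rw [← mul_assoc, ← (Nat.cast_commute m e).eq, mul_assoc, h1, ← mul_assoc, ← Nat.cast_mul, hmc, one_mul]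
  have hce : ∀ u : Aˣ, (∀ f ∈ N, u * f * u⁻¹ ∈ N) → (u : A) * e = e * u := by
    intro u hu
    have h1 : (u : A) * S = S * u := by
      rw [Finset.mul_sum, Finset.sum_mul]
      let φ : N → N := fun f => ⟨u * f * u⁻¹, hu f f.2⟩
      have hφ : Function.Injective φ := fun f g h => Subtype.ext (by simpa [φ] using congrArg Subtype.val h)
      refine Fintype.sum_equiv (Equiv.ofBijective φ ⟨hφ, Finite.injective_iff_surjective.1 hφ⟩) _ _ fun f => ?_
      show (u : A) * ((f : Aˣ) : A) = ((u * f * u⁻¹ : Aˣ) : A) * u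
      rw [Units.val_mul, Units.val_mul, mul_assoc ((u : A) * _), Units.inv_mul, mul_one]
    show (u : A) * ((m : A) * S) = (m : A) * S * u
    rw [← mul_assoc, ← (Nat.cast_commute m (u : A)).eq, mul_assoc, h1, mul_assoc]
  have hqe : ∀ q ∈ Q, (q : A) * e = e * q := fun q hq => hce q fun f hf => by
    have e1 : q * f * q⁻¹ = ⁅q, f⁆ * f := by simp [commutatorElement_def, mul_assoc]
    rw [e1]
    exact mul_mem (Subgroup.commutator_mem_commutator hq (hNQ hf)) hf
  have hae : (a : A) * e = e * a := hce a fun f hf => by rw [(hN f hf).1, mul_inv_cancel_right]; exact hf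
  clear_value e
  have hμ : ∀ x y : A, x * e = e * x → (e * x + (1 - e)) * (e * y + (1 - e)) = e * (x * y) + (1 - e) := by
    intro x y hx
    rw [add_mul, mul_add, mul_add]
    have e1 : e * x * (e * y) = e * (x * y) := by
      rw [← mul_assoc, mul_assoc e x e, hx, ← mul_assoc, hee, mul_assoc]
    have e2 : e * x * (1 - e) = 0 := by
      rw [mul_sub, mul_one, mul_assoc, hx, ← mul_assoc, hee, sub_self]
    have e3 : (1 - e) * (e * y) = 0 := by rw [← mul_assoc, sub_mul, one_mul, hee, sub_self, zero_mul]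
    have e4 : (1 - e) * (1 - e) = 1 - e := by
      rw [sub_mul, one_mul, mul_sub, mul_one, hee, sub_self, sub_zero]
    rw [e1, e2, e3, e4]
    simp
  let μ : Q →* Aˣ :=
    { toFun := fun q =>
        { val := e * (((q : Aˣ) : A)) + (1 - e)
          inv := e * ((((q : Aˣ)⁻¹ : Aˣ) : A)) + (1 - e)
          val_inv := by rw [hμ _ _ (hqe q q.2), Units.mul_inv]; simp
          inv_val := by rw [hμ _ _ (hqe _ (inv_mem q.2)), Units.inv_mul]; simp }
      map_one' := Units.ext (by simp)
      map_mul' := fun q r => Units.ext (by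
        show e * (((q * r : Q) : Aˣ) : A) + (1 - e) = _
        rw [Units.val_mul, hμ _ _ (hqe q q.2)]
        rfl) }
  have hQ' : ∀ u ∈ μ.range, ∀ w ∈ μ.range, u * w = w * u := by
    rintro _ ⟨q, rfl⟩ _ ⟨r, rfl⟩
    rw [← map_mul, ← map_mul]
    apply Units.ext
    show e * (((q * r : Q) : Aˣ) : A) + (1 - e) = e * (((r * q : Q) : Aˣ) : A) + (1 - e)
    congr 1
    have e1 : (((q * r : Q) : Aˣ)) = ⁅(q : Aˣ), (r : Aˣ)⁆ * (((r * q : Q) : Aˣ)) := by
      simp [commutatorElement_def, mul_assoc]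
    rw [e1, Units.val_mul, ← mul_assoc, hef _ (Subgroup.commutator_mem_commutator q.2 r.2)]
  haveI : Finite μ.range := Finite.of_surjective μ.rangeRestrict μ.rangeRestrict_surjective
  have hcop' : (Nat.card μ.range).Coprime p := hQcop.coprime_dvd_left (Subgroup.card_range_dvd μ)
  have hpow : ∀ i : ℕ, (a : A) ^ i = 1 + (i : A) * τ := by
    intro i
    induction i with
    | zero => simp
    | succ i ih =>
      rw [pow_succ, ih]
      have : (a : A) = 1 + τ := by simp [τ]
      rw [this, add_mul, one_mul, mul_assoc, mul_add τ, ha, mul_one, add_zero, Nat.cast_succ, add_mul,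
        one_mul, add_assoc, add_comm τ]
  have hap : a ^ p ^ 1 = 1 := by
    apply Units.ext
    rw [Units.val_pow_eq_pow_val, hpow, pow_one, hpA, zero_mul, add_zero, Units.val_one]
  have hsum : (∑ i ∈ Finset.range (p ^ 1), (a : A) ^ i) = 0 := by
    rw [pow_one, Finset.sum_congr rfl fun i _ => hpow i, Finset.sum_add_distrib, Finset.sum_const,
      Finset.card_range, nsmul_one, hpA, zero_add, ← Finset.sum_mul, ← Nat.cast_sum]
    obtain ⟨k, hk⟩ : p ∣ ∑ i ∈ Finset.range p, i := by
      have h2 : p ∣ (∑ i ∈ Finset.range p, i) * 2 := by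
        rw [Finset.sum_range_id_mul_two]; exact Dvd.intro _ rfl
      exact (Nat.Coprime.dvd_of_dvd_mul_right
        ((Nat.coprime_primes hp.out Nat.prime_two).2 hp2) h2)
    rw [hk, Nat.cast_mul, hpA, zero_mul, zero_mul]
  have hfix : ∀ w ∈ μ.range, a * w = w * a := by
    by_contra hno
    refine geom_sum_ne_zero hpA μ.range hQ' hcop' a 1 le_rfl hap ?_ ?_ hsum
    · rintro _ ⟨q, rfl⟩
      refine ⟨⟨a * q * a⁻¹, hnorm q q.2⟩, Units.ext ?_⟩
      show e * (((a * q * a⁻¹ : Aˣ)) : A) + (1 - e) =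
        (a : A) * (e * ((q : Aˣ) : A) + (1 - e)) * ((a⁻¹ : Aˣ) : A)
      rw [mul_add, add_mul, ← mul_assoc (a : A), hae, Units.val_mul, Units.val_mul, mul_sub, mul_one, hae,
        sub_mul, Units.mul_inv, mul_assoc e (a : A), mul_assoc e (_ * _) _, mul_assoc e (a : A),
        Units.mul_inv, mul_one]
    · push Not at hno
      simpa using hno
  intro q hq
  have h := congrArg Units.val (hfix _ ⟨⟨q, hq⟩, rfl⟩)
  have h' : (a : A) * (e * (q : A) + (1 - e)) = (e * (q : A) + (1 - e)) * a := h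
  have h1 : (a : A) * (e * q) = e * q * a := by
    rw [mul_add, add_mul, mul_sub, sub_mul, mul_one, one_mul, hae] at h'
    exact add_right_cancel h'
  have heτ : e * τ = τ := by
    rw [← hτe]
    show e * (((a : A) - 1) * e) = ((a : A) - 1) * e
    rw [sub_mul, mul_sub, one_mul, ← mul_assoc, ← hae, mul_assoc, hee]
  have hτq : τ * q = (q : A) * τ := by
    calc τ * q = τ * e * q := by rw [hτe]
      _ = (a : A) * (e * q) - e * q := by rw [mul_assoc, sub_mul, one_mul]
      _ = e * q * τ := by rw [h1, mul_sub, mul_one]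
      _ = (q : A) * τ := by rw [← hqe q hq, mul_assoc, heτ]
  apply Units.ext
  rw [Units.val_mul, Units.val_mul]
  rw [show τ = (a : A) - 1 from rfl, sub_mul, mul_sub, one_mul, mul_one] at hτq
  exact sub_left_inj.1 hτq

end CfsgLib.FGS68
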