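import Cfsg.Agent.Lib.FGS68.PLength
import Cfsg.Agent.Lib.FGS68.TransvectionRing
import Cfsg.Agent.Lib.LocalEven.Involves
import Mathlib

/-!
An element inducing a transvection along the cyclic group it generates, in a `p`-solvable group with
`C(V) ≤ V = O_p`: impossible for odd `p`, and giving a section `S4` for `p = 2`.
-/

set_option autoImplicit false
set_option linter.style.haveILetI false

open Cfsg

namespace CfsgLib.FGS68

open scoped commutatorElement Pointwise

variable {X : Type*} [Group X]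

/-- An automorphism of the four-group without fixed points has cube the identity. -/
theorem cube_of_four {W : Type*} [Group W] [Finite W] (hW : Nat.card W = 4) (h2 : ∀ w : W, w ^ 2 = 1)
    (f : W →* W) (hfix : ∀ w, f w = w → w = 1) (hinj : Function.Injective f) (w : W) :
    f (f (f w)) = w := by
  classical
  haveI := Fintype.ofFinite W
  by_cases hw : w = 1
  · subst hw; simp
  have hf1 : f 1 = 1 := map_one f
  have a1 : f w ≠ w := fun h => hw (hfix w h)
  have a0 : f w ≠ 1 := fun h => hw (hinj (h.trans hf1.symm))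
  have b1 : f (f w) ≠ f w := fun h => a1 (hinj h)
  have b0 : f (f w) ≠ 1 := fun h => a0 (hinj (h.trans hf1.symm))
  have hself : ∀ u : W, u⁻¹ = u := fun u => inv_eq_of_mul_eq_one_right (by rw [← pow_two]; exact h2 u)
  have hcomm : ∀ u v : W, u * v = v * u := fun u v => by rw [← hself (u * v), mul_inv_rev, hself, hself]
  have b2 : f (f w) ≠ w := by
    intro h
    have h1 : f (w * f w) = w * f w := by rw [map_mul, h, hcomm]
    exact a1 ((eq_inv_of_mul_eq_one_right (hfix _ h1)).trans (hself w))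
  have hcard : Fintype.card W = 4 := by rw [← Nat.card_eq_fintype_card, hW]
  have huniv : ∀ u : W, u = 1 ∨ u = w ∨ u = f w ∨ u = f (f w) := by
    intro u
    have : ({1, w, f w, f (f w)} : Finset W) = Finset.univ := by
      apply Finset.eq_univ_of_card
      rw [hcard, Finset.card_insert_of_notMem (by simp [Ne.symm hw, a0.symm, b0.symm]),
        Finset.card_insert_of_notMem (by simp [a1.symm, b2.symm]),
        Finset.card_insert_of_notMem (by simp [b1.symm]), Finset.card_singleton]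
    have hu : u ∈ ({1, w, f w, f (f w)} : Finset W) := this ▸ Finset.mem_univ u
    simpa using hu
  rcases huniv (f (f (f w))) with h | h | h | h
  · exact absurd (hinj (h.trans hf1.symm)) b0
  · exact h
  · exact absurd (hinj h) b2
  · exact absurd (hinj h) b1

variable [Finite X] {p : ℕ} [hp : Fact p.Prime] (V : Subgroup X) [V.Normal]

/-- A `p`-element outside `V` moves `O_{p'}(X/V)`. -/
theorem not_mem_centralizer_pPrimeCore (hsol : IsPSolvable p X) (hO : pCore p (X ⧸ V) = ⊥) {a : X}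
    (ha : a ∉ V) (haz : a ^ p ∈ V) :
    (a : X ⧸ V) ∉ Subgroup.centralizer (pPrimeCore p (X ⧸ V) : Set (X ⧸ V)) := by
  intro hc
  have hm := CfsgLib.PLocal.centralizer_pPrimeCore_le_self
    (CfsgLib.PLoc.isPSolvable_of_surjective (QuotientGroup.mk'_surjective V) hsol) hO hc
  have h1 : orderOf (a : X ⧸ V) ∣ p := orderOf_dvd_of_pow_eq_one (by
    rw [← QuotientGroup.mk_pow, QuotientGroup.eq_one_iff]; exact haz)
  have h2 := Subgroup.orderOf_dvd_natCard _ hm
  exact ha ((QuotientGroup.eq_one_iff a).1 (orderOf_eq_one_iff.1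
    (Nat.eq_one_of_dvd_coprimes (CfsgLib.PLoc.pPrimeCore_coprime p) h2 h1)))

theorem not_line_odd (hp2 : p ≠ 2) (hsol : IsPSolvable p X) (hVab : IsMulCommutative V)
    (hVp : ∀ v ∈ V, v ^ p = 1) (hC : Subgroup.centralizer (V : Set X) ≤ V) (hO : pCore p (X ⧸ V) = ⊥)
    {a : X} (ha : a ∉ V) (haz : a ^ p ∈ V)
    (hline : ∀ v ∈ V, a * v * a⁻¹ * v⁻¹ ∈ Subgroup.zpowers (a ^ p)) : False := by
  classical
  letI : CommGroup V := { (inferInstance : Group V) with mul_comm := fun u v => mul_comm' u v }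
  let ρ₀ : X →* AddMonoid.End (Additive V) :=
    { toFun := fun x => MonoidHom.toAdditive (MulAut.conjNormal x : MulAut V).toMonoidHom
      map_one' := by rw [map_one]; rfl
      map_mul' := fun u w => by rw [map_mul]; rfl }
  let U : X →* (AddMonoid.End (Additive V))ˣ := ρ₀.toHomUnits
  have hUv : ∀ (g : X) (v : V), (U g : AddMonoid.End (Additive V)) (Additive.ofMul v) =
      Additive.ofMul (MulAut.conjNormal g v : V) := fun _ _ => rfl
  have hker : ∀ g, U g = 1 ↔ g ∈ V := by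
    intro g
    constructor
    · intro h
      refine hC (Subgroup.mem_centralizer_iff.2 fun v hv => ?_)
      have h1 := congrArg (fun t : (AddMonoid.End (Additive V))ˣ =>
        (t : AddMonoid.End (Additive V)) (Additive.ofMul (⟨v, hv⟩ : V))) h
      have h2 : g * v * g⁻¹ = v := congrArg Subtype.val h1
      exact (mul_inv_eq_iff_eq_mul.1 h2).symm
    · intro hg
      refine Units.ext (DFunLike.ext _ _ fun v => ?_)
      obtain ⟨v, rfl⟩ := Additive.ofMul.surjective v
      rw [hUv]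
      refine congrArg Additive.ofMul (Subtype.ext ?_)
      rw [MulAut.conjNormal_apply]
      have e : g * (v : X) = v * g := congrArg Subtype.val (mul_comm' (⟨g, hg⟩ : V) v)
      rw [e, mul_inv_cancel_right]
  set π := QuotientGroup.mk' V
  let Ū : X ⧸ V →* (AddMonoid.End (Additive V))ˣ := QuotientGroup.lift V U fun g hg => (hker g).2 hg
  have hŪinj : Function.Injective Ū := by
    refine (injective_iff_map_eq_one Ū).2 fun b hb => ?_
    obtain ⟨g, rfl⟩ := QuotientGroup.mk'_surjective V b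
    exact (QuotientGroup.eq_one_iff g).2 ((hker g).1 hb)
  set z := a ^ p with hz
  have hza : ∀ w ∈ Subgroup.zpowers z, a * w = w * a := by
    rintro _ ⟨i, rfl⟩
    exact (((Commute.refl a).pow_right p).zpow_right i).eq
  have hτ2 : ((U a : AddMonoid.End (Additive V)) - 1) * ((U a : AddMonoid.End (Additive V)) - 1) = 0 := by
    refine DFunLike.ext _ _ fun v => ?_
    obtain ⟨v, rfl⟩ := Additive.ofMul.surjective v
    show (U a : AddMonoid.End (Additive V)) ((U a : AddMonoid.End (Additive V)) (Additive.ofMul v) - Additive.ofMul v) -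
      ((U a : AddMonoid.End (Additive V)) (Additive.ofMul v) - Additive.ofMul v) = 0
    rw [hUv, ← ofMul_div, hUv, ← ofMul_div]
    refine (congrArg Additive.ofMul (div_eq_one.2 (Subtype.ext ?_))).trans rfl
    rw [MulAut.conjNormal_apply]
    have hw : ((MulAut.conjNormal a v / v : V) : X) ∈ Subgroup.zpowers z := by
      rw [div_eq_mul_inv]; exact hline v v.2
    rw [hza _ hw, mul_inv_cancel_right]
  -- elements commuting with `a` modulo `V` fix the transvection
  have hfix : ∀ f : X ⧸ V, f * π a = π a * f →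
      ((U a : AddMonoid.End (Additive V)) - 1) * (Ū f : AddMonoid.End (Additive V)) =
        (U a : AddMonoid.End (Additive V)) - 1 := by
    intro f hf
    obtain ⟨f, rfl⟩ := QuotientGroup.mk'_surjective V f
    set v₀ := f * a * f⁻¹ * a⁻¹
    have hv₀ : v₀ ∈ V := by
      rw [← QuotientGroup.eq_one_iff]
      show π _ = 1
      rw [map_mul, map_mul, map_mul, map_inv, map_inv, hf]
      simp [π]
    -- `f` fixes `z`
    have hfz : f * z * f⁻¹ = z := by
      have e1 : f * z * f⁻¹ = (v₀ * a) ^ p := by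
        rw [hz, show v₀ * a = f * a * f⁻¹ by simp [v₀, mul_assoc], conj_pow]
      set w := a * v₀ * a⁻¹ * v₀⁻¹ with hwdef
      have hwz : w ∈ Subgroup.zpowers z := hline v₀ hv₀
      have hwV : w ∈ V := Subgroup.zpowers_le.2 haz hwz
      have hcV : ∀ u ∈ V, ∀ u' ∈ V, Commute u u' := fun u hu u' hu' =>
        congrArg Subtype.val (mul_comm' (⟨u, hu⟩ : V) ⟨u', hu'⟩)
      have hwa : Commute a w := hza w hwz
      have hwv : Commute v₀ w := hcV _ hv₀ _ hwV
      have step : ∀ i : ℕ, a ^ i * v₀ = w ^ i * v₀ * a ^ i := by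
        intro i
        induction i with
        | zero => simp
        | succ i ih =>
          calc a ^ (i + 1) * v₀ = a ^ i * (w * v₀ * a) := by
                rw [pow_succ, mul_assoc]; congr 1; simp [hwdef, mul_assoc]
            _ = w * (a ^ i * v₀) * a := by
                rw [← mul_assoc, ← mul_assoc, (hwa.pow_left i).eq, mul_assoc w]
            _ = _ := by rw [ih, pow_succ' w, pow_succ a]; simp [mul_assoc]
      have hform : ∀ N : ℕ, (v₀ * a) ^ N = w ^ N.choose 2 * v₀ ^ N * a ^ N := by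
        intro N
        induction N with
        | zero => simp
        | succ N ih =>
          calc (v₀ * a) ^ (N + 1) = w ^ N.choose 2 * v₀ ^ N * (a ^ N * v₀) * a := by
                rw [pow_succ, ih]; simp [mul_assoc]
            _ = w ^ N.choose 2 * (v₀ ^ N * w ^ N) * v₀ * a ^ N * a := by rw [step]; simp [mul_assoc]
            _ = w ^ N.choose 2 * w ^ N * (v₀ ^ N * v₀) * (a ^ N * a) := by
                rw [(hwv.pow_pow N N).eq]; simp [mul_assoc]
            _ = _ := by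
                rw [← pow_add, ← pow_succ, ← pow_succ,
                  show (N + 1).choose 2 = N.choose 2 + N by
                    rw [Nat.choose_succ_succ, Nat.choose_one_right, add_comm]]
      have hchoose : p ∣ p.choose 2 :=
        hp.out.dvd_choose_self (by norm_num) (lt_of_le_of_ne hp.out.two_le (Ne.symm hp2))
      obtain ⟨c, hc⟩ := hchoose
      rw [e1, hform, hVp v₀ hv₀, mul_one, hc, pow_mul, hVp w hwV, one_pow, one_mul]
    -- hence `τ f = τ`, as `f` and `a` commute on `V`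
    have hcomm : U f * U a = U a * U f := by
      have h1 := congrArg Ū hf
      rw [map_mul, map_mul] at h1
      exact h1
    have hUf : (U f : AddMonoid.End (Additive V)) * ((U a : AddMonoid.End (Additive V)) - 1) =
        (U a : AddMonoid.End (Additive V)) - 1 := by
      refine DFunLike.ext _ _ fun v => ?_
      obtain ⟨v, rfl⟩ := Additive.ofMul.surjective v
      show (U f : AddMonoid.End (Additive V)) ((U a : AddMonoid.End (Additive V)) (Additive.ofMul v) - Additive.ofMul v) =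
        (U a : AddMonoid.End (Additive V)) (Additive.ofMul v) - Additive.ofMul v
      rw [hUv, ← ofMul_div, hUv]
      refine congrArg Additive.ofMul (Subtype.ext ?_)
      rw [MulAut.conjNormal_apply]
      have hw : ((MulAut.conjNormal a v / v : V) : X) ∈ Subgroup.zpowers z := by
        rw [div_eq_mul_inv]; exact hline v v.2
      obtain ⟨i, hi⟩ := hw
      simp only at hi
      rw [← hi, ← conj_zpow, hfz]
    have hc2 : ((U a : AddMonoid.End (Additive V))) * (U f : AddMonoid.End (Additive V)) =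
        (U f : AddMonoid.End (Additive V)) * (U a : AddMonoid.End (Additive V)) :=
      (congrArg Units.val hcomm).symm
    show ((U a : AddMonoid.End (Additive V)) - 1) * (U f : AddMonoid.End (Additive V)) = _
    rw [sub_mul, one_mul, hc2]
    conv_rhs => rw [← hUf]
    rw [mul_sub, mul_one]
  -- the q-subgroups of `O_{p'}(X/V)` invariant under `a` are centralised
  set y := π a
  set M := pPrimeCore p (X ⧸ V)
  haveI hMn : M.Normal := CfsgLib.Solvable.pPrimeCore_normal p (X ⧸ V)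
  have hMcop : (Nat.card M).Coprime p := CfsgLib.PLoc.pPrimeCore_coprime p
  have hpA : ((p : ℕ) : AddMonoid.End (Additive V)) = 0 := by
    refine DFunLike.ext _ _ fun v => ?_
    obtain ⟨v, rfl⟩ := Additive.ofMul.surjective v
    show Additive.ofMul (v ^ p) = 0
    rw [show v ^ p = 1 from Subtype.ext (hVp v v.2)]
    rfl
  have key : ∀ n, ∀ (q : ℕ) [Fact q.Prime] (Q : Subgroup (X ⧸ V)), Nat.card Q = n → Q ≤ M →
      IsPGroup q Q → (∀ u ∈ Q, y * u * y⁻¹ ∈ Q) → ∀ u ∈ Q, Commute y u := by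
    intro n
    induction n using Nat.strong_induction_on with
    | _ n ih =>
      intro q _ Q hn hQM hQq hyQ u hu
      rcases subsingleton_or_nontrivial Q with hs | hnt
      · have h1 : u = 1 := congrArg Subtype.val (Subsingleton.elim (⟨u, hu⟩ : Q) 1)
        rw [h1]; exact Commute.one_right _
      haveI : Group.IsNilpotent Q := hQq.isNilpotent
      have hlt : ⁅Q, Q⁆ < Q := Group.IsSolvable.commutator_lt_top_of_nontrivial Q |> fun h => by
        refine lt_of_le_of_ne (Subgroup.commutator_le_self Q) fun e => h.ne ?_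
        apply Subgroup.map_injective Q.subtype_injective
        rw [Subgroup.map_subtype_commutator, ← MonoidHom.range_eq_map, Subgroup.range_subtype, e]
      have hQN : ∀ f ∈ ⁅Q, Q⁆, Commute y f := by
        refine ih _ (hn ▸ Set.Finite.card_lt_card (Set.toFinite _) hlt) q ⁅Q, Q⁆ rfl
          (hlt.le.trans hQM) (hQq.to_le hlt.le) ?_
        intro f hf
        have hle : (⁅Q, Q⁆).map (MulAut.conj y).toMonoidHom ≤ ⁅Q, Q⁆ := by
          rw [Subgroup.map_commutator]
          refine Subgroup.commutator_mono ?_ ?_ <;>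
            (rintro _ ⟨u, hu, rfl⟩; exact hyQ u hu)
        exact hle ⟨f, hf, rfl⟩
      haveI : Finite (Q.map Ū) := Finite.of_surjective (Ū.subgroupMap Q) (MonoidHom.subgroupMap_surjective _ _)
      have hcQ : (Nat.card (Q.map Ū)).Coprime p :=
        (hMcop.coprime_dvd_left (Subgroup.card_dvd_of_le hQM)).coprime_dvd_left (Subgroup.card_map_dvd Q Ū)
      have h := commute_of_sq_zero hp2 hpA (Q.map Ū) hcQ (U a) hτ2 ?_ ?_ (Ū u) ⟨u, hu, rfl⟩
      · refine hŪinj ?_
        rw [map_mul, map_mul]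
        exact h
      · rintro _ ⟨u, hu, rfl⟩
        exact ⟨y * u * y⁻¹, hyQ u hu, by rw [map_mul, map_mul, map_inv]; rfl⟩
      · intro f hf
        rw [← Subgroup.map_commutator] at hf
        obtain ⟨f, hf, rfl⟩ := hf
        refine ⟨?_, hfix f (hQN f hf).eq.symm⟩
        show Ū y * Ū f = Ū f * Ū y
        rw [← map_mul, ← map_mul, (hQN f hf).eq]
  apply not_mem_centralizer_pPrimeCore V hsol hO ha haz
  set C := (M ⊓ Subgroup.centralizer {y}).subgroupOf M
  have hy : orderOf y ∣ p := orderOf_dvd_of_pow_eq_one (by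
    rw [← map_pow]; exact (QuotientGroup.eq_one_iff _).2 haz)
  have hcopA : (Nat.card (Subgroup.zpowers y)).Coprime (Nat.card M) := by
    rw [Nat.card_zpowers]
    exact Nat.Coprime.coprime_dvd_left hy hMcop.symm
  have hC' : C = ⊤ := by
    rw [← Subgroup.index_eq_one]
    by_contra hne
    obtain ⟨q, hq, hqd⟩ := Nat.exists_prime_and_dvd hne
    haveI := Fact.mk hq
    obtain ⟨S, hS⟩ := CfsgLib.Solvable.exists_invariant_sylow (A := Subgroup.zpowers y) (K := M)
      Subgroup.le_normalizer_of_normal hcopA (Or.inl inferInstance) q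
    have hle : (S : Subgroup M) ≤ C := fun s hs =>
      ⟨s.2, Subgroup.mem_centralizer_singleton_iff.2 (key _ q _ rfl (Subgroup.map_subtype_le _)
        (S.isPGroup'.map _) (fun u hu => (Subgroup.mem_normalizer_iff.1 (hS (Subgroup.mem_zpowers y)) u).1 hu)
        _ ⟨s, hs, rfl⟩).eq.symm⟩
    exact S.not_dvd_index (hqd.trans (Subgroup.index_dvd_of_le hle))
  refine Subgroup.mem_centralizer_iff.2 fun m hm => ?_
  have : (⟨m, hm⟩ : M) ∈ C := hC' ▸ Subgroup.mem_top _
  exact Subgroup.mem_centralizer_singleton_iff.1 this.2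

/-- A subgroup generated by two elements of order at most two in an abelian subgroup has order at most four. -/
theorem card_sup_zpowers_le_four {s t : X} (hst : Commute s t) (hs : s ^ 2 = 1) (ht : t ^ 2 = 1) :
    Nat.card ↥(Subgroup.zpowers s ⊔ Subgroup.zpowers t) ≤ 4 := by
  have hnorm : Subgroup.zpowers t ≤ Subgroup.normalizer (Subgroup.zpowers s : Set X) := by
    rw [Subgroup.zpowers_le]
    refine Subgroup.centralizer_le_normalizer _ (Subgroup.mem_centralizer_iff.2 ?_)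
    rintro _ ⟨i, rfl⟩
    exact (hst.zpow_left i).eq
  have hset := Subgroup.coe_mul_of_right_le_normalizer_left (Subgroup.zpowers s) (Subgroup.zpowers t) hnorm
  let φ : Subgroup.zpowers s × Subgroup.zpowers t → ↥(Subgroup.zpowers s ⊔ Subgroup.zpowers t) :=
    fun u => ⟨u.1 * u.2, mul_mem (Subgroup.mem_sup_left u.1.2) (Subgroup.mem_sup_right u.2.2)⟩
  have hφ : Function.Surjective φ := by
    rintro ⟨x, hx⟩
    obtain ⟨u, hu, w, hw, rfl⟩ : x ∈ (Subgroup.zpowers s : Set X) * (Subgroup.zpowers t : Set X) := by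
      rwa [← hset]
    exact ⟨(⟨u, hu⟩, ⟨w, hw⟩), rfl⟩
  refine (Nat.card_le_card_of_surjective φ hφ).trans ?_
  rw [Nat.card_prod, Nat.card_zpowers, Nat.card_zpowers]
  exact Nat.mul_le_mul (Nat.le_of_dvd two_pos (orderOf_dvd_of_pow_eq_one hs))
    (Nat.le_of_dvd two_pos (orderOf_dvd_of_pow_eq_one ht))

theorem involves_perm_four_of_line (hp2 : p = 2) (hsol : IsPSolvable p X) (hVab : IsMulCommutative V)
    (hVp : ∀ v ∈ V, v ^ p = 1) (hC : Subgroup.centralizer (V : Set X) ≤ V) (hO : pCore p (X ⧸ V) = ⊥)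
    {a : X} (ha : a ∉ V) (haz : a ^ p ∈ V)
    (hline : ∀ v ∈ V, a * v * a⁻¹ * v⁻¹ ∈ Subgroup.zpowers (a ^ p)) :
    Involves (Equiv.Perm (Fin 4)) X := by
  classical
  subst hp2
  set π := QuotientGroup.mk' V with hπdef
  have hcV : ∀ u ∈ V, ∀ u' ∈ V, Commute u u' := fun u hu u' hu' =>
    congrArg Subtype.val (mul_comm' (⟨u, hu⟩ : V) ⟨u', hu'⟩)
  have hVinv : ∀ v ∈ V, v⁻¹ = v := fun v hv => inv_eq_of_mul_eq_one_right (by rw [← pow_two]; exact hVp v hv)
  have hVconj : ∀ g : X, ∀ v ∈ V, g * v * g⁻¹ ∈ V := fun g v hv => ‹V.Normal›.conj_mem v hv g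
  set y := π a
  have hy2 : y * y = 1 := by
    rw [← map_mul, ← pow_two]; exact (QuotientGroup.eq_one_iff _).2 haz
  have hy1 : y ≠ 1 := fun h => ha ((QuotientGroup.eq_one_iff a).1 h)
  have hyinv : y⁻¹ = y := inv_eq_of_mul_eq_one_right hy2
  set M := pPrimeCore 2 (X ⧸ V)
  haveI hMn : M.Normal := CfsgLib.Solvable.pPrimeCore_normal 2 (X ⧸ V)
  have hMcop : (Nat.card M).Coprime 2 := CfsgLib.PLoc.pPrimeCore_coprime 2
  obtain ⟨m, hmM, hym⟩ : ∃ m ∈ M, ¬ Commute y m := by
    by_contra hno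
    push Not at hno
    exact not_mem_centralizer_pPrimeCore V hsol hO ha haz
      (Subgroup.mem_centralizer_iff.2 fun m hm => (hno m hm).eq.symm)
  obtain ⟨b₀, rfl⟩ := QuotientGroup.mk'_surjective V m
  set g := a * b₀ * a⁻¹ * b₀⁻¹ with hgdef
  have hgM : π g ∈ M := by
    simp only [hgdef, map_mul, map_inv]
    exact mul_mem (hMn.conj_mem _ hmM y) (inv_mem hmM)
  have hg1 : π g ≠ 1 := fun h => by
    simp only [hgdef, map_mul, map_inv, mul_inv_eq_one] at h
    exact hym (mul_inv_eq_iff_eq_mul.1 h)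
  obtain ⟨k, hk, hkodd⟩ : ∃ k, g ^ k ∈ V ∧ Odd k := by
    refine ⟨orderOf (π g), (QuotientGroup.eq_one_iff _).1 ?_, ?_⟩
    · show π (g ^ _) = 1
      rw [map_pow, pow_orderOf_eq_one]
    · have h := (hMcop.coprime_dvd_left (Subgroup.orderOf_dvd_natCard M hgM))
      exact Nat.coprime_two_right.1 h
  -- the displacement subgroup
  let disp : X → ↥V →* X := fun h =>
    { toFun := fun v => h * v * h⁻¹ * (v : X)⁻¹
      map_one' := by simp
      map_mul' := fun u v => by
        have e : Commute ((u : X)⁻¹) (h * (v : X) * h⁻¹ * (v : X)⁻¹) :=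
          hcV _ (inv_mem u.2) _ (mul_mem (hVconj h v v.2) (inv_mem v.2))
        calc h * ((u * v : V) : X) * h⁻¹ * ((u * v : V) : X)⁻¹
            = h * u * h⁻¹ * ((h * v * h⁻¹ * (v : X)⁻¹) * (u : X)⁻¹) := by simp [mul_assoc]
          _ = h * u * h⁻¹ * ((u : X)⁻¹ * (h * v * h⁻¹ * (v : X)⁻¹)) := by rw [e.eq]
          _ = _ := by simp [mul_assoc] }
  set W := (disp g).range
  have hWV : W ≤ V := by
    rintro _ ⟨v, rfl⟩
    exact mul_mem (hVconj g v v.2) (inv_mem v.2)
  have hW2 : ∀ w ∈ W, w ^ 2 = 1 := fun w hw => hVp w (hWV hw)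
  set z := a ^ 2 with hzdef
  have hzV : z ∈ V := haz
  have hza : ∀ w ∈ Subgroup.zpowers z, a * w = w * a := by
    rintro _ ⟨i, rfl⟩
    exact (((Commute.refl a).pow_right 2).zpow_right i).eq
  have hW4 : Nat.card W ≤ 4 := by
    have hle : W ≤ Subgroup.zpowers z ⊔ Subgroup.zpowers (b₀ * z * b₀⁻¹) := by
      rintro _ ⟨⟨v, hv⟩, rfl⟩
      show g * v * g⁻¹ * v⁻¹ ∈ _
      set g' := b₀ * a⁻¹ * b₀⁻¹
      set v₂ := g' * v * g'⁻¹ with hv₂
      have hv₂V : v₂ ∈ V := hVconj g' v hv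
      have e : g * v * g⁻¹ * v⁻¹ = (a * v₂ * a⁻¹ * v₂⁻¹) * (v₂ * v⁻¹) := by
        simp [hgdef, hv₂, g', mul_assoc]
      rw [e]
      refine mul_mem (Subgroup.mem_sup_left (hline _ hv₂V)) (Subgroup.mem_sup_right ?_)
      set v' := b₀⁻¹ * v * b₀
      have hv' : v' ∈ V := by simpa [v'] using hVconj b₀⁻¹ v hv
      have h2 : a⁻¹ * v' * a * v'⁻¹ ∈ Subgroup.zpowers z := by
        have h1 := inv_mem (hline v' hv')
        obtain ⟨i, hi⟩ := h1
        have e2 : a⁻¹ * v' * a * v'⁻¹ = a⁻¹ * (a * v' * a⁻¹ * v'⁻¹)⁻¹ * a := by simp [mul_assoc]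
        simp only at hi
        rw [e2, ← hi, mul_assoc, ← hza _ ⟨i, rfl⟩, inv_mul_cancel_left]
        exact ⟨i, rfl⟩
      obtain ⟨i, hi⟩ := h2
      refine ⟨i, ?_⟩
      simp only at hi ⊢
      rw [conj_zpow, hi]
      simp [hv₂, g', v', mul_assoc]
    exact (Subgroup.card_le_of_le hle).trans (card_sup_zpowers_le_four
      (hcV _ hzV _ (hVconj _ _ hzV)) (hVp z hzV) (hVp _ (hVconj _ _ hzV)))
  have hgW : ∀ w ∈ W, g * w * g⁻¹ ∈ W := by
    rintro _ ⟨v, rfl⟩
    exact ⟨⟨g * v * g⁻¹, hVconj g v v.2⟩, by simp [disp, mul_assoc]⟩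
  -- powers of an element with displacements fixed
  have hpowdisp : ∀ (h : X) (v : V), Commute h (disp h v) → ∀ i : ℕ,
      h ^ i * v * (h ^ i)⁻¹ = (disp h v) ^ i * v := by
    intro h v hc i
    induction i with
    | zero => simp
    | succ i ih =>
      calc h ^ (i + 1) * v * (h ^ (i + 1))⁻¹ = h * (h ^ i * v * (h ^ i)⁻¹) * h⁻¹ := by
            rw [pow_succ']; simp [mul_assoc]
        _ = disp h v ^ i * (h * v * h⁻¹) := by rw [ih, ← mul_assoc, (hc.pow_right i).eq]; simp [mul_assoc]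
        _ = _ := by rw [pow_succ]; simp [disp, mul_assoc]
  have htriv : ∀ (h : X) (j : ℕ), Odd j → h ^ j ∈ V → ∀ v : V, Commute h (disp h v) → disp h v = 1 := by
    intro h j hj hjV v hc
    have h1 := hpowdisp h v hc j
    rw [(hcV _ hjV _ v.2).eq, mul_inv_cancel_right] at h1
    have h2 : disp h v ^ j = 1 := by simpa using h1.symm
    obtain ⟨i, rfl⟩ := hj
    have hd2 : disp h v ^ 2 = 1 := hVp _ (mul_mem (hVconj h v v.2) (inv_mem v.2))
    rwa [pow_succ, pow_mul, hd2, one_pow, one_mul] at h2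
  have hgfix : ∀ w ∈ W, Commute g w → w = 1 := by
    rintro _ ⟨v, rfl⟩ hc
    exact htriv g k hkodd hk v hc
  have hWne : W ≠ ⊥ := by
    intro h
    apply hg1
    refine (QuotientGroup.eq_one_iff g).2 (hC (Subgroup.mem_centralizer_iff.2 fun v hv => ?_))
    have h1 : disp g ⟨v, hv⟩ ∈ W := ⟨_, rfl⟩
    rw [h, Subgroup.mem_bot] at h1
    exact (mul_inv_eq_iff_eq_mul.1 (mul_inv_eq_one.1 h1)).symm
  have hWcard : Nat.card W = 4 := by
    have hWp : IsPGroup 2 W := fun w => ⟨1, Subtype.ext (by simpa using hW2 w w.2)⟩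
    obtain ⟨j, hj⟩ := hWp.exists_card_eq
    have h1 : Nat.card W ≠ 1 := fun h => hWne (Subgroup.card_eq_one.1 h)
    have h2 : Nat.card W ≠ 2 := by
      intro h
      obtain ⟨s, hs, hs1⟩ := (Subgroup.bot_or_exists_ne_one W).resolve_left hWne
      obtain ⟨u, u', -, huniv⟩ := Nat.card_eq_two_iff.1 h
      have hmem : ∀ v : W, v = u ∨ v = u' := fun v => by
        have : v ∈ ({u, u'} : Set W) := huniv ▸ Set.mem_univ v
        simpa using this
      have hne : g * s * g⁻¹ ≠ 1 := fun e => hs1 (conj_eq_one_iff.1 e)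
      have : g * s * g⁻¹ = s := by
        rcases hmem ⟨s, hs⟩ with e1 | e1 <;> rcases hmem ⟨_, hgW s hs⟩ with e2 | e2 <;>
          rcases hmem 1 with e3 | e3
        all_goals first
          | exact congrArg Subtype.val (e2.trans e1.symm)
          | exact absurd (congrArg Subtype.val (e1.trans e3.symm)) hs1
          | exact absurd (congrArg Subtype.val (e2.trans e3.symm)) hne
      exact hs1 (hgfix s hs (mul_inv_eq_iff_eq_mul.1 this))
    rw [hj] at hW4 h1 h2 ⊢
    have : j ≤ 2 := (Nat.pow_le_pow_iff_right (by norm_num : 1 < 2)).1 (hW4.trans (by norm_num))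
    interval_cases j <;> simp_all
  -- `g ^ 3 ∈ V`
  have hg3 : g ^ 3 ∈ V := by
    let f : W →* W :=
      { toFun := fun w => ⟨g * w * g⁻¹, hgW w w.2⟩
        map_one' := Subtype.ext (by simp)
        map_mul' := fun u v => Subtype.ext (by simp [mul_assoc]) }
    have hcube : ∀ w ∈ W, Commute (g ^ 3) w := fun w hw => by
      have h := congrArg Subtype.val (cube_of_four hWcard (fun w => Subtype.ext (hW2 w w.2)) f
        (fun u hu => Subtype.ext (hgfix u u.2 (mul_inv_eq_iff_eq_mul.1 (congrArg Subtype.val hu))))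
        (fun u v huv => by
          have h := congrArg Subtype.val huv
          simp only [f, MonoidHom.coe_mk, OneHom.coe_mk, mul_left_inj, mul_right_inj] at h
          exact Subtype.ext h) ⟨w, hw⟩)
      have h' : g ^ 3 * w * (g ^ 3)⁻¹ = w := by
        simp only [f, MonoidHom.coe_mk, OneHom.coe_mk] at h
        rw [pow_succ, pow_succ, pow_one]
        simpa [mul_assoc] using h
      exact mul_inv_eq_iff_eq_mul.1 h'
    refine hC (Subgroup.mem_centralizer_iff.2 fun v hv => ?_)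
    have hd : disp (g ^ 3) ⟨v, hv⟩ ∈ W := by
      have e : disp (g ^ 3) ⟨v, hv⟩ = (g * (g * (disp g ⟨v, hv⟩) * g⁻¹) * g⁻¹) *
          (g * disp g ⟨v, hv⟩ * g⁻¹) * disp g ⟨v, hv⟩ := by
        show g ^ 3 * v * (g ^ 3)⁻¹ * v⁻¹ = (g * (g * (g * v * g⁻¹ * v⁻¹) * g⁻¹) * g⁻¹) *
          (g * (g * v * g⁻¹ * v⁻¹) * g⁻¹) * (g * v * g⁻¹ * v⁻¹)
        rw [pow_succ, pow_succ, pow_one]
        simp [mul_assoc]
      rw [e]
      exact mul_mem (mul_mem (hgW _ (hgW _ ⟨_, rfl⟩)) (hgW _ ⟨_, rfl⟩)) ⟨_, rfl⟩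
    have h := htriv (g ^ 3) k hkodd (by rw [← pow_mul, mul_comm, pow_mul]; exact pow_mem hk 3) ⟨v, hv⟩
      (hcube _ hd)
    exact (mul_inv_eq_iff_eq_mul.1 (mul_inv_eq_one.1 h)).symm
  -- an element of order three
  set r := g * g ^ 3 with hrdef
  have hr3 : r ^ 3 = 1 := by
    rw [hrdef, ← pow_succ', ← pow_mul, show (3 + 1) * 3 = 3 * 2 * 2 by norm_num, pow_mul, pow_mul,
      hVp _ hg3, one_pow]
  have hπr : π r = π g := by
    rw [hrdef, map_mul, show π (g ^ 3) = 1 from (QuotientGroup.eq_one_iff _).2 hg3, mul_one]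
  have hrconj : ∀ v ∈ V, r * v * r⁻¹ = g * v * g⁻¹ := fun v hv => by
    calc r * v * r⁻¹ = g * (g ^ 3 * v * (g ^ 3)⁻¹) * g⁻¹ := by simp [hrdef, mul_assoc]
      _ = _ := by rw [(hcV _ hg3 _ hv).eq, mul_inv_cancel_right]
  have hrW : ∀ w ∈ W, r * w * r⁻¹ ∈ W := fun w hw => by rw [hrconj w (hWV hw)]; exact hgW w hw
  have hrinv : r⁻¹ = r * r := inv_eq_of_mul_eq_one_right (by rw [← hr3]; simp [pow_succ, mul_assoc])
  have hrW' : ∀ w ∈ W, r⁻¹ * w * r ∈ W := fun w hw => by
    have e : r⁻¹ * w * r = r * (r * w * r⁻¹) * r⁻¹ := by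
      rw [show r * (r * w * r⁻¹) * r⁻¹ = (r * r) * w * (r * r)⁻¹ by simp [mul_assoc], ← hrinv, inv_inv]
    rw [e]
    exact hrW _ (hrW w hw)
  have hrfix : ∀ w ∈ W, Commute r w → w = 1 := fun w hw hc => hgfix w hw (by
    have h1 := hrconj w (hWV hw)
    rw [hc.eq, mul_inv_cancel_right] at h1
    exact mul_inv_eq_iff_eq_mul.1 h1.symm)
  -- `a` inverts `r` modulo `V`
  set u := a * r * a⁻¹ * r with hudef
  have huV : u ∈ V := by
    rw [← QuotientGroup.eq_one_iff]
    show π u = 1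
    simp only [hudef, map_mul, map_inv, hπr, hgdef]
    have e : ∀ b : X ⧸ V, y * (y * b * y⁻¹ * b⁻¹) * y⁻¹ * (y * b * y⁻¹ * b⁻¹) = 1 := fun b => by
      rw [hyinv]
      calc _ = (y * y) * b * ((y) * b⁻¹ * ((y * y) * b * (y * b⁻¹))) := by simp [mul_assoc]
        _ = _ := by
          rw [hy2]
          calc _ = b * ((y * y) * b⁻¹) := by simp [mul_assoc]
            _ = _ := by rw [hy2, one_mul, mul_inv_cancel]
    exact e _
  have hua : a * r * a⁻¹ = u * r⁻¹ := by simp [hudef, mul_assoc]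
  have haW : ∀ w ∈ W, a * w * a⁻¹ ∈ W := by
    rintro _ ⟨v, rfl⟩
    set v' : X := a * v * a⁻¹
    have hv' : v' ∈ V := hVconj a v v.2
    show a * (g * v * g⁻¹ * (v : X)⁻¹) * a⁻¹ ∈ W
    rw [← hrconj v v.2]
    have e : a * (r * v * r⁻¹ * (v : X)⁻¹) * a⁻¹ =
        (a * r * a⁻¹) * v' * (a * r * a⁻¹)⁻¹ * v'⁻¹ := by simp [v', mul_assoc]
    have e2 : (a * r * a⁻¹) * v' * (a * r * a⁻¹)⁻¹ * v'⁻¹ = r⁻¹ * v' * r * v'⁻¹ := by
      rw [hua]
      have hc : Commute u (r⁻¹ * v' * r) := hcV _ huV _ (by simpa using hVconj r⁻¹ v' hv')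
      calc _ = u * (r⁻¹ * v' * r) * u⁻¹ * v'⁻¹ := by simp [mul_assoc]
        _ = _ := by rw [hc.eq, mul_inv_cancel_right]
    rw [e, e2]
    have hw0 : r * (r⁻¹ * v' * r) * r⁻¹ * (r⁻¹ * v' * r)⁻¹ ∈ W := by
      have hV' : r⁻¹ * v' * r ∈ V := by simpa using hVconj r⁻¹ v' hv'
      exact ⟨⟨_, hV'⟩, by show g * _ * g⁻¹ * _ = _; rw [← hrconj _ hV']⟩
    have e3 : r⁻¹ * v' * r * v'⁻¹ = (r * (r⁻¹ * v' * r) * r⁻¹ * (r⁻¹ * v' * r)⁻¹)⁻¹ := by simp [mul_assoc]
    rw [e3]; exact inv_mem hw0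
  obtain ⟨w₁, hw₁, haw₁⟩ : ∃ w ∈ W, ¬ Commute a w := by
    by_contra hno
    push Not at hno
    refine hWne ((Subgroup.eq_bot_iff_forall _).2 fun w hw => hrfix w hw ?_)
    have h1 : a * (r * w * r⁻¹) * a⁻¹ = r * w * r⁻¹ := by
      rw [(hno _ (hrW w hw)).eq, mul_inv_cancel_right]
    have h2 : a * (r * w * r⁻¹) * a⁻¹ = r⁻¹ * w * r := by
      have hc : Commute u (r⁻¹ * w * r) := hcV _ huV _ (hWV (hrW' w hw))
      calc _ = (a * r * a⁻¹) * (a * w * a⁻¹) * (a * r * a⁻¹)⁻¹ := by simp [mul_assoc]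
        _ = u * (r⁻¹ * w * r) * u⁻¹ := by rw [(hno w hw).eq, mul_inv_cancel_right, hua]; simp [mul_assoc]
        _ = _ := by rw [hc.eq, mul_inv_cancel_right]
    have h3 := h1.symm.trans h2
    have h4 : r * r * w * (r * r)⁻¹ = w := by
      have h5 := congrArg (fun t => r * t * r⁻¹) h3
      simpa [mul_assoc] using h5
    rw [← hrinv, inv_inv] at h4
    exact ((mul_inv_eq_iff_eq_mul.1 (show r⁻¹ * w * r⁻¹⁻¹ = w by rwa [inv_inv])) |> fun h5 =>
      (show Commute r⁻¹ w from h5).inv_left |> fun h6 => by rwa [inv_inv] at h6)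
  have hzW : z ∈ W := by
    set t := a * w₁ * a⁻¹ * w₁⁻¹ with ht
    have ht1 : t ≠ 1 := fun h => haw₁ (mul_inv_eq_iff_eq_mul.1 (mul_inv_eq_one.1 h))
    have htW : t ∈ W := mul_mem (haW w₁ hw₁) (inv_mem hw₁)
    obtain ⟨i, hi⟩ : t ∈ Subgroup.zpowers z := hline w₁ (hWV hw₁)
    simp only at hi
    have hz2 : z ^ (2 : ℤ) = 1 := by exact_mod_cast hVp z hzV
    rcases Int.emod_two_eq_zero_or_one i with h2 | h2
    · exfalso; apply ht1
      rw [← hi, show i = 2 * (i / 2) by omega, zpow_mul, hz2, one_zpow]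
    · rwa [← hi, show i = 2 * (i / 2) + 1 by omega, zpow_add, zpow_mul, hz2, one_zpow, one_mul, zpow_one] at htW
  have huW : u ∈ W := by
    have h3 : u * (r⁻¹ * u * r) * (r * u * r⁻¹) = 1 := by
      have e : u * (r⁻¹ * u * r) * (r * u * r⁻¹) = (u * r⁻¹) ^ 3 := by
        rw [pow_succ, pow_succ, pow_one]
        have e2 : r * r = r⁻¹ := hrinv.symm
        calc _ = u * r⁻¹ * (u * (r * r) * (u * r⁻¹)) := by simp [mul_assoc]
          _ = _ := by rw [e2]; simp [mul_assoc]
      rw [e, ← hua, conj_pow, hr3, mul_one, mul_inv_cancel]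
    have hA : r⁻¹ * u * r ∈ V := by simpa using hVconj r⁻¹ u huV
    have hB : r * u * r⁻¹ ∈ V := hVconj r u huV
    have h4 : u = (r⁻¹ * u * r * u⁻¹) * (r * u * r⁻¹ * u⁻¹) := by
      have hAB : r⁻¹ * u * r * (r * u * r⁻¹) = u⁻¹ := by
        rw [mul_assoc] at h3; exact eq_inv_of_mul_eq_one_right h3
      calc u = u⁻¹ * (u⁻¹ * u⁻¹) := by rw [hVinv u huV, ← pow_two, hVp u huV, mul_one]
        _ = r⁻¹ * u * r * (r * u * r⁻¹) * (u⁻¹ * u⁻¹) := by rw [hAB]
        _ = r⁻¹ * u * r * ((r * u * r⁻¹) * u⁻¹) * u⁻¹ := by simp [mul_assoc]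
        _ = r⁻¹ * u * r * (u⁻¹ * ((r * u * r⁻¹) * u⁻¹)) := by
            rw [mul_assoc _ _ u⁻¹, (hcV _ (inv_mem huV) _ (mul_mem hB (inv_mem huV))).eq]
        _ = _ := by simp [mul_assoc]
    rw [h4]
    refine mul_mem ?_ ⟨⟨u, huV⟩, by show g * u * g⁻¹ * u⁻¹ = _; rw [← hrconj u huV]⟩
    have hw0 : r * (r⁻¹ * u * r) * r⁻¹ * (r⁻¹ * u * r)⁻¹ ∈ W :=
      ⟨⟨_, hA⟩, by show g * _ * g⁻¹ * _ = _; rw [← hrconj _ hA]⟩
    have e3 : r⁻¹ * u * r * u⁻¹ = (r * (r⁻¹ * u * r) * r⁻¹ * (r⁻¹ * u * r)⁻¹)⁻¹ := by simp [mul_assoc]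
    rw [e3]; exact inv_mem hw0
  obtain ⟨v, hvW, hvu⟩ : ∃ v ∈ W, r⁻¹ * v * r * v⁻¹ = u := by
    let ψ : W → W := fun w => ⟨r⁻¹ * w * r * (w : X)⁻¹, mul_mem (hrW' w w.2) (inv_mem w.2)⟩
    have hψ : Function.Injective ψ := by
      intro w w' h
      have h' : r⁻¹ * (w : X) * r * (w : X)⁻¹ = r⁻¹ * (w' : X) * r * (w' : X)⁻¹ := congrArg Subtype.val h
      have hc : Commute (w : X)⁻¹ (w' : X) := hcV _ (inv_mem (hWV w.2)) _ (hWV w'.2)
      have h1 : r⁻¹ * ((w' : X)⁻¹ * w) * r = (w' : X)⁻¹ * w := by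
        calc _ = (r⁻¹ * (w' : X) * r)⁻¹ * (r⁻¹ * (w : X) * r * (w : X)⁻¹ * w) := by simp [mul_assoc]
          _ = _ := by rw [h']; simp [mul_assoc]
      have h2 : Commute r ((w' : X)⁻¹ * w) := by
        have h5 := congrArg (fun t => r * t) h1
        simpa [Commute, SemiconjBy, mul_assoc] using h5.symm
      exact Subtype.ext (inv_mul_eq_one.1 (hrfix _ (mul_mem (inv_mem w'.2) w.2) h2)).symm
    obtain ⟨w, hw⟩ := Finite.injective_iff_surjective.1 hψ ⟨u, huW⟩
    exact ⟨w, w.2, congrArg Subtype.val hw⟩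
  set b := v * a with hbdef
  have hvV := hWV hvW
  have hbr : b * r * b⁻¹ = r⁻¹ := by
    have hc : Commute u v⁻¹ := hcV _ huV _ (inv_mem hvV)
    calc b * r * b⁻¹ = v * (a * r * a⁻¹) * v⁻¹ := by simp [hbdef, mul_assoc]
      _ = v * (u * ((r⁻¹ * v * r)⁻¹)) * r⁻¹ := by rw [hua]; simp [mul_assoc]
      _ = _ := by
        rw [show r⁻¹ * v * r = u * v by rw [← hvu]; simp [mul_assoc]]
        rw [mul_inv_rev, ← mul_assoc u, hc.eq]; simp [mul_assoc]
  have hb2 : b * b = 1 := by
    have hav : a * v * a⁻¹ ∈ V := hVconj a v hvV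
    have e : b * b = (a * v * a⁻¹ * v⁻¹) * z := by
      calc b * b = (v * (a * v * a⁻¹)) * (a * a) := by simp [hbdef, mul_assoc]
        _ = _ := by rw [(hcV _ hvV _ hav).eq, hVinv v hvV, hzdef, pow_two]
    have hbW : b * b ∈ W := by rw [e]; exact mul_mem (mul_mem (haW v hvW) (inv_mem hvW)) hzW
    refine hrfix _ hbW ?_
    have h1 : (b * b) * r * (b * b)⁻¹ = r := by
      calc _ = b * (b * r * b⁻¹) * b⁻¹ := by simp [mul_assoc]
        _ = b * r⁻¹ * b⁻¹ := by rw [hbr]
        _ = (b * r * b⁻¹)⁻¹ := by simp [mul_assoc]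
        _ = _ := by rw [hbr, inv_inv]
    exact (mul_inv_eq_iff_eq_mul.1 h1).symm
  have hbπ : π b = y := by
    rw [hbdef, map_mul, show π v = 1 from (QuotientGroup.eq_one_iff _).2 hvV, one_mul]
  set D := Subgroup.zpowers r ⊔ Subgroup.zpowers b
  have hbn : Subgroup.zpowers b ≤ Subgroup.normalizer (Subgroup.zpowers r : Set X) := by
    rw [Subgroup.zpowers_le, Subgroup.mem_normalizer_iff_map_conj_eq, MonoidHom.map_zpowers]
    show Subgroup.zpowers (b * r * b⁻¹) = _
    rw [hbr, Subgroup.zpowers_inv]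
  have hDform : ∀ d ∈ D, ∃ i j : ℤ, d = r ^ i * b ^ j := by
    intro d hd
    obtain ⟨s, hs, t, ht, rfl⟩ : d ∈ (Subgroup.zpowers r : Set X) * (Subgroup.zpowers b : Set X) := by
      rwa [← Subgroup.coe_mul_of_right_le_normalizer_left _ _ hbn]
    obtain ⟨i, rfl⟩ := hs
    obtain ⟨j, rfl⟩ := ht
    exact ⟨i, j, rfl⟩
  have hbpow : ∀ j : ℤ, b ^ j = 1 ∨ b ^ j = b := by
    intro j
    have hb2' : b ^ (2 : ℤ) = 1 := by rw [zpow_two]; exact hb2
    rcases Int.emod_two_eq_zero_or_one j with h2 | h2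
    · left; rw [show j = 2 * (j / 2) by omega, zpow_mul, hb2', one_zpow]
    · right; rw [show j = 2 * (j / 2) + 1 by omega, zpow_add, zpow_mul, hb2', one_zpow, one_mul, zpow_one]
  have hrpow : ∀ i : ℤ, r ^ i = 1 ∨ r ^ i = r ∨ r ^ i = r⁻¹ := by
    intro i
    have hr3' : r ^ (3 : ℤ) = 1 := by exact_mod_cast hr3
    rcases (show i % 3 = 0 ∨ i % 3 = 1 ∨ i % 3 = 2 by omega) with h2 | h2 | h2
    · left; rw [show i = 3 * (i / 3) by omega, zpow_mul, hr3', one_zpow]
    · right; left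
      rw [show i = 3 * (i / 3) + 1 by omega, zpow_add, zpow_mul, hr3', one_zpow, one_mul, zpow_one]
    · right; right
      rw [show i = 3 * (i / 3) + 2 by omega, zpow_add, zpow_mul, hr3', one_zpow, one_mul, zpow_two, hrinv]
  have hnotW : ∀ d ∈ D, d ∈ V → d = 1 := by
    intro d hd hdV
    obtain ⟨i, j, rfl⟩ := hDform d hd
    have h1 : π (r ^ i) * π (b ^ j) = 1 := by
      rw [← map_mul]; exact (QuotientGroup.eq_one_iff _).2 hdV
    rcases hbpow j with hj | hj
    · rw [hj, map_one, mul_one] at h1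
      rw [hj, mul_one]
      rcases hrpow i with hi | hi | hi
      · exact hi
      · rw [hi] at h1; exact absurd (hπr ▸ h1) hg1
      · rw [hi, map_inv, inv_eq_one] at h1; exact absurd (hπr ▸ h1) hg1
    · exfalso
      rw [hj, hbπ, map_zpow] at h1
      have h3 : y = ((π r) ^ i)⁻¹ := eq_inv_of_mul_eq_one_right h1
      have h4 : y ^ 3 = 1 := by
        rw [h3, inv_pow, ← zpow_natCast, ← zpow_mul, mul_comm, zpow_mul, zpow_natCast, ← map_pow, hr3]
        simp
      rw [pow_succ, pow_two, hy2, one_mul] at h4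
      exact hy1 h4
  have hWD : D ≤ Subgroup.normalizer (W : Set X) := by
    refine sup_le (Subgroup.zpowers_le.2 ?_) (Subgroup.zpowers_le.2 ?_)
    · refine Subgroup.mem_normalizer_iff.2 fun w => ⟨fun hw => hrW w hw, fun hw => ?_⟩
      simpa [mul_assoc] using hrW' _ hw
    · have hbW : ∀ w ∈ W, b * w * b⁻¹ ∈ W := fun w hw => by
        have e : b * w * b⁻¹ = v * (a * w * a⁻¹) * v⁻¹ := by simp [hbdef, mul_assoc]
        rw [e]; exact mul_mem (mul_mem hvW (haW w hw)) (inv_mem hvW)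
      have hbinv : b⁻¹ = b := inv_eq_of_mul_eq_one_right hb2
      refine Subgroup.mem_normalizer_iff.2 fun w => ⟨fun hw => hbW w hw, fun hw => ?_⟩
      have h := hbW _ hw
      rw [hbinv] at h
      have e : w = (b * b) * w * (b * b) := by rw [hb2]; simp
      rw [e]
      simpa [mul_assoc] using h
  -- the section
  set L := W ⊔ D
  set D' := D.subgroupOf L
  have hLset := Subgroup.coe_mul_of_right_le_normalizer_left W D hWD
  have hindex : Nat.card (L ⧸ D') = 4 := by
    rw [← hWcard]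
    let φ : W → L ⧸ D' := fun w => QuotientGroup.mk ⟨w, Subgroup.mem_sup_left w.2⟩
    refine (Nat.card_eq_of_bijective φ ⟨fun w w' h => ?_, fun q => ?_⟩).symm
    · simp only [φ] at h
      rw [QuotientGroup.eq] at h
      have h1 : (w : X)⁻¹ * w' ∈ D := h
      exact Subtype.ext (inv_mul_eq_one.1 (hnotW _ h1 (mul_mem (inv_mem (hWV w.2)) (hWV w'.2))))
    · induction q using QuotientGroup.induction_on with | _ l => ?_
      obtain ⟨w, hw, d, hd, he⟩ : (l : X) ∈ (W : Set X) * (D : Set X) := by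
        rw [← hLset]; exact l.2
      refine ⟨⟨w, hw⟩, QuotientGroup.eq.2 ?_⟩
      show w⁻¹ * (l : X) ∈ D
      rw [← he]
      simpa using hd
  have hker : (MulAction.toPermHom L (L ⧸ D')).ker = ⊥ := by
    rw [← Subgroup.normalCore_eq_ker, eq_bot_iff]
    intro l hl
    have hlD : (l : X) ∈ D := D'.normalCore_le hl
    have hcent : ∀ w ∈ W, Commute (l : X) w := by
      intro w hw
      have h1 : (⟨w, Subgroup.mem_sup_left hw⟩ : L) * l⁻¹ * ⟨w, Subgroup.mem_sup_left hw⟩⁻¹ ∈ D'.normalCore :=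
        (Subgroup.normalCore_normal D').conj_mem _ (inv_mem hl) _
      have h2 : (l : X) * w * (l : X)⁻¹ * w⁻¹ ∈ D := by
        have := mul_mem hlD (D'.normalCore_le h1 : (w * (l : X)⁻¹ * w⁻¹) ∈ D)
        simpa [mul_assoc] using this
      have h3 : (l : X) * w * (l : X)⁻¹ * w⁻¹ ∈ W :=
        mul_mem ((Subgroup.mem_normalizer_iff.1 (hWD hlD) w).1 hw) (inv_mem hw)
      exact mul_inv_eq_iff_eq_mul.1 (mul_inv_eq_one.1 (hnotW _ h2 (hWV h3)))
    obtain ⟨i, j, hl'⟩ := hDform _ hlD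
    refine Subgroup.mem_bot.2 (Subtype.ext ?_)
    rw [hl'] at hcent ⊢
    have hrne : ¬ ∀ w ∈ W, Commute r w := fun h =>
      hWne ((Subgroup.eq_bot_iff_forall _).2 fun w hw => hrfix w hw (h w hw))
    rcases hbpow j with hj | hj <;> rw [hj] at hcent ⊢
    · rw [mul_one] at hcent ⊢
      rcases hrpow i with hi | hi | hi <;> rw [hi] at hcent ⊢
      · rfl
      · exact absurd hcent hrne
      · exact absurd (fun w hw => by simpa using (hcent w hw).inv_left) hrne
    · exfalso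
      have hb_w : ∀ w ∈ W, b * w * b⁻¹ = a * w * a⁻¹ := fun w hw => by
        calc b * w * b⁻¹ = v * (a * w * a⁻¹) * v⁻¹ := by simp [hbdef, mul_assoc]
          _ = _ := by rw [(hcV _ hvV _ (hWV (haW w hw))).eq, mul_inv_cancel_right]
      rcases hrpow i with hi | hi | hi <;> rw [hi] at hcent
      · refine haw₁ ?_
        have h1 := hb_w w₁ hw₁
        rw [show b * w₁ = w₁ * b by simpa using (hcent w₁ hw₁).eq, mul_inv_cancel_right] at h1
        exact mul_inv_eq_iff_eq_mul.1 h1.symm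
      all_goals
        refine hrne fun w hw => ?_
        have hb2' : b * (b * w * b⁻¹) * b⁻¹ = w := by
          rw [show b * (b * w * b⁻¹) * b⁻¹ = (b * b) * w * (b * b)⁻¹ by simp [mul_assoc], hb2]; simp
        have hbw : b * w * b⁻¹ ∈ W := by rw [hb_w w hw]; exact haW w hw
        have h1 := (hcent _ hbw).eq
        have h2 := (hcent w hw).eq
      · -- `b` acts as `r⁻¹`
        have e1 : b * w * b⁻¹ = r⁻¹ * w * r := by
          calc b * w * b⁻¹ = r⁻¹ * (r * b * w) * b⁻¹ := by simp [mul_assoc]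
            _ = _ := by rw [h2]; simp [mul_assoc]
        have e2 : b * (b * w * b⁻¹) * b⁻¹ = r⁻¹ * (b * w * b⁻¹) * r := by
          calc _ = r⁻¹ * (r * b * (b * w * b⁻¹)) * b⁻¹ := by simp [mul_assoc]
            _ = _ := by rw [h1]; simp [mul_assoc]
        rw [hb2', e1] at e2
        have e3 : r * w * r⁻¹ = w := by
          conv_rhs => rw [e2]
          rw [show r⁻¹ * (r⁻¹ * w * r) * r = (r * r)⁻¹ * w * (r * r) by simp [mul_assoc],
            ← hrinv, inv_inv]
        exact mul_inv_eq_iff_eq_mul.1 e3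
      · have e1 : b * w * b⁻¹ = r * w * r⁻¹ := by
          calc b * w * b⁻¹ = r * (r⁻¹ * b * w) * b⁻¹ := by simp [mul_assoc]
            _ = _ := by rw [h2]; simp [mul_assoc]
        have e2 : b * (b * w * b⁻¹) * b⁻¹ = r * (b * w * b⁻¹) * r⁻¹ := by
          calc _ = r * (r⁻¹ * b * (b * w * b⁻¹)) * b⁻¹ := by simp [mul_assoc]
            _ = _ := by rw [h1]; simp [mul_assoc]
        rw [hb2', e1] at e2
        have e3 : r⁻¹ * w * r = w := by
          conv_rhs => rw [e2]
          rw [show r * (r * w * r⁻¹) * r⁻¹ = (r * r) * w * (r * r)⁻¹ by simp [mul_assoc],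
            ← hrinv, inv_inv]
        have : Commute r⁻¹ w := mul_inv_eq_iff_eq_mul.1 (by rwa [inv_inv])
        simpa using this.inv_left
  have hLcard : Nat.card (Equiv.Perm (L ⧸ D')) ≤ Nat.card L := by
    rw [Nat.card_perm, hindex, Subgroup.card_eq_card_quotient_mul_card_subgroup D', hindex,
      Nat.card_congr (Subgroup.subgroupOfEquivOfLe (le_sup_right : D ≤ L)).toEquiv]
    have hrord : orderOf r = 3 := orderOf_eq_prime hr3 (fun h => hg1 (by rw [← hπr, h, map_one]))
    have hbord : orderOf b = 2 := orderOf_eq_prime (by rw [pow_two, hb2]) (fun h => hy1 (by rw [← hbπ, h, map_one]))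
    have h6 : 6 ∣ Nat.card D := by
      refine Nat.Coprime.mul_dvd_of_dvd_of_dvd (show Nat.Coprime 3 2 by norm_num) ?_ ?_
      · rw [← hrord]; exact Subgroup.orderOf_dvd_natCard D (Subgroup.mem_sup_left (Subgroup.mem_zpowers r))
      · rw [← hbord]; exact Subgroup.orderOf_dvd_natCard D (Subgroup.mem_sup_right (Subgroup.mem_zpowers b))
    have := Nat.le_of_dvd Nat.card_pos h6
    show 24 ≤ _
    omega
  obtain ⟨e⟩ : Nonempty ((L ⧸ D') ≃ Fin 4) := ⟨Finite.equivFinOfCardEq hindex⟩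
  refine CfsgLib.LocalEven.involves_of_surjective L
    ((Equiv.permCongrHom e).toMonoidHom.comp (MulAction.toPermHom L (L ⧸ D'))) ?_
  refine (Equiv.permCongrHom e).surjective.comp ?_
  exact (((MonoidHom.ker_eq_bot_iff _).1 hker).bijective_of_nat_card_le hLcard).2

end CfsgLib.FGS68
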