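import Cfsg.Agent.Lib.Transfer.Extraspecial
import Cfsg.Prelude.Def_CaseTheorems
import Mathlib

/-!
The 2-rank of a group of class two with centre of order two, and classification by order and rank.
-/

set_option autoImplicit false

namespace CfsgLib.FGS68

open CfsgLib.Transfer
open scoped commutatorElement

universe u v

variable {E : Type u} [Group E]

theorem central_two_cases (h : CentreOrderP 2 E) {z w : E} (hz : z ∈ Subgroup.center E) (hz1 : z ≠ 1)
    (hw : w ∈ Subgroup.center E) : w = 1 ∨ w = z := by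
  haveI : Fact (Nat.Prime 2) := ⟨Nat.prime_two⟩
  obtain ⟨k, rfl⟩ := h.exists_zpow_eq hz hz1 hw
  have hz2 : z ^ (2 : ℤ) = 1 := by exact_mod_cast h.pow_eq_one hz
  rcases Int.emod_two_eq_zero_or_one k with hk2 | hk2
  · left; rw [show k = 2 * (k / 2) by omega, zpow_mul, hz2, one_zpow]
  · right
    rw [show k = 2 * (k / 2) + 1 by omega, zpow_add, zpow_mul, hz2, one_zpow, one_mul, zpow_one]

/-- A non-central involution is in a pair of involutions. -/
theorem exists_involution_pair (h : CentreOrderP 2 E) {z x : E} (hz : z ∈ Subgroup.center E)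
    (hz1 : z ≠ 1) (hx : x ∉ Subgroup.center E) (hx2 : x ^ 2 = 1) :
    ∃ x y : E, ⁅x, y⁆ = z ∧ x ^ 2 = 1 ∧ y ^ 2 = 1 := by
  haveI : Fact (Nat.Prime 2) := ⟨Nat.prime_two⟩
  obtain ⟨y, hy⟩ := h.exists_partner hx hz
  rcases central_two_cases h hz hz1 (h.pow_mem_center y) with hy2 | hy2
  · exact ⟨x, y, hy, hx2, hy2⟩
  · refine ⟨x, x * y, ?_, hx2, ?_⟩
    · rw [commutatorElement_mul_right_central (hy ▸ hz), commutatorElement_self, one_mul, hy]
    · have hzz : z * z = 1 := by rw [← pow_two, h.pow_eq_one hz]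
      rw [pow_two]
      have e2 : x * y * (x * y) = ⁅x, y⁆ * (y * (x * (x * y))) := by
        rw [commutatorElement_def]; simp [mul_assoc]
      rw [e2, ← mul_assoc x x, ← pow_two x, hx2, one_mul, ← pow_two y, hy2, hy, hzz]

theorem card_le_two_mul_inf_centralizer [Finite E] (h : CentreOrderP 2 E) (A : Subgroup E) (x : E) :
    Nat.card A ≤ 2 * Nat.card ↥(A ⊓ Subgroup.centralizer {x}) := by
  haveI : Fact (Nat.Prime 2) := ⟨Nat.prime_two⟩
  let π : A →* Subgroup.center E := (commutatorHom h.class_two x).comp A.subtype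
  have hker : π.ker.map A.subtype = A ⊓ Subgroup.centralizer {x} := by
    ext a
    simp only [Subgroup.mem_map, MonoidHom.mem_ker, Subgroup.mem_inf,
      Subgroup.mem_centralizer_singleton_iff]
    constructor
    · rintro ⟨b, hb, rfl⟩
      refine ⟨b.2, ?_⟩
      have h1 := congrArg Subtype.val hb
      simp only [π, MonoidHom.comp_apply, commutatorHom_apply, OneMemClass.coe_one,
        commutatorElement_eq_one_iff_mul_comm] at h1
      exact h1
    · rintro ⟨ha, hc⟩
      refine ⟨⟨a, ha⟩, Subtype.ext ?_, rfl⟩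
      simp only [π, MonoidHom.comp_apply, commutatorHom_apply, OneMemClass.coe_one,
        commutatorElement_eq_one_iff_mul_comm]
      exact hc
  rw [← hker, Subgroup.card_map_of_injective A.subtype_injective, ← π.ker.card_mul_index,
    Subgroup.index_ker, mul_comm]
  exact Nat.mul_le_mul_right _ ((Subgroup.card_le_card_group _).trans h.card_center.le)

theorem isMulCommutative_sup_zpowers {A : Subgroup E} {x : E} (hA : IsMulCommutative A)
    (hA2 : ∀ a ∈ A, a ^ 2 = 1) (hx2 : x ^ 2 = 1) (hAx : ∀ a ∈ A, Commute x a) :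
    IsMulCommutative ↥(A ⊔ Subgroup.zpowers x) ∧ ∀ a ∈ A ⊔ Subgroup.zpowers x, a ^ 2 = 1 := by
  haveI := hA
  have hgen : A ⊔ Subgroup.zpowers x = Subgroup.closure ((A : Set E) ∪ {x}) := by
    rw [Subgroup.closure_union, Subgroup.closure_eq, Subgroup.zpowers_eq_closure]
  have hcomm : ∀ a ∈ (A : Set E) ∪ {x}, ∀ b ∈ (A : Set E) ∪ {x}, a * b = b * a := by
    rintro a (ha | rfl) b (hb | rfl)
    · exact congrArg Subtype.val (mul_comm' (⟨a, ha⟩ : A) ⟨b, hb⟩)
    · exact ((hAx a ha).symm).eq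
    · exact (hAx b hb).eq
    · rfl
  have hc : IsMulCommutative ↥(A ⊔ Subgroup.zpowers x) := by
    rw [hgen]; exact Subgroup.isMulCommutative_closure hcomm
  refine ⟨hc, fun a ha => ?_⟩
  have hc' : ∀ u ∈ A ⊔ Subgroup.zpowers x, ∀ v ∈ A ⊔ Subgroup.zpowers x, Commute u v :=
    fun u hu v hv => congrArg Subtype.val
      (@mul_comm' _ _ hc (⟨u, hu⟩ : ↥(A ⊔ Subgroup.zpowers x)) ⟨v, hv⟩)
  rw [hgen] at ha hc'
  induction ha using Subgroup.closure_induction with
  | mem y hy =>
    rcases hy with hy | rfl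
    · exact hA2 y hy
    · exact hx2
  | one => exact one_pow 2
  | mul u v hu hv h1 h2 => rw [(hc' u hu v hv).mul_pow, h1, h2, one_mul]
  | inv u _ h1 => rw [inv_pow, h1, inv_one]

theorem two_mul_card_le_sup [Finite E] {A : Subgroup E} {x : E} (hx : x ∉ A) :
    2 * Nat.card A ≤ Nat.card ↥(A ⊔ Subgroup.zpowers x) := by
  have hlt : A < A ⊔ Subgroup.zpowers x :=
    lt_of_le_of_ne le_sup_left fun e => hx (e ▸ Subgroup.mem_sup_right (Subgroup.mem_zpowers x))
  obtain ⟨k, hk⟩ := Subgroup.card_dvd_of_le hlt.le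
  have hne : Nat.card A < Nat.card ↥(A ⊔ Subgroup.zpowers x) :=
    Set.Finite.card_lt_card (Set.toFinite _) hlt
  rw [hk] at hne ⊢
  have : 2 ≤ k := by nlinarith [Nat.card_pos (α := A)]
  rw [mul_comm]
  exact Nat.mul_le_mul_left _ this

variable [Finite E]

/-- A pair of involutions lowers the rank by one. -/
theorem pRankLE_succ_iff (h : CentreOrderP 2 E) {x y z : E} (hxy : ⁅x, y⁆ = z) (hz1 : z ≠ 1)
    (hx2 : x ^ 2 = 1) (k : ℕ) :
    Cfsg.PRankLE 2 (k + 1) E ↔ Cfsg.PRankLE 2 k (Subgroup.centralizer ({x, y} : Set E)) := by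
  set C := Subgroup.centralizer ({x, y} : Set E) with hC
  have hxC : x ∉ C := fun hx => hz1 (hxy ▸ commutatorElement_eq_one_iff_mul_comm.2
    (Subgroup.mem_centralizer_iff.1 hx y (by simp)).symm)
  constructor
  · intro hE A hA hA2
    haveI := hA
    have hA' : IsMulCommutative (A.map C.subtype) := inferInstance
    have hA2' : ∀ a ∈ A.map C.subtype, a ^ 2 = 1 := by
      rintro _ ⟨a, ha, rfl⟩
      exact congrArg Subtype.val (hA2 a ha)
    obtain ⟨h1, h2⟩ := isMulCommutative_sup_zpowers hA' hA2' hx2 (by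
      rintro _ ⟨a, -, rfl⟩
      exact CentreOrderP.comm_left a.2)
    have h3 := (two_mul_card_le_sup (A := A.map C.subtype) (x := x)
      fun hx => hxC (Subgroup.map_subtype_le _ hx)).trans (hE _ h1 h2)
    rw [Subgroup.card_map_of_injective C.subtype_injective, pow_succ] at h3
    omega
  · intro hk A hA hA2
    haveI := hA
    set A₀ := A ⊓ Subgroup.centralizer {x}
    have hA₀ : IsMulCommutative A₀ := IsMulCommutative.of_comm fun a b => Subtype.ext
      (congrArg Subtype.val (mul_comm' (⟨a, a.2.1⟩ : A) ⟨b, b.2.1⟩) : _)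
    obtain ⟨h1, h2⟩ := isMulCommutative_sup_zpowers hA₀ (fun a ha => hA2 a ha.1) hx2
      (fun a ha => (Subgroup.mem_centralizer_singleton_iff.1 ha.2).symm)
    set B := A₀ ⊔ Subgroup.zpowers x
    have hAB : Nat.card A ≤ Nat.card B := by
      by_cases hxA : x ∈ A₀
      · have e : A ≤ A₀ := fun a ha => ⟨ha, Subgroup.mem_centralizer_singleton_iff.2
          (congrArg Subtype.val (mul_comm' (⟨a, ha⟩ : A) ⟨x, hxA.1⟩) : _)⟩
        exact Subgroup.card_le_of_le (e.trans le_sup_left)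
      · exact (card_le_two_mul_inf_centralizer h A x).trans (two_mul_card_le_sup hxA)
    refine hAB.trans ((card_le_two_mul_inf_centralizer h B y).trans ?_)
    rw [pow_succ, mul_comm (2 ^ k)]
    refine Nat.mul_le_mul_left 2 ?_
    have hBC : B ⊓ Subgroup.centralizer {y} ≤ C := by
      rintro b ⟨hb, hby⟩
      refine Subgroup.mem_centralizer_iff.2 ?_
      rintro w (rfl | rfl)
      · exact congrArg Subtype.val (@mul_comm' _ _ h1
          (⟨w, Subgroup.mem_sup_right (Subgroup.mem_zpowers w)⟩ : B) ⟨b, hb⟩)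
      · exact (Subgroup.mem_centralizer_singleton_iff.1 hby).symm
    haveI := h1
    have := hk ((B ⊓ Subgroup.centralizer {y}).subgroupOf C)
      (IsMulCommutative.of_comm fun a b => Subtype.ext (Subtype.ext
        (congrArg Subtype.val (mul_comm' (⟨_, a.2.1⟩ : B) ⟨_, b.2.1⟩) : _)))
      (fun a ha => Subtype.ext (h2 _ ha.1))
    rwa [Nat.card_congr (Subgroup.subgroupOfEquivOfLe hBC).toEquiv] at this

theorem not_pRankLE_zero (h : CentreOrderP 2 E) : ¬ Cfsg.PRankLE 2 0 E := by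
  intro h0
  have := h0 (Subgroup.center E) inferInstance (fun a ha => h.pow_eq_one ha)
  rw [h.card_center] at this
  omega

theorem pRankLE_one_of_no_involution (h : CentreOrderP 2 E)
    (hno : ∀ x : E, x ^ 2 = 1 → x ∈ Subgroup.center E) : Cfsg.PRankLE 2 1 E := by
  intro A _ hA2
  rw [pow_one, ← h.card_center]
  exact Subgroup.card_le_of_le fun a ha => hno a (hA2 a ha)

/-- Shape of a group with an involution pair or not. -/
theorem pair_or_small (h : CentreOrderP 2 E) {z : E} (hz : z ∈ Subgroup.center E) (hz1 : z ≠ 1)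
    (hE : Nat.card E ≠ 2) :
    (∃ x y : E, ⁅x, y⁆ = z ∧ x ^ 2 = 1 ∧ y ^ 2 = 1) ∨
      ((∀ x : E, x ^ 2 = 1 → x ∈ Subgroup.center E) ∧ Nat.card E = 8 ∧
        ∃ x y : E, ⁅x, y⁆ = z ∧ x ^ 2 = z ^ (1 : ℤ) ∧ y ^ 2 = z ^ (1 : ℤ)) := by
  by_cases hno : ∀ x : E, x ^ 2 = 1 → x ∈ Subgroup.center E
  · rcases h.exists_normalized_pair hz hz1 hE with ⟨x, y, hxy, hx2, -⟩ | h8
    · exfalso
      rw [zpow_zero] at hx2
      exact hz1 (hxy ▸ commutatorElement_eq_one_iff_mul_comm.2
        (Subgroup.mem_center_iff.1 (hno x hx2) y).symm)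
    · exact Or.inr ⟨hno, h8⟩
  · push Not at hno
    obtain ⟨x, hx2, hx⟩ := hno
    exact Or.inl (exists_involution_pair h hz hz1 hx hx2)

theorem rank_dichotomy (h : CentreOrderP 2 E) (n : ℕ) (hn : Nat.card E = 2 ^ (2 * n + 1)) :
    (Cfsg.PRankLE 2 n E ∧ ¬ Cfsg.PRankLE 2 (n - 1) E) ∨
      (Cfsg.PRankLE 2 (n + 1) E ∧ ¬ Cfsg.PRankLE 2 n E) := by
  haveI : Fact (Nat.Prime 2) := ⟨Nat.prime_two⟩
  induction n generalizing E with
  | zero =>
    refine Or.inr ⟨fun A _ _ => ?_, not_pRankLE_zero h⟩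
    rw [pow_one]
    exact (Subgroup.card_le_card_group _).trans hn.le
  | succ m ih =>
    obtain ⟨z, hz, hz1⟩ := h.exists_center_ne_one
    have hne2 : Nat.card E ≠ 2 := fun e => by
      rw [e] at hn
      have := Nat.pow_right_injective le_rfl (show 2 ^ 1 = 2 ^ (2 * (m + 1) + 1) by rw [pow_one]; exact hn)
      omega
    rcases pair_or_small h hz hz1 hne2 with ⟨x, y, hxy, hx2, -⟩ | ⟨hno, h8, -⟩
    · obtain ⟨hC, -, hcard⟩ := h.centralizer_pair hxy hz1
      have hCn : Nat.card (Subgroup.centralizer ({x, y} : Set E)) = 2 ^ (2 * m + 1) := by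
        rw [hn] at hcard
        refine Nat.eq_of_mul_eq_mul_right (by norm_num : 0 < 2 ^ 2) ?_
        rw [← hcard, ← pow_add]; congr 1
      rcases ih hC hCn with ⟨h1, h2⟩ | ⟨h1, h2⟩
      · refine Or.inl ⟨(pRankLE_succ_iff h hxy hz1 hx2 m).2 h1, ?_⟩
        rcases m with _ | m
        · exact absurd h1 h2
        · exact fun e => h2 ((pRankLE_succ_iff h hxy hz1 hx2 m).1 e)
      · exact Or.inr ⟨(pRankLE_succ_iff h hxy hz1 hx2 (m + 1)).2 h1,
          fun e => h2 ((pRankLE_succ_iff h hxy hz1 hx2 m).1 e)⟩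
    · rw [h8] at hn
      obtain rfl : m = 0 := by
        have := Nat.pow_right_injective le_rfl (show 2 ^ 3 = 2 ^ (2 * (m + 1) + 1) by norm_num; exact hn)
        omega
      exact Or.inl ⟨pRankLE_one_of_no_involution h hno, not_pRankLE_zero h⟩

/-- Same order and same rank: isomorphic. -/
theorem exists_equiv_of_rank {E' : Type v} [Group E'] [Finite E'] (h : CentreOrderP 2 E)
    (h' : CentreOrderP 2 E') {z : E} {z' : E'} (hz : z ∈ Subgroup.center E) (hz1 : z ≠ 1)
    (hz' : z' ∈ Subgroup.center E') (hz1' : z' ≠ 1) (hcard : Nat.card E = Nat.card E')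
    (hrk : ∀ k, Cfsg.PRankLE 2 k E ↔ Cfsg.PRankLE 2 k E') : ∃ ψ : E ≃* E', ψ z = z' := by
  haveI : Fact (Nat.Prime 2) := ⟨Nat.prime_two⟩
  suffices key : ∀ (N : ℕ) (E : Type u) (E' : Type v) [Group E] [Group E'] [Finite E] [Finite E'],
      CentreOrderP 2 E → CentreOrderP 2 E' → Nat.card E = N → Nat.card E' = N →
      (∀ k, Cfsg.PRankLE 2 k E ↔ Cfsg.PRankLE 2 k E') → ∀ (z : E) (z' : E'),
      z ∈ Subgroup.center E → z ≠ 1 → z' ∈ Subgroup.center E' → z' ≠ 1 →
      ∃ ψ : E ≃* E', ψ z = z' from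
    key _ E E' h h' rfl hcard.symm hrk z z' hz hz1 hz' hz1'
  intro N
  induction N using Nat.strong_induction_on with
  | _ N ih =>
    intro E E' _ _ _ _ h h' hN hN' hrk z z' hz hz1 hz' hz1'
    by_cases hN2 : N = 2
    · exact CentreOrderP.exists_equiv_of_center_top h h' (hN.trans hN2) (hN'.trans hN2) hz1 hz1'
    have htwo : ∀ (F : Type v) [Group F] [Finite F], CentreOrderP 2 F → ∀ {a b c : F},
        ⁅a, b⁆ = c → c ≠ 1 → a ^ 2 = 1 → ¬ Cfsg.PRankLE 2 1 F :=
      fun F _ _ hF a b c hab hc ha2 e =>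
        not_pRankLE_zero (hF.centralizer_pair hab hc).1 ((pRankLE_succ_iff hF hab hc ha2 0).1 e)
    rcases pair_or_small h hz hz1 (hN ▸ hN2) with ⟨x, y, hxy, hx2, hy2⟩ | ⟨hno, h8, x, y, hxy, hx2, hy2⟩
    <;> rcases pair_or_small h' hz' hz1' (hN' ▸ hN2) with
      ⟨x', y', hxy', hx2', hy2'⟩ | ⟨hno', h8', x', y', hxy', hx2', hy2'⟩
    · obtain ⟨hC, -, hc⟩ := h.centralizer_pair hxy hz1
      obtain ⟨hC', -, hc'⟩ := h'.centralizer_pair hxy' hz1'
      obtain ⟨φ, hφ⟩ := ih _ (hN ▸ h.pair_subgroup_card_lt hxy hz1) _ _ hC hC' rfl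
        (Nat.eq_of_mul_eq_mul_right (by norm_num : 0 < 2 ^ 2)
          (hc'.symm.trans (hN'.trans (hN.symm.trans hc))))
        (fun k => ((pRankLE_succ_iff h hxy hz1 hx2 k).symm.trans (hrk _)).trans
          (pRankLE_succ_iff h' hxy' hz1' hx2' k))
        ⟨z, Subgroup.center_le_centralizer _ hz⟩ ⟨z', Subgroup.center_le_centralizer _ hz'⟩
        (CentreOrderP.mem_center_centralizer_pair hz) (fun e => hz1 (congrArg Subtype.val e))
        (CentreOrderP.mem_center_centralizer_pair hz') (fun e => hz1' (congrArg Subtype.val e))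
      exact CentreOrderP.exists_extend_equiv h h' hxy hxy' hz1 hz1' (e := 0) (f := 0)
        (by rwa [zpow_zero]) (by rwa [zpow_zero]) (by rwa [zpow_zero]) (by rwa [zpow_zero]) φ
        (fun _ => congrArg Subtype.val hφ)
    · exfalso
      have h1 := (hrk 1).2 (pRankLE_one_of_no_involution h' hno')
      exact not_pRankLE_zero (h.centralizer_pair hxy hz1).1
        ((pRankLE_succ_iff h hxy hz1 hx2 0).1 h1)
    · exact absurd ((hrk 1).1 (pRankLE_one_of_no_involution h hno)) (htwo E' h' hxy' hz1' hx2')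
    · exact CentreOrderP.glue_eight h h' h8 h8' hxy hxy' hz1 hz1' hx2 hy2 hx2' hy2'

end CfsgLib.FGS68
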