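import Mathlib

/-!
Quadratic maps over the field with two elements: a map from an elementary abelian group of order
`2^n` to one of order `2^m` without non-trivial zero has `n ≤ 2m`; consequences for central
extensions in which squares are central involutions.
-/

namespace CfsgLib.FGS68

open scoped commutatorElement

open Finset in
/-- Anisotropic quadratic maps over `ZMod 2`. -/
theorem f2quad_card_le {V W : Type*} [AddCommGroup V] [Finite V] [AddCommGroup W] [Finite W]
    [Module (ZMod 2) W] (hV2 : ∀ v : V, v + v = 0) (q : V → W) (h0 : q 0 = 0)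
    (hcubic : ∀ u v w : V, q (u + v + w) = q (u + v) + q (u + w) + q (v + w) + q u + q v + q w)
    (hz : ∀ v, q v = 0 → v = 0) :
    Nat.card V ≤ Nat.card W ^ 2 := by
  classical
  have := Fintype.ofFinite V
  have := Fintype.ofFinite W
  have := Module.Finite.of_finite (R := ZMod 2) (M := W)
  have : Finite (Module.Dual (ZMod 2) W) := Module.finite_of_finite (ZMod 2)
  have := Fintype.ofFinite (Module.Dual (ZMod 2) W)
  have hW2 : ∀ w : W, w + w = 0 := fun w => by
    rw [← two_smul (ZMod 2) w, show (2 : ZMod 2) = 0 from rfl, zero_smul]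
  obtain ⟨n, hn⟩ : ∃ n, Nat.card V = 2 ^ n := by
    have hp : IsPGroup 2 (Multiplicative V) := fun g => ⟨1, by
      apply Multiplicative.toAdd.injective
      rw [pow_one, sq, toAdd_mul, toAdd_one]
      exact hV2 _⟩
    obtain ⟨n, hn⟩ := hp.exists_card_eq
    exact ⟨n, (Nat.card_congr Multiplicative.toAdd).symm.trans hn⟩
  obtain ⟨m, hm, hdual⟩ : ∃ m, Nat.card W = 2 ^ m ∧ Nat.card (Module.Dual (ZMod 2) W) = 2 ^ m := by
    refine ⟨Module.finrank (ZMod 2) W, ?_, ?_⟩
    · rw [Module.natCard_eq_pow_finrank (K := ZMod 2), Nat.card_zmod]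
    · rw [Module.natCard_eq_pow_finrank (K := ZMod 2), Nat.card_zmod, Subspace.dual_finrank_eq]
  rw [hn, hm, ← pow_mul]
  refine Nat.pow_le_pow_right two_pos ?_
  by_contra hlt
  set s : ZMod 2 → ℤ := fun a => if a = 0 then 1 else -1 with hsdef
  have hs : ∀ a b, s (a + b) = s a * s b := by
    intro a b
    revert a b
    decide
  let S : Module.Dual (ZMod 2) W → ℤ := fun f => ∑ v : V, s (f (q v))
  have hB : ∀ u v w : V, q (u + (v + w)) + q u + q (v + w) =
      (q (u + v) + q u + q v) + (q (u + w) + q u + q w) := by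
    intro u v w
    rw [← add_assoc u v w, hcubic]
    calc _ = (q (u + v) + q (u + w) + q v + q w) + (q (v + w) + q (v + w)) + (q u + q u) := by abel
      _ = _ := by
        rw [hW2, hW2, add_zero, add_zero]
        calc _ = (q (u + v) + q (u + w) + q v + q w) + (q u + q u) := by rw [hW2, add_zero]
          _ = _ := by abel
  have hsq : ∀ f, (2 : ℤ) ^ n ∣ S f ^ 2 := by
    intro f
    have h1 : S f ^ 2 = ∑ u : V, s (f (q u)) * ∑ v : V, s (f (q (u + v) + q u + q v)) := by
      rw [sq, Finset.sum_mul_sum]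
      simp_rw [Finset.mul_sum]
      conv_rhs => rw [Finset.sum_comm]
      refine Finset.sum_congr rfl fun v _ => ?_
      refine (Fintype.sum_equiv (Equiv.addRight v) _ _ fun u => ?_).symm
      rw [← hs, ← hs, ← map_add, ← map_add]
      congr 2
      show q u + (q (u + v) + q u + q v) = q v + q (u + v)
      calc _ = q v + q (u + v) + (q u + q u) := by abel
        _ = _ := by rw [hW2, add_zero]
    rw [h1]
    refine Finset.dvd_sum fun u _ => dvd_mul_of_dvd_right ?_ _
    by_cases hu : ∃ v₀ : V, f (q (u + v₀) + q u + q v₀) ≠ 0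
    · obtain ⟨v₀, hv₀⟩ := hu
      have hz' : (∑ v : V, s (f (q (u + v) + q u + q v))) = -∑ v : V, s (f (q (u + v) + q u + q v)) := by
        conv_lhs => rw [← Equiv.sum_comp (Equiv.addRight v₀)]
        rw [← Finset.sum_neg_distrib]
        refine Finset.sum_congr rfl fun v _ => ?_
        simp only [Equiv.coe_addRight]
        rw [hB, map_add, hs]
        have : s (f (q (u + v₀) + q u + q v₀)) = -1 := if_neg hv₀
        rw [this, mul_neg, mul_one]
      have : (∑ v : V, s (f (q (u + v) + q u + q v))) = 0 := by linarith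
      rw [this]
      exact dvd_zero _
    · push Not at hu
      rw [Finset.sum_congr rfl (fun v _ => show s (f (q (u + v) + q u + q v)) = 1 from if_pos (hu v)),
        Finset.sum_const, Finset.card_univ, ← Nat.card_eq_fintype_card, hn]
      simp
  have hdvd : ∀ (k : ℕ) (x : ℤ), (2 : ℤ) ^ (2 * k + 1) ∣ x ^ 2 → (2 : ℤ) ^ (k + 1) ∣ x := by
    intro k
    induction k with
    | zero => intro x h; simpa using Int.prime_two.dvd_of_dvd_pow (by simpa using h)
    | succ k ih =>
      intro x h
      obtain ⟨y, rfl⟩ : (2 : ℤ) ∣ x :=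
        Int.prime_two.dvd_of_dvd_pow ((dvd_pow_self 2 (by omega)).trans h)
      rw [pow_succ', mul_comm (2 : ℤ)]
      rw [mul_comm ((2 : ℤ) ^ (k + 1))]
      refine mul_dvd_mul_left 2 (ih y ?_)
      rw [mul_pow, show 2 * (k + 1) + 1 = (2 * k + 1) + 2 by ring, pow_add] at h
      rw [mul_comm ((2 : ℤ) ^ (2 * k + 1))] at h
      exact (mul_dvd_mul_iff_left (by norm_num)).1 h
  have hS : ∀ f, (2 : ℤ) ^ (m + 1) ∣ S f := fun f =>
    hdvd m _ ((pow_dvd_pow 2 (by omega)).trans (hsq f))
  have htot : ∑ f, S f = (2 : ℤ) ^ m := by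
    rw [Finset.sum_comm]
    have h1 : ∀ v : V, (∑ f : Module.Dual (ZMod 2) W, s (f (q v))) = if v = 0 then 2 ^ m else 0 := by
      intro v
      by_cases hv : v = 0
      · subst hv
        simp [h0, hsdef, hdual, ← Nat.card_eq_fintype_card]
      · rw [if_neg hv]
        obtain ⟨f₀, hf₀⟩ : ∃ f₀ : Module.Dual (ZMod 2) W, f₀ (q v) ≠ 0 := by
          by_contra h
          push Not at h
          exact hv (hz v ((Module.forall_dual_apply_eq_zero_iff (ZMod 2) (q v)).1 h))
        have : (∑ f : Module.Dual (ZMod 2) W, s (f (q v))) =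
            -∑ f : Module.Dual (ZMod 2) W, s (f (q v)) := by
          conv_lhs => rw [← Equiv.sum_comp (Equiv.addRight f₀)]
          rw [← Finset.sum_neg_distrib]
          refine Finset.sum_congr rfl fun f _ => ?_
          simp only [Equiv.coe_addRight, LinearMap.add_apply]
          rw [hs, show s (f₀ (q v)) = -1 from if_neg hf₀, mul_neg, mul_one]
        linarith
    rw [Finset.sum_congr rfl (fun v _ => h1 v)]
    simp
  have h3 : (2 : ℤ) ^ (m + 1) ∣ (2 : ℤ) ^ m := htot ▸ Finset.dvd_sum fun f _ => hS f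
  have h4 : (2 : ℕ) ^ (m + 1) ∣ 2 ^ m := by exact_mod_cast h3
  have := (Nat.pow_dvd_pow_iff_le_right (by norm_num : 1 < 2)).1 h4
  omega

/-- Anisotropic quadratic maps with a subgroup of zeros. -/
theorem f2quad_card_le_mul {V W : Type*} [AddCommGroup V] [Finite V] [AddCommGroup W] [Finite W]
    [Module (ZMod 2) V] [Module (ZMod 2) W] (q : V → W) (h0 : q 0 = 0)
    (hcubic : ∀ u v w : V, q (u + v + w) = q (u + v) + q (u + w) + q (v + w) + q u + q v + q w)
    (U : AddSubgroup V) (hz : ∀ v, q v = 0 → v ∈ U) :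
    Nat.card V ≤ Nat.card U * Nat.card W ^ 2 := by
  let U' : Submodule (ZMod 2) V := AddSubgroup.toZModSubmodule 2 U
  obtain ⟨C, hC⟩ := exists_isCompl U'
  have hcard : Nat.card V = Nat.card U * Nat.card C := by
    rw [← Nat.card_congr (Submodule.prodEquivOfIsCompl U' C hC).toEquiv, Nat.card_prod]
    rfl
  rw [hcard]
  refine Nat.mul_le_mul_left _ (f2quad_card_le (fun v => ?_) (fun v : C => q v) h0
    (fun u v w => hcubic u v w) fun v hv => ?_)
  · rw [← two_smul (ZMod 2) v, show (2 : ZMod 2) = 0 from rfl, zero_smul]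
  · have hvU : (v : V) ∈ U' := hz _ hv
    exact Subtype.ext ((Submodule.disjoint_def.1 hC.disjoint) _ hvU v.2)

/-- A finite group in which squares lie in a central subgroup `W` of exponent two, and every element
whose square lies in `W₀ ≤ W` lies in `U`, has order at most `|U| · |W : W₀|²`. -/
theorem card_le_of_sq_central {G : Type*} [Group G] [Finite G] (W W₀ U : Subgroup G)
    (hWc : W ≤ Subgroup.center G) (hW2 : ∀ w ∈ W, w ^ 2 = 1) (hsq : ∀ x : G, x ^ 2 ∈ W)
    (h0W : W₀ ≤ W) (hWU : W ≤ U) (hU : ∀ x : G, x ^ 2 ∈ W₀ → x ∈ U) :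
    Nat.card G ≤ Nat.card U * W₀.relIndex W ^ 2 := by
  have : W.Normal := ⟨fun w hw g => by
    rw [Subgroup.mem_center_iff.1 (hWc hw) g, mul_inv_cancel_right]; exact hw⟩
  have hWcomm : ∀ w ∈ W, ∀ g : G, g * w = w * g := fun w hw g => Subgroup.mem_center_iff.1 (hWc hw) g
  -- the quotient by `W` has exponent two
  have hV : ∀ v : G ⧸ W, v * v = 1 := fun v => QuotientGroup.induction_on v fun x => by
    rw [← QuotientGroup.mk_mul, QuotientGroup.eq_one_iff, ← sq]; exact hsq x
  have hVc : ∀ a b : G ⧸ W, a * b = b * a := fun a b => by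
    have e : ∀ c : G ⧸ W, c⁻¹ = c := fun c => inv_eq_of_mul_eq_one_right (hV c)
    calc a * b = (a * b)⁻¹ := (e _).symm
      _ = _ := by rw [mul_inv_rev, e, e]
  letI : CommGroup (G ⧸ W) := { (inferInstance : Group (G ⧸ W)) with mul_comm := hVc }
  letI : CommGroup W := { (inferInstance : Group W) with mul_comm := fun a b => Subtype.ext (hWcomm b b.2 a) }
  letI : Module (ZMod 2) (Additive (G ⧸ W)) := AddCommGroup.zmodModule (n := 2) fun v => by
    rw [two_nsmul]; exact hV (Additive.toMul v)
  letI : Module (ZMod 2) (Additive (↥W ⧸ W₀.subgroupOf W)) := AddCommGroup.zmodModule (n := 2) fun v => by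
    rw [two_nsmul]
    refine QuotientGroup.induction_on (Additive.toMul v) (C := fun t => t * t = 1) fun x => ?_
    rw [← QuotientGroup.mk_mul, show x * x = 1 from Subtype.ext (by rw [Subgroup.coe_mul, ← sq]; exact hW2 x x.2)]
    rfl
  let sqm : G ⧸ W → ↥W ⧸ W₀.subgroupOf W := Quotient.lift (fun x => QuotientGroup.mk ⟨x ^ 2, hsq x⟩) (by
    intro a b hab
    have hw : a⁻¹ * b ∈ W := QuotientGroup.leftRel_apply.1 hab
    congr 1
    apply Subtype.ext
    show a ^ 2 = b ^ 2
    have hb : b = a * (a⁻¹ * b) := by group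
    rw [hb, (show Commute a (a⁻¹ * b) from hWcomm _ hw a).mul_pow, hW2 _ hw, mul_one])
  have hsqm : ∀ x : G, sqm x = QuotientGroup.mk ⟨x ^ 2, hsq x⟩ := fun _ => rfl
  have hcomW : ∀ a b : G, ⁅a, b⁆ ∈ W := fun a b => by
    rw [← QuotientGroup.eq_one_iff]
    show QuotientGroup.mk' W ⁅a, b⁆ = 1
    rw [map_commutatorElement, commutatorElement_eq_one_iff_mul_comm]
    exact hVc _ _
  have key : ∀ a b : G, (a * b) ^ 2 = a ^ 2 * b ^ 2 * ⁅b, a⁆ := by
    intro a b
    have h1 : b * a = ⁅b, a⁆ * (a * b) := by simp [commutatorElement_def, mul_assoc]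
    calc (a * b) ^ 2 = a * (b * a) * b := by simp [sq, mul_assoc]
      _ = a * ⁅b, a⁆ * (a * (b * b)) := by rw [h1]; simp [mul_assoc]
      _ = ⁅b, a⁆ * (a * a * (b * b)) := by rw [hWcomm _ (hcomW b a) a]; simp [mul_assoc]
      _ = _ := by rw [← sq, ← sq, ← hWcomm _ (hcomW b a)]
  have hbil : ∀ a b c : G, ⁅c, a * b⁆ = ⁅c, a⁆ * ⁅c, b⁆ := by
    intro a b c
    calc ⁅c, a * b⁆ = ⁅c, a⁆ * (a * ⁅c, b⁆ * a⁻¹) := by simp [commutatorElement_def, mul_assoc]
      _ = _ := by rw [hWcomm _ (hcomW c b) a, mul_inv_cancel_right]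
  let toW : G → ↥W ⧸ W₀.subgroupOf W := fun x => sqm x
  let cW : G → G → ↥W ⧸ W₀.subgroupOf W := fun a b => QuotientGroup.mk ⟨⁅b, a⁆, hcomW b a⟩
  have k1 : ∀ a b : G, toW (a * b) = toW a * toW b * cW a b := fun a b => by
    simp only [toW, cW, hsqm, ← QuotientGroup.mk_mul]
    congr 1
    exact Subtype.ext (key a b)
  have k2 : ∀ a b c : G, cW (a * b) c = cW a c * cW b c := fun a b c => by
    simp only [cW, ← QuotientGroup.mk_mul]
    congr 1
    exact Subtype.ext (hbil a b c)
  have h2 : ∀ t : ↥W ⧸ W₀.subgroupOf W, t * t = 1 := fun t =>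
    QuotientGroup.induction_on t fun x => by
      rw [← QuotientGroup.mk_mul, show x * x = 1 from
        Subtype.ext (by rw [Subgroup.coe_mul, ← sq]; exact hW2 x x.2)]
      rfl
  have main := f2quad_card_le_mul (V := Additive (G ⧸ W)) (W := Additive (↥W ⧸ W₀.subgroupOf W))
    (fun v => Additive.ofMul (sqm (Additive.toMul v))) ?_ ?_
    (Subgroup.toAddSubgroup (U.map (QuotientGroup.mk' W))) ?_
  · have e1 : Nat.card (G ⧸ W) ≤ Nat.card ↥(U.map (QuotientGroup.mk' W)) * W₀.relIndex W ^ 2 := main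
    rw [Subgroup.card_eq_card_quotient_mul_card_subgroup W]
    have e2 : Nat.card ↥(U.map (QuotientGroup.mk' W)) * Nat.card W = Nat.card U := by
      have e3 : Nat.card ↥(U.map (QuotientGroup.mk' W)) = W.relIndex U := by
        rw [← Subgroup.relIndex_bot_left, ← (Subgroup.map_eq_bot_iff _).2 (QuotientGroup.ker_mk' W).ge,
          Subgroup.relIndex_map_map, QuotientGroup.ker_mk', sup_idem, sup_eq_left.2 hWU]
      rw [e3, mul_comm]
      have := Subgroup.relIndex_mul_relIndex ⊥ W U bot_le hWU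
      rwa [Subgroup.relIndex_bot_left, Subgroup.relIndex_bot_left] at this
    calc _ ≤ _ := Nat.mul_le_mul_right _ e1
      _ = _ := by rw [mul_right_comm, e2]
  · show Additive.ofMul (sqm (((1 : G) : G ⧸ W))) = 0
    rw [hsqm]
    exact congrArg (Additive.ofMul ∘ QuotientGroup.mk) (Subtype.ext (one_pow 2))
  · intro u v w
    obtain ⟨a, rfl⟩ := Additive.ofMul.surjective u
    obtain ⟨b, rfl⟩ := Additive.ofMul.surjective v
    obtain ⟨c, rfl⟩ := Additive.ofMul.surjective w
    induction a using QuotientGroup.induction_on with | _ a => ?_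
    induction b using QuotientGroup.induction_on with | _ b => ?_
    induction c using QuotientGroup.induction_on with | _ c => ?_
    apply Additive.toMul.injective
    show toW (a * b * c) = toW (a * b) * toW (a * c) * toW (b * c) * toW a * toW b * toW c
    rw [k1 (a * b) c, k2, k1 a b, k1 a c, k1 b c]
    set A := toW a
    set B := toW b
    set C := toW c
    calc A * B * cW a b * C * (cW a c * cW b c)
        = A * B * C * cW a b * cW a c * cW b c * ((A * A) * (B * B) * (C * C)) := by
          simp only [h2, mul_one]; ac_rfl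
      _ = _ := by ac_rfl
  · intro v hv
    obtain ⟨a, rfl⟩ := Additive.ofMul.surjective v
    induction a using QuotientGroup.induction_on with | _ a => ?_
    have h1 : (QuotientGroup.mk (⟨a ^ 2, hsq a⟩ : W) : ↥W ⧸ W₀.subgroupOf W) = 1 := hv
    rw [QuotientGroup.eq_one_iff] at h1
    exact ⟨a, hU a h1, rfl⟩

end CfsgLib.FGS68
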