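import Cfsg.Agent.Lib.FGS68.FourSection
import Cfsg.Agent.Lib.LocalStr.Basic
import Mathlib

/-!
Maximal elementary abelian subgroups, conjugates, and the data of a module `V` normal in the
normaliser of the Thompson subgroup.
-/

set_option autoImplicit false
set_option linter.style.haveILetI false

open Cfsg

namespace CfsgLib.FGS68

variable {G : Type*} [Group G]

/-- Conjugate subgroup `gHg⁻¹`. -/
abbrev cnj (g : G) (H : Subgroup G) : Subgroup G := H.map (MulAut.conj g).toMonoidHom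

theorem mem_cnj {g x : G} {H : Subgroup G} : x ∈ cnj g H ↔ g⁻¹ * x * g ∈ H := by
  constructor
  · rintro ⟨y, hy, rfl⟩
    simpa [mul_assoc] using hy
  · intro h
    exact ⟨_, h, by simp [mul_assoc]⟩

theorem conj_mem_cnj {g x : G} {H : Subgroup G} (hx : x ∈ H) : g * x * g⁻¹ ∈ cnj g H := ⟨x, hx, rfl⟩

theorem card_cnj (g : G) (H : Subgroup G) : Nat.card (cnj g H) = Nat.card H :=
  (Nat.card_congr (H.equivMapOfInjective _ (MulAut.conj g).injective).toEquiv).symm

theorem cnj_cnj (g h : G) (H : Subgroup G) : cnj g (cnj h H) = cnj (g * h) H := by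
  ext x; simp [mem_cnj, mul_assoc]

theorem cnj_one (H : Subgroup G) : cnj 1 H = H := by
  ext x; simp [mem_cnj]

theorem cnj_mono {g : G} {H K : Subgroup G} (h : H ≤ K) : cnj g H ≤ cnj g K := Subgroup.map_mono h

theorem cnj_inf (g : G) (H K : Subgroup G) : cnj g (H ⊓ K) = cnj g H ⊓ cnj g K :=
  Subgroup.map_inf _ _ _ (MulAut.conj g).injective

theorem cnj_centralizer (g : G) (S : Subgroup G) :
    cnj g (Subgroup.centralizer (S : Set G)) = Subgroup.centralizer ((cnj g S : Subgroup G) : Set G) := by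
  ext x
  rw [mem_cnj, mem_centralizer_set_iff, mem_centralizer_set_iff]
  constructor
  · rintro h _ ⟨s, hs, rfl⟩
    have := (h s hs).map (MulAut.conj g).toMonoidHom
    simpa [mul_assoc] using this
  · intro h s hs
    have := (h _ (conj_mem_cnj hs)).map (MulAut.conj g⁻¹).toMonoidHom
    simpa [mul_assoc] using this

theorem cnj_eq_of_mem {g : G} {H : Subgroup G} (hg : g ∈ Subgroup.normalizer (H : Set G)) : cnj g H = H :=
  Subgroup.mem_normalizer_iff_map_conj_eq.1 hg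

theorem cnj_eq_of_mem_self {g : G} {H : Subgroup G} (hg : g ∈ H) : cnj g H = H :=
  cnj_eq_of_mem (Subgroup.le_normalizer hg)

theorem mem_normalizer_of_cnj_le [Finite G] {g : G} {H : Subgroup G} (h : cnj g H ≤ H) :
    g ∈ Subgroup.normalizer (H : Set G) :=
  Subgroup.mem_normalizer_iff_map_conj_eq.2 (Subgroup.eq_of_le_of_card_ge h (card_cnj g H).ge)

theorem le_normalizer_cnj {g : G} {H K : Subgroup G} (h : K ≤ Subgroup.normalizer (H : Set G)) :
    cnj g K ≤ Subgroup.normalizer ((cnj g H : Subgroup G) : Set G) :=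
  (Subgroup.map_mono h).trans (Subgroup.le_normalizer_map _)

/-- Elementary abelian 2-group, in elementwise form. -/
def EA (A : Subgroup G) : Prop :=
  (∀ x ∈ A, ∀ y ∈ A, Commute x y) ∧ ∀ x ∈ A, x ^ 2 = 1

theorem EA.mono {A B : Subgroup G} (h : EA B) (hAB : A ≤ B) : EA A :=
  ⟨fun x hx y hy => h.1 x (hAB hx) y (hAB hy), fun x hx => h.2 x (hAB hx)⟩

theorem EA.cnj {A : Subgroup G} (h : EA A) (g : G) : EA (cnj g A) := by
  constructor
  · rintro _ ⟨x, hx, rfl⟩ _ ⟨y, hy, rfl⟩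
    exact (h.1 x hx y hy).map _
  · rintro _ ⟨x, hx, rfl⟩
    rw [← map_pow, h.2 x hx, map_one]

theorem EA.closure {S : Set G} (hc : ∀ x ∈ S, ∀ y ∈ S, Commute x y) (h2 : ∀ x ∈ S, x ^ 2 = 1) :
    EA (Subgroup.closure S) := by
  have hS : ∀ x ∈ Subgroup.closure S, ∀ y ∈ S, Commute x y := by
    intro x hx y hy
    have hle : Subgroup.closure S ≤ Subgroup.centralizer {y} :=
      (Subgroup.closure_le _).2 fun z hz => mem_centralizer_singleton'.2 (hc y hy z hz)
    exact (mem_centralizer_singleton'.1 (hle hx)).symm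
  have hall : ∀ x ∈ Subgroup.closure S, ∀ y ∈ Subgroup.closure S, Commute x y := by
    intro x hx y hy
    have hle : Subgroup.closure S ≤ Subgroup.centralizer {x} :=
      (Subgroup.closure_le _).2 fun z hz => mem_centralizer_singleton'.2 (hS x hx z hz)
    exact mem_centralizer_singleton'.1 (hle hy)
  refine ⟨hall, fun x hx => ?_⟩
  induction hx using Subgroup.closure_induction with
  | mem x hx => exact h2 x hx
  | one => exact one_pow 2
  | mul x y hx hy ihx ihy => rw [(hall x hx y hy).mul_pow, ihx, ihy, one_mul]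
  | inv x _ ih => rw [inv_pow, ih, inv_one]

theorem EA.sup {A B : Subgroup G} (hA : EA A) (hB : EA B) (h : ∀ a ∈ A, ∀ b ∈ B, Commute a b) :
    EA (A ⊔ B) := by
  rw [← Subgroup.closure_eq A, ← Subgroup.closure_eq B, ← Subgroup.closure_union]
  refine EA.closure ?_ ?_
  · rintro x (hx | hx) y (hy | hy)
    exacts [hA.1 x hx y hy, h x hx y hy, (h y hy x hx).symm, hB.1 x hx y hy]
  · rintro x (hx | hx)
    exacts [hA.2 x hx, hB.2 x hx]

theorem EA.isPGroup {A : Subgroup G} (h : EA A) : IsPGroup 2 A :=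
  fun x => ⟨1, Subtype.ext (by simpa using h.2 x x.2)⟩

/-- `A` is an elementary abelian subgroup of `T` of largest order. -/
def MaxE (T A : Subgroup G) : Prop :=
  A ≤ T ∧ EA A ∧ ∀ B : Subgroup G, B ≤ T → EA B → Nat.card B ≤ Nat.card A

/-- The subgroup generated by the `MaxE` subgroups. -/
def Jsub (T : Subgroup G) : Subgroup G :=
  Subgroup.closure {x | ∃ A, MaxE T A ∧ x ∈ A}

theorem exists_maxE [Finite G] (T : Subgroup G) : ∃ A, MaxE T A := by
  obtain ⟨A, ⟨hAT, hA⟩, hmax⟩ := Set.exists_max_image {A : Subgroup G | A ≤ T ∧ EA A} (fun A => Nat.card A)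
    (Set.toFinite _) ⟨⊥, bot_le, fun x hx y _ => by rw [Subgroup.mem_bot.1 hx]; exact Commute.one_left y,
      fun x hx => by rw [Subgroup.mem_bot.1 hx, one_pow]⟩
  exact ⟨A, hAT, hA, fun B h1 h2 => hmax B ⟨h1, h2⟩⟩

theorem MaxE.le_Jsub {T A : Subgroup G} (h : MaxE T A) : A ≤ Jsub T :=
  fun _ hx => Subgroup.subset_closure ⟨A, h, hx⟩

theorem Jsub_le (T : Subgroup G) : Jsub T ≤ T :=
  (Subgroup.closure_le _).2 fun _ ⟨_, hA, hx⟩ => hA.1 hx

theorem MaxE.of_card {T A B : Subgroup G} (h : MaxE T A) (hB : B ≤ T) (hBE : EA B)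
    (hc : Nat.card A ≤ Nat.card B) : MaxE T B :=
  ⟨hB, hBE, fun C h1 h2 => (h.2.2 C h1 h2).trans hc⟩

theorem MaxE.le_of_commute [Finite G] {T A X : Subgroup G} (h : MaxE T A) (hX : X ≤ T) (hXE : EA X)
    (hc : ∀ a ∈ A, ∀ x ∈ X, Commute a x) : X ≤ A := by
  have hle := h.2.2 (A ⊔ X) (sup_le h.1 hX) (h.2.1.sup hXE hc)
  exact (Subgroup.eq_of_le_of_card_ge le_sup_left hle).symm ▸ le_sup_right

theorem MaxE.cnj {T A : Subgroup G} (h : MaxE T A) (g : G) : MaxE (cnj g T) (cnj g A) := by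
  refine ⟨cnj_mono h.1, h.2.1.cnj g, fun B h1 h2 => ?_⟩
  rw [card_cnj, ← card_cnj g⁻¹ B]
  refine h.2.2 _ ?_ (h2.cnj _)
  have := cnj_mono (g := g⁻¹) h1
  rwa [cnj_cnj, inv_mul_cancel, cnj_one] at this

/-- Elements normalising an intermediate subgroup normalise the Thompson subgroup. -/
theorem normalizer_le_normalizer_Jsub [Finite G] {T S : Subgroup G} (h1 : Jsub T ≤ S) (h2 : S ≤ T) :
    Subgroup.normalizer (S : Set G) ≤ Subgroup.normalizer (Jsub T : Set G) := by
  intro g hg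
  refine mem_normalizer_of_cnj_le ?_
  rw [cnj, Jsub, MonoidHom.map_closure, Subgroup.closure_le]
  rintro _ ⟨x, ⟨A, hA, hx⟩, rfl⟩
  refine (MaxE.le_Jsub (hA.of_card ?_ (hA.2.1.cnj g) (card_cnj g A).ge)) ⟨x, hx, rfl⟩
  exact ((cnj_mono (g := g) ((MaxE.le_Jsub hA).trans h1)).trans_eq (cnj_eq_of_mem hg)).trans h2

/-- A module `V` inside `T`, normal in a 2-local `N` without normal 2-subgroup acting. -/
structure FourFreeData (T N V : Subgroup G) : Prop where
  hT : IsPGroup 2 T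
  hTN : T ≤ N
  hsol : Group.IsSolvable N
  hfree : ¬ Involves (Equiv.Perm (Fin 4)) N
  hEA : EA V
  hVT : V ≤ T
  hNV : N ≤ Subgroup.normalizer (V : Set G)
  hVA : ∀ A, MaxE T A → V ≤ A
  hO : ∀ [((Subgroup.centralizer (V : Set G)).subgroupOf N).Normal],
    pCore 2 (N ⧸ (Subgroup.centralizer (V : Set G)).subgroupOf N) = ⊥

/-- The strong inequality for conjugates of the module. -/
theorem FourFreeData.sq [Finite G] {T N V : Subgroup G} (D : FourFreeData T N V) (g : G) (X : Subgroup G)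
    (hX : X ≤ cnj g T) (hsq : ∀ x ∈ X, x ^ 2 ∈ Subgroup.centralizer ((cnj g V : Subgroup G) : Set G)) :
    Nat.card X ^ 2 * Nat.card ↥(cnj g V ⊓ Subgroup.centralizer (X : Set G)) ≤
      Nat.card V * Nat.card ↥(X ⊓ Subgroup.centralizer ((cnj g V : Subgroup G) : Set G)) ^ 2 := by
  haveI : ((Subgroup.centralizer (V : Set G)).subgroupOf N).Normal := by
    refine Subgroup.normal_subgroupOf_of_le_normalizer (D.hNV.trans fun n hn => ?_)
    rw [Subgroup.mem_normalizer_iff_map_conj_eq]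
    exact (cnj_centralizer n V).trans (by rw [cnj_eq_of_mem hn])
  set X₀ := cnj g⁻¹ X with hX₀
  have hX₀T : X₀ ≤ T := by
    have := cnj_mono (g := g⁻¹) hX
    rwa [cnj_cnj, inv_mul_cancel, cnj_one] at this
  have hXeq : cnj g X₀ = X := by rw [hX₀, cnj_cnj, mul_inv_cancel, cnj_one]
  have h := sq_card_mul_le D.hsol D.hfree (D.hVT.trans D.hTN) D.hNV (D.hT.to_le D.hVT) D.hEA.1 D.hO
    X₀ (hX₀T.trans D.hTN) (D.hT.to_le hX₀T) (by
      intro x hx
      have h1 := hsq _ (hXeq ▸ conj_mem_cnj hx)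
      rw [conj_pow, ← cnj_centralizer, mem_cnj] at h1
      simpa [mul_assoc] using h1)
  rw [← card_cnj g X₀, hXeq, ← card_cnj g (V ⊓ _), cnj_inf, cnj_centralizer, hXeq,
    ← card_cnj g (X₀ ⊓ _), cnj_inf, cnj_centralizer, hXeq] at h
  exact h

/-- An element whose square is trivial on a conjugate module and which moves it has fixed points of
index at least four. -/
theorem FourFreeData.four_le [Finite G] {T N V : Subgroup G} (D : FourFreeData T N V) (g : G) {e : G}
    (he : e ∈ cnj g T) (hsq : e ^ 2 ∈ Subgroup.centralizer ((cnj g V : Subgroup G) : Set G))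
    (hmove : e ∉ Subgroup.centralizer ((cnj g V : Subgroup G) : Set G)) :
    4 * Nat.card ↥(cnj g V ⊓ Subgroup.centralizer {e}) ≤ Nat.card V := by
  set CV := Subgroup.centralizer ((cnj g V : Subgroup G) : Set G) with hCV
  set X := Subgroup.zpowers e with hX
  have h := D.sq g X (Subgroup.zpowers_le.2 he) (by
    intro x hx
    obtain ⟨i, rfl⟩ := Subgroup.mem_zpowers_iff.1 hx
    rw [← zpow_natCast, ← zpow_mul, mul_comm, zpow_mul, zpow_natCast]
    exact zpow_mem hsq i)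
  have hc : Subgroup.centralizer (X : Set G) = Subgroup.centralizer {e} := by
    rw [hX, Subgroup.zpowers_eq_closure, Subgroup.centralizer_closure]
  rw [hc] at h
  have hlt : 2 * Nat.card ↥(X ⊓ CV) ≤ Nat.card X := by
    obtain ⟨c, hc⟩ := Subgroup.card_dvd_of_le (inf_le_left : X ⊓ CV ≤ X)
    rcases c with _ | _ | c
    · rw [mul_zero] at hc; exact absurd hc Nat.card_pos.ne'
    · exfalso
      rw [Nat.zero_add, mul_one] at hc
      exact hmove ((Subgroup.eq_of_le_of_card_ge (inf_le_left : X ⊓ CV ≤ X) hc.le).ge (Subgroup.mem_zpowers e)).2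
    · rw [hc, mul_comm]; exact Nat.mul_le_mul_left _ (by omega)
  have hpos : 0 < Nat.card ↥(X ⊓ CV) ^ 2 := pow_pos Nat.card_pos 2
  refine Nat.le_of_mul_le_mul_right ?_ hpos
  calc 4 * Nat.card ↥(cnj g V ⊓ Subgroup.centralizer {e}) * Nat.card ↥(X ⊓ CV) ^ 2
      = (2 * Nat.card ↥(X ⊓ CV)) ^ 2 * Nat.card ↥(cnj g V ⊓ Subgroup.centralizer {e}) := by ring
    _ ≤ Nat.card X ^ 2 * Nat.card ↥(cnj g V ⊓ Subgroup.centralizer {e}) :=
        Nat.mul_le_mul_right _ (Nat.pow_le_pow_left hlt 2)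
    _ ≤ _ := h

/-- `|X| ≤ 2|Y|` when `X = Y ∪ Ya`. -/
theorem card_le_two_mul [Finite G] {X Y : Subgroup G} {a : G} (hYX : Y ≤ X) (ha : a ∈ X)
    (h : ∀ x ∈ X, x ∈ Y ∨ x * a⁻¹ ∈ Y) : Nat.card X ≤ 2 * Nat.card Y := by
  let φ : Y ⊕ Y → X := Sum.elim (fun y => ⟨y, hYX y.2⟩) (fun y => ⟨y * a, mul_mem (hYX y.2) ha⟩)
  have hφ : Function.Surjective φ := by
    rintro ⟨x, hx⟩
    rcases h x hx with h1 | h1
    · exact ⟨Sum.inl ⟨x, h1⟩, rfl⟩
    · exact ⟨Sum.inr ⟨_, h1⟩, Subtype.ext (inv_mul_cancel_right x _)⟩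
  have := Nat.card_le_card_of_surjective φ hφ
  rwa [Nat.card_sum, ← two_mul] at this

/-- A moved section of order at most four gives `S₄`. -/
theorem false_of_le_four [Finite G] {H U K : Subgroup G} (hfree : ¬ Involves (Equiv.Perm (Fin 4)) H)
    (hU : IsPGroup 2 U) (hUH : U ≤ H) (hKU : K ≤ U) (hUK : U ≤ Subgroup.normalizer (K : Set G))
    (hcard : Nat.card U ≤ 4 * Nat.card K) {a u : G} (haH : a ∈ H) (huH : u ∈ H)
    (haU : a ∈ Subgroup.normalizer (U : Set G)) (haK : a ∈ Subgroup.normalizer (K : Set G))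
    (huU : u ∈ Subgroup.normalizer (U : Set G)) (huK : u ∈ Subgroup.normalizer (K : Set G))
    (huo : Odd (orderOf u))
    (hrel : ∀ x ∈ U, a * u * a⁻¹ * u * x * (a * u * a⁻¹ * u)⁻¹ * x⁻¹ ∈ K)
    (hmove : ∃ x ∈ U, u * x * u⁻¹ * x⁻¹ ∉ K) : False := by
  haveI : Fact (Nat.Prime 2) := ⟨Nat.prime_two⟩
  obtain ⟨n, hn⟩ := IsPGroup.iff_card.1 hU
  obtain ⟨k, hk⟩ := IsPGroup.iff_card.1 (hU.to_le hKU)
  have hle : n ≤ k + 2 := (Nat.pow_le_pow_iff_right (a := 2) (by norm_num)).1 (by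
    rw [hn, hk] at hcard
    calc 2 ^ n ≤ 4 * 2 ^ k := hcard
      _ = 2 ^ (k + 2) := by rw [pow_add]; ring)
  rcases hle.eq_or_lt with h | h
  · exact false_of_four hfree hUH hKU hUK (by rw [hn, hk, h, pow_add]; ring) haH huH haU haK huU huK huo
      hrel hmove
  have h2 : Nat.card U ≤ 2 * Nat.card K := by
    rw [hn, hk, ← pow_succ']
    exact Nat.pow_le_pow_right (by norm_num) (by omega)
  obtain ⟨x, hx, hx'⟩ := hmove
  have hxK : x ∉ K := fun h => hx' (mul_mem ((Subgroup.mem_normalizer_iff.1 huK x).1 h) (inv_mem h))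
  exact hx' (mul_inv_mem_of_two hKU h2 ((Subgroup.mem_normalizer_iff.1 huU x).1 hx) hx
    (fun h => hxK ((Subgroup.mem_normalizer_iff.1 huK x).2 h)) hxK)

end CfsgLib.FGS68
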