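import Cfsg.Agent.Lib.FGS68.FourFreeLocal
import Cfsg.Prelude.Def_CaseTheorems
import Cfsg.Prelude.Def_Involutions
import Mathlib

/-!
Maximal 2-locals in groups with solvable S₄-free 2-locals of characteristic 2 are strongly embedded.
-/

set_option autoImplicit false
set_option linter.style.haveILetI false

open Cfsg

namespace CfsgLib.FGS68

variable {G : Type*} [Group G] [Finite G]

theorem exists_maximal_two_group {H : Subgroup G} (R : Subgroup G) (hRH : R ≤ H) (hR : IsPGroup 2 R) :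
    ∃ T : Subgroup G, R ≤ T ∧ T ≤ H ∧ IsPGroup 2 T ∧
      ∀ P : Subgroup G, P ≤ H → IsPGroup 2 P → T ≤ P → P = T := by
  obtain ⟨T, hRT, hT⟩ := (Set.toFinite {S : Subgroup G | S ≤ H ∧ IsPGroup 2 S}).exists_le_maximal
    (a := R) ⟨hRH, hR⟩
  exact ⟨T, hRT, hT.prop.1, hT.prop.2, fun P h1 h2 h3 => le_antisymm (hT.2 ⟨h1, h2⟩ h3) h3⟩

theorem exists_normalizer_gt {T R : Subgroup G} (hT : IsPGroup 2 T) (hRT : R ≤ T) (hne : R ≠ T) :
    R < T ⊓ Subgroup.normalizer (R : Set G) := by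
  haveI : Fact (Nat.Prime 2) := ⟨Nat.prime_two⟩
  refine lt_of_le_of_ne (le_inf hRT Subgroup.le_normalizer) fun h => ?_
  haveI : Group.IsNilpotent T := hT.isNilpotent
  have hlt : R.subgroupOf T < ⊤ := lt_top_iff_ne_top.2 fun h' => hne (le_antisymm hRT (Subgroup.subgroupOf_eq_top.1 h'))
  obtain ⟨x, hx, hxR⟩ := SetLike.exists_of_lt (Group.normalizerCondition_of_isNilpotent (R.subgroupOf T) hlt)
  refine hxR (Subgroup.mem_subgroupOf.2 (h.ge ⟨x.2, ?_⟩))
  rw [← Subgroup.map_subgroupOf_eq_of_le hRT]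
  exact Subgroup.le_normalizer_map T.subtype ⟨x, hx, rfl⟩

theorem exists_involution {H : Subgroup G} (hH : ¬ Odd (Nat.card H)) : ∃ x ∈ H, orderOf x = 2 := by
  haveI : Fact (Nat.Prime 2) := ⟨Nat.prime_two⟩
  obtain ⟨x, hx⟩ := exists_prime_orderOf_dvd_card' (G := H) 2 (Nat.not_odd_iff_even.1 hH).two_dvd
  exact ⟨x, x.2, by rw [Subgroup.orderOf_coe]; exact hx⟩

theorem EA_zpowers {x : G} (hx : x ^ 2 = 1) : EA (Subgroup.zpowers x) := by
  rw [Subgroup.zpowers_eq_closure]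
  exact EA.closure (fun a ha b hb => by rw [Set.mem_singleton_iff.1 ha, Set.mem_singleton_iff.1 hb])
    fun a ha => by rw [Set.mem_singleton_iff.1 ha, hx]

/-- Representatives of a 2-quotient in a Sylow subgroup. -/
theorem exists_rep_of_two_quotient {Γ Q : Type*} [Group Γ] [Finite Γ] [Group Q] (P : Sylow 2 Γ) (π : Γ →* Q)
    (X : Subgroup Γ) [X.Normal] (h2 : IsPGroup 2 (X.map π)) {x : Γ} (hx : x ∈ X) :
    ∃ r ∈ (P : Subgroup Γ) ⊓ X, π r = π x := by
  haveI : Fact (Nat.Prime 2) := ⟨Nat.prime_two⟩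
  obtain ⟨R, hR⟩ := exists_sylow_eq_of_odd (R := X) inf_le_right (P.isPGroup'.to_le inf_le_left)
    (odd_relIndex_sylow_inf P X)
  let f : X →* X.map π := (π.comp X.subtype).codRestrict _ fun z => ⟨z, z.2, rfl⟩
  have hf : Function.Surjective f := by
    rintro ⟨y, z, hz, rfl⟩
    exact ⟨⟨z, hz⟩, rfl⟩
  have htop : ((R.mapSurjective hf : Sylow 2 (X.map π)) : Subgroup (X.map π)) = ⊤ :=
    ((R.mapSurjective hf).3 (Q := ⊤) (h2.to_subgroup ⊤) le_top).symm
  rw [Sylow.coe_mapSurjective, hR] at htop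
  obtain ⟨r, hr, hrx⟩ := htop.ge (Subgroup.mem_top (f ⟨x, hx⟩))
  exact ⟨r, hr, congrArg Subtype.val hrx⟩

section

variable (hO : pCore 2 G = ⊥)
  (hloc : ∀ M : Subgroup G, IsTwoLocal M → Group.IsSolvable M ∧ IsOfCharacteristicTwo ↥M ∧
    ¬ Involves (Equiv.Perm (Fin 4)) ↥M)

include hO in
omit [Finite G] in
theorem twoLocal_ne_top {M : Subgroup G} (hM : IsTwoLocal M) : M ≠ ⊤ := by
  obtain ⟨T, hT, hne, rfl⟩ := hM
  intro h
  exact hne (le_bot_iff.1 (hO ▸ CfsgLib.Solvable.le_pCore (Subgroup.normalizer_eq_top_iff.1 h) hT))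

theorem exists_maximalTwoLocal_ge {T : Subgroup G} (hT : IsPGroup 2 T) (hne : T ≠ ⊥) :
    ∃ M, IsMaximalTwoLocal M ∧ Subgroup.normalizer (T : Set G) ≤ M := by
  obtain ⟨M, hle, hM⟩ := (Set.toFinite {N : Subgroup G | IsTwoLocal N}).exists_le_maximal
    (a := Subgroup.normalizer (T : Set G)) ⟨T, hT, hne, rfl⟩
  exact ⟨M, ⟨hM.prop, fun N hN hMN => le_antisymm (hM.2 hN hMN) hMN⟩, hle⟩

theorem isMaximalTwoLocal_cnj {M : Subgroup G} (hM : IsMaximalTwoLocal M) (g : G) :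
    IsMaximalTwoLocal (cnj g M) := by
  have hloc' : ∀ (N : Subgroup G) (g : G), IsTwoLocal N → IsTwoLocal (cnj g N) := by
    rintro _ g ⟨T, hT, hne, rfl⟩
    refine ⟨cnj g T, hT.map _, fun h => hne ?_, Subgroup.map_equiv_normalizer_eq T (MulAut.conj g)⟩
    exact Subgroup.eq_bot_of_card_eq T (by rw [← card_cnj g, h, Subgroup.card_bot])
  refine ⟨hloc' M g hM.1, fun N hN hle => ?_⟩
  have h1 := hM.2 (cnj g⁻¹ N) (hloc' N g⁻¹ hN) (by
    have := cnj_mono (g := g⁻¹) hle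
    rwa [cnj_cnj, inv_mul_cancel, cnj_one] at this)
  rw [← h1, cnj_cnj, mul_inv_cancel, cnj_one]

include hloc in
/-- Facts about a maximal 2-local and a maximal 2-subgroup in it. -/
theorem maximalTwoLocal_facts {M : Subgroup G} (hM : IsMaximalTwoLocal M) :
    M = Subgroup.normalizer ((pCoreOf 2 M : Subgroup G) : Set G) ∧
    ∀ T : Subgroup G, IsPGroup 2 T → T ≤ M → (∀ P : Subgroup G, P ≤ M → IsPGroup 2 P → T ≤ P → P = T) →
      NiceOver T M ∧ T ≠ ⊥ ∧ Subgroup.centralizer (T : Set G) ≤ T := by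
  haveI : Fact (Nat.Prime 2) := ⟨Nat.prime_two⟩
  obtain ⟨hsol, hchar, hfree⟩ := hloc M hM.1
  obtain ⟨T0, hT0, hT0ne, hMeq⟩ := hM.1
  have hT0Q : T0 ≤ pCoreOf 2 M := CfsgLib.LocalStr.le_pCoreOf (hMeq ▸ Subgroup.le_normalizer) hMeq.le hT0
  have hQne : pCoreOf 2 M ≠ ⊥ := fun h => hT0ne (le_bot_iff.1 (h ▸ hT0Q))
  have hMQ : M = Subgroup.normalizer ((pCoreOf 2 M : Subgroup G) : Set G) :=
    (hM.2 _ ⟨_, CfsgLib.LocalStr.isPGroup_pCoreOf M, hQne, rfl⟩ (CfsgLib.LocalStr.le_normalizer_pCoreOf M)).symm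
  refine ⟨hMQ, fun T hT hTM hmax => ?_⟩
  have hchar' : M ⊓ Subgroup.centralizer ((pCoreOf 2 M : Subgroup G) : Set G) ≤ pCoreOf 2 M := by
    intro x hx
    refine ⟨⟨x, hx.1⟩, hchar (mem_centralizer_set_iff.2 fun y hy => ?_), rfl⟩
    exact Subtype.ext (mem_centralizer_set_iff.1 hx.2 (y : G) ⟨y, hy, rfl⟩)
  have hnice : NiceOver T M := ⟨hTM, hmax, hsol, hfree, hchar'⟩
  have hQT := hnice.pCoreOf_le hT
  refine ⟨hnice, fun h => hQne (le_bot_iff.1 (h ▸ hQT)), fun g hg => ?_⟩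
  have hg' : g ∈ Subgroup.centralizer ((pCoreOf 2 M : Subgroup G) : Set G) := Subgroup.centralizer_le hQT hg
  exact hQT (hchar' ⟨hMQ.ge (Subgroup.centralizer_le_normalizer _ hg'), hg'⟩)

include hloc in
/-- The module attached to a 2-group containing its centraliser. -/
theorem exists_module {T : Subgroup G} (hT : IsPGroup 2 T) (hTne : T ≠ ⊥)
    (hcent : Subgroup.centralizer (T : Set G) ≤ T) :
    ∃ V : Subgroup G, V ≠ ⊥ ∧ IsPGroup 2 V ∧ Subgroup.normalizer (T : Set G) ≤ Subgroup.normalizer (V : Set G) ∧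
      ∀ H, NiceOver T H → H ≤ Subgroup.normalizer (V : Set G) := by
  classical
  haveI : Fact (Nat.Prime 2) := ⟨Nat.prime_two⟩
  set J := Jsub T
  set N := Subgroup.normalizer (J : Set G)
  have hTN : T ≤ N := le_trans Subgroup.le_normalizer (normalizer_le_normalizer_Jsub (Jsub_le T) le_rfl)
  have hJne : J ≠ ⊥ := by
    obtain ⟨t, ht, ht1, -⟩ := exists_fixed_ne_one hT hT Subgroup.le_normalizer hTne
    obtain ⟨x, hx, hx2⟩ : ∃ x ∈ T, orderOf x = 2 := by
      refine exists_involution fun h => hTne ?_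
      obtain ⟨k, hk⟩ := IsPGroup.iff_card.1 hT
      rcases k with _ | k
      · exact Subgroup.eq_bot_of_card_eq T (by simpa using hk)
      · rw [hk] at h
        exact absurd h (Nat.not_odd_iff_even.2 (Nat.even_pow.2 ⟨even_two, Nat.succ_ne_zero k⟩))
    obtain ⟨A, hA⟩ := exists_maxE T
    have h2 := hA.2.2 _ (Subgroup.zpowers_le.2 hx) (EA_zpowers (by rw [← hx2, pow_orderOf_eq_one]))
    rw [Nat.card_zpowers, hx2] at h2
    intro h
    have := le_bot_iff.1 (hA.le_Jsub.trans h.le)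
    rw [this, Subgroup.card_bot] at h2
    omega
  obtain ⟨hsolN, -, hfreeN⟩ := hloc N ⟨J, hT.to_le (Jsub_le T), hJne, rfl⟩
  obtain ⟨R, hTR, hRN, hR, hRmax⟩ := exists_maximal_two_group T hTN hT
  set Z : Set G := {x | x ∈ R ∧ x ^ 2 = 1 ∧ ∀ r ∈ R, Commute r x}
  have hZT : ∀ z ∈ Z, z ∈ T := fun z hz => hcent (mem_centralizer_set_iff.2 fun t ht => hz.2.2 t (hTR ht))
  have hZA : ∀ A, MaxE T A → ∀ z ∈ Z, z ∈ A := fun A hA z hz =>
    (hA.le_of_commute (Subgroup.zpowers_le.2 (hZT z hz)) (EA_zpowers hz.2.1) fun a ha x hx => by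
      obtain ⟨i, rfl⟩ := Subgroup.mem_zpowers_iff.1 hx
      exact (hz.2.2 a (hTR (hA.1 ha))).zpow_right i) (Subgroup.mem_zpowers z)
  set S : Set G := {x | ∃ n ∈ N, ∃ z ∈ Z, x = n * z * n⁻¹}
  have hSJ : ∀ x ∈ S, x ∈ J ∧ ∀ y ∈ J, Commute y x := by
    rintro _ ⟨n, hn, z, hz, rfl⟩
    obtain ⟨A, hA⟩ := exists_maxE T
    refine ⟨(Subgroup.mem_normalizer_iff.1 hn z).1 (hA.le_Jsub (hZA A hA z hz)), fun y hy => ?_⟩
    have hzJ : J ≤ Subgroup.centralizer {z} := (Subgroup.closure_le _).2 fun x ⟨A, hA, hx⟩ =>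
      mem_centralizer_singleton'.2 (hA.2.1.1 z (hZA A hA z hz) x hx)
    have hy' : n⁻¹ * y * n ∈ J := by
      have := (Subgroup.mem_normalizer_iff.1 (inv_mem hn) y).1 hy
      simpa using this
    have := (mem_centralizer_singleton'.1 (hzJ hy')).symm.map (MulAut.conj n).toMonoidHom
    simpa [mul_assoc] using this
  set V := Subgroup.closure S with hV
  have hVEA : EA V := EA.closure (fun x hx y hy => (hSJ y hy).2 x (hSJ x hx).1) (by
    rintro _ ⟨n, -, z, hz, rfl⟩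
    rw [conj_pow, hz.2.1, mul_one, mul_inv_cancel])
  have hVJ : V ≤ J := (Subgroup.closure_le _).2 fun x hx => (hSJ x hx).1
  have hVcent : ∀ y ∈ J, ∀ v ∈ V, Commute y v := fun y hy v hv => by
    have hle : V ≤ Subgroup.centralizer {y} :=
      (Subgroup.closure_le _).2 fun x hx => mem_centralizer_singleton'.2 ((hSJ x hx).2 y hy)
    exact mem_centralizer_singleton'.1 (hle hv)
  have hNV : N ≤ Subgroup.normalizer (V : Set G) := by
    intro g hg
    refine mem_normalizer_of_cnj_le ?_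
    rw [cnj, hV, MonoidHom.map_closure, Subgroup.closure_le]
    rintro _ ⟨_, ⟨n, hn, z, hz, rfl⟩, rfl⟩
    exact Subgroup.subset_closure ⟨g * n, mul_mem hg hn, z, hz, by simp [mul_assoc]⟩
  have hVne : V ≠ ⊥ := by
    obtain ⟨w, hw, hw1, hwR⟩ := exists_fixed_ne_one hR hR Subgroup.le_normalizer fun h => hTne (le_bot_iff.1 (h ▸ hTR))
    obtain ⟨k, hk⟩ := hR ⟨w, hw⟩
    have hk' : orderOf w ∣ 2 ^ k := orderOf_dvd_of_pow_eq_one (congrArg Subtype.val hk)
    have h2 : 2 ∣ orderOf w := by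
      obtain ⟨j, -, hj⟩ := (Nat.dvd_prime_pow Nat.prime_two).1 hk'
      rw [hj]
      exact dvd_pow_self 2 (fun h0 => hw1 (orderOf_eq_one_iff.1 (by rw [hj, h0, pow_zero])))
    have hz := orderOf_pow_orderOf_div (orderOf_pos w).ne' h2
    intro h
    have hmem : w ^ (orderOf w / 2) ∈ V := Subgroup.subset_closure
      ⟨1, one_mem _, _, ⟨pow_mem hw _, by rw [← orderOf_dvd_iff_pow_eq_one, hz], fun r hr => (hwR r hr).pow_right _⟩,
        by simp⟩
    rw [h, Subgroup.mem_bot] at hmem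
    rw [hmem, orderOf_one] at hz
    omega
  have hVT : V ≤ T := hVJ.trans (Jsub_le T)
  have hD : FourFreeData T N V :=
    { hT := hT
      hTN := hTN
      hsol := hsolN
      hfree := hfreeN
      hEA := hVEA
      hVT := hVT
      hNV := hNV
      hVA := fun A hA => hA.le_of_commute hVT hVEA fun a ha v hv => hVcent a (hA.le_Jsub ha) v hv
      hO := by
        intro _
        set C := (Subgroup.centralizer (V : Set G)).subgroupOf N
        set π := QuotientGroup.mk' C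
        set X := (pCore 2 (N ⧸ C)).comap π
        haveI : X.Normal := (CfsgLib.Solvable.pCore_normal (p := 2) (N ⧸ C)).comap π
        obtain ⟨P, hP⟩ := (hR.of_equiv (Subgroup.subgroupOfEquivOfLe hRN).symm).exists_le_sylow
        have hPR : (P : Subgroup N).map N.subtype ≤ R :=
          (hRmax _ (Subgroup.map_subtype_le _) (P.isPGroup'.map _) fun r hr =>
            ⟨⟨r, hRN hr⟩, hP (Subgroup.mem_subgroupOf.2 hr), rfl⟩).le
        have hXC : X ≤ C := by
          intro x hx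
          have key : ∀ y ∈ X, ∀ z ∈ Z, Commute (y : G) z := by
            intro y hy z hz
            obtain ⟨r, hr, hry⟩ := exists_rep_of_two_quotient P π X
              ((CfsgLib.Solvable.pCore_isPGroup (p := 2) (N ⧸ C)).to_le (Subgroup.map_comap_le _ _)) hy
            have h1 : (r : G)⁻¹ * y ∈ Subgroup.centralizer (V : Set G) := by
              have : π (r⁻¹ * y) = 1 := by rw [map_mul, map_inv, hry, inv_mul_cancel]
              exact Subgroup.mem_subgroupOf.1 ((QuotientGroup.eq_one_iff _).1 this)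
            have h2 : Commute ((r : G)⁻¹ * y) z := (mem_centralizer_set_iff.1 h1 z
              (Subgroup.subset_closure ⟨1, one_mem _, z, hz, by simp⟩)).symm
            have h3 : Commute (r : G) z := hz.2.2 _ (hPR ⟨r, hr.1, rfl⟩)
            have := h3.mul_left h2
            rwa [mul_inv_cancel_left] at this
          refine Subgroup.mem_subgroupOf.2 ?_
          rw [hV, Subgroup.centralizer_closure, Subgroup.mem_centralizer_iff]
          rintro _ ⟨n, hn, z, hz, rfl⟩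
          have h4 := (key _ (‹X.Normal›.conj_mem x hx ⟨n, hn⟩⁻¹) z hz).map (MulAut.conj n).toMonoidHom
          exact (show Commute (x : G) (n * z * n⁻¹) by simpa [mul_assoc] using h4).symm
        rw [eq_bot_iff]
        intro q hq
        obtain ⟨x, rfl⟩ := QuotientGroup.mk'_surjective C q
        exact Subgroup.mem_bot.2 ((QuotientGroup.eq_one_iff x).2 (hXC hq)) }
  refine ⟨V, hVne, hT.to_le hVT, (normalizer_le_normalizer_Jsub (Jsub_le T) le_rfl).trans hNV, fun H hH => ?_⟩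
  exact hD.le_normalizer H hH fun H₁ _ _ => inf_le_right.trans hNV

include hO hloc in
/-- Maximal 2-locals are strongly embedded. -/
theorem isStronglyEmbedded_of_maximalTwoLocal {M : Subgroup G} (hM : IsMaximalTwoLocal M) :
    IsStronglyEmbedded M := by
  classical
  haveI : Fact (Nat.Prime 2) := ⟨Nat.prime_two⟩
  -- Sylow subgroups of maximal locals are Sylow in the whole group
  have hsyl : ∀ M, IsMaximalTwoLocal M → ∀ T : Subgroup G, IsPGroup 2 T → T ≤ M →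
      (∀ P : Subgroup G, P ≤ M → IsPGroup 2 P → T ≤ P → P = T) → ∃ S : Sylow 2 G, (S : Subgroup G) = T := by
    intro M hM T hT hTM hmax
    obtain ⟨hnice, hTne, hcent⟩ := (maximalTwoLocal_facts hloc hM).2 T hT hTM hmax
    obtain ⟨V, hVne, hVp, hNTV, hall⟩ := exists_module hloc hT hTne hcent
    have hMV := hM.2 _ ⟨V, hVp, hVne, rfl⟩ (hall M hnice)
    obtain ⟨S, hS⟩ := hT.exists_le_sylow
    refine ⟨S, (by_contra fun hne => ?_)⟩
    have hlt := exists_normalizer_gt S.isPGroup' hS (Ne.symm hne)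
    refine hlt.ne (hmax _ ?_ (S.isPGroup'.to_le inf_le_left) hlt.le).symm
    exact inf_le_right.trans (hNTV.trans hMV.le)
  have huniq : ∀ M M', IsMaximalTwoLocal M → IsMaximalTwoLocal M' → ∀ S : Sylow 2 G,
      (S : Subgroup G) ≤ M → (S : Subgroup G) ≤ M' → M = M' := by
    intro M M' hM hM' S hSM hSM'
    have hmax : ∀ (K : Subgroup G) (P : Subgroup G), P ≤ K → IsPGroup 2 P → (S : Subgroup G) ≤ P → P = S :=
      fun _ P _ h2 h3 => S.is_maximal' h2 h3
    obtain ⟨hn, hne, hcent⟩ := (maximalTwoLocal_facts hloc hM).2 S S.isPGroup' hSM (hmax M)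
    obtain ⟨hn', -, -⟩ := (maximalTwoLocal_facts hloc hM').2 S S.isPGroup' hSM' (hmax M')
    obtain ⟨V, hVne, hVp, -, hall⟩ := exists_module hloc S.isPGroup' hne hcent
    rw [← hM.2 _ ⟨V, hVp, hVne, rfl⟩ (hall M hn), hM'.2 _ ⟨V, hVp, hVne, rfl⟩ (hall M' hn')]
  obtain ⟨T, -, hTM, hT, hTmax⟩ := exists_maximal_two_group (H := M) ⊥ bot_le IsPGroup.of_bot
  obtain ⟨S, hS⟩ := hsyl M hM T hT hTM hTmax
  have hconj : ∀ M', IsMaximalTwoLocal M' → ∃ x : G, M' = cnj x M := by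
    intro M' hM'
    obtain ⟨T', -, hT'M, hT', hT'max⟩ := exists_maximal_two_group (H := M') ⊥ bot_le IsPGroup.of_bot
    obtain ⟨S', hS'⟩ := hsyl M' hM' T' hT' hT'M hT'max
    obtain ⟨x, hx⟩ := MulAction.exists_smul_eq G S S'
    refine ⟨x, huniq M' _ hM' (isMaximalTwoLocal_cnj hM x) S' (hS'.le.trans hT'M) ?_⟩
    rw [← hx, Sylow.coe_subgroup_smul]
    rintro _ ⟨s, hs, rfl⟩
    exact conj_mem_cnj (hTM (hS.le hs))
  have hTne := ((maximalTwoLocal_facts hloc hM).2 T hT hTM hTmax).2.1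
  refine ⟨twoLocal_ne_top hO hM.1, ?_, fun g hg => ?_⟩
  · obtain ⟨k, hk⟩ := IsPGroup.iff_card.1 hT
    have h2 : 2 ∣ Nat.card T := by
      rcases k with _ | k
      · exact absurd (Subgroup.eq_bot_of_card_eq T (by simpa using hk)) hTne
      · exact hk ▸ dvd_pow_self 2 (Nat.succ_ne_zero k)
    exact (even_iff_two_dvd).2 (h2.trans (Subgroup.card_dvd_of_le hTM))
  by_contra hodd
  obtain ⟨t, ht, ht2⟩ := exists_involution hodd
  obtain ⟨R, ⟨g, hg, hR, hRne, hRM⟩, hRmax⟩ := Set.exists_max_image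
    {R : Subgroup G | ∃ g : G, g ∉ M ∧ IsPGroup 2 R ∧ R ≠ ⊥ ∧ R ≤ M ⊓ cnj g M} (fun R => Nat.card R)
    (Set.toFinite _) ⟨Subgroup.zpowers t, g, hg, (EA_zpowers (by rw [← ht2, pow_orderOf_eq_one])).isPGroup,
      fun h => by
        rw [Subgroup.zpowers_eq_bot] at h
        rw [h, orderOf_one] at ht2
        omega,
      Subgroup.zpowers_le.2 ht⟩
  have hno : ∀ (x : G) (R' : Subgroup G), IsPGroup 2 R' → R < R' → R' ≤ M ⊓ cnj x M → x ∈ M := by
    intro x R' hp hlt hle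
    by_contra hx
    have := hRmax R' ⟨x, hx, hp, fun h => hRne (le_bot_iff.1 (h ▸ hlt.le)), hle⟩
    exact absurd (Subgroup.eq_of_le_of_card_ge hlt.le this) hlt.ne
  obtain ⟨T₁, hRT₁, hT₁M, hT₁, hT₁max⟩ := exists_maximal_two_group R (hRM.trans inf_le_left) hR
  obtain ⟨S₁, hS₁⟩ := hsyl M hM T₁ hT₁ hT₁M hT₁max
  by_cases hRT : R = T₁
  · have h := huniq M (cnj g M) hM (isMaximalTwoLocal_cnj hM g) S₁ (hS₁.le.trans hT₁M)
      (hS₁.le.trans (hRT.ge.trans (hRM.trans inf_le_right)))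
    apply hg
    obtain ⟨hMQ, -⟩ := maximalTwoLocal_facts hloc hM
    have hgN : g ∈ Subgroup.normalizer (M : Set G) := Subgroup.mem_normalizer_iff_map_conj_eq.2 h.symm
    rw [hMQ]
    exact CfsgLib.LocalStr.le_normalizer_pCoreOf' (X := Subgroup.normalizer (M : Set G)) le_rfl hgN
  obtain ⟨M₂, hM₂, hNR⟩ := exists_maximalTwoLocal_ge hR hRne
  obtain ⟨x, rfl⟩ := hconj M₂ hM₂
  have hx : x ∈ M := hno x (T₁ ⊓ Subgroup.normalizer (R : Set G)) (hT₁.to_le inf_le_left)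
    (exists_normalizer_gt hT₁ hRT₁ hRT) (le_inf (inf_le_left.trans hT₁M) (inf_le_right.trans hNR))
  rw [cnj_eq_of_mem_self hx] at hNR
  obtain ⟨T₂, hRT₂, hT₂M, hT₂, hT₂max⟩ := exists_maximal_two_group R (hRM.trans inf_le_right) hR
  obtain ⟨S₂, hS₂⟩ := hsyl _ (isMaximalTwoLocal_cnj hM g) T₂ hT₂ hT₂M hT₂max
  have hne2 : R ≠ T₂ := by
    intro h
    refine hRT (Subgroup.eq_of_le_of_card_ge hRT₁ ?_)
    rw [h, ← hS₁, ← hS₂, S₁.card_eq_multiplicity, S₂.card_eq_multiplicity]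
  exact hg (hno g (T₂ ⊓ Subgroup.normalizer (R : Set G)) (hT₂.to_le inf_le_left)
    (exists_normalizer_gt hT₂ hRT₂ hne2) (le_inf (inf_le_right.trans hNR) (inf_le_left.trans hT₂M)))

end

end CfsgLib.FGS68
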