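import Cfsg.Agent.Lib.FGS68.FourFreeStep
import Cfsg.Agent.Lib.Solvable.Core
import Mathlib

/-!
Every S₄-free solvable group of characteristic 2 with Sylow subgroup `T` normalises the module `V`
when its normaliser of the Thompson subgroup of `T` does.
-/

set_option autoImplicit false
set_option linter.style.haveILetI false

open Cfsg

namespace CfsgLib.FGS68

variable {G : Type*} [Group G] [Finite G] {T N V : Subgroup G}

/-- Local hypothesis on an overgroup of `T`. -/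
structure NiceOver (T H : Subgroup G) : Prop where
  hTH : T ≤ H
  hsyl : ∀ P : Subgroup G, P ≤ H → IsPGroup 2 P → T ≤ P → P = T
  hsol : Group.IsSolvable H
  hfree : ¬ Involves (Equiv.Perm (Fin 4)) H
  hchar : H ⊓ Subgroup.centralizer ((pCoreOf 2 H : Subgroup G) : Set G) ≤ pCoreOf 2 H

/-- An inverting element produces an odd-order element inverted exactly. -/
theorem exists_inverted_odd {Γ Q : Type*} [Group Γ] [Finite Γ] [Group Q] (π : Γ →* Q) {c m : Γ}
    (hc : c ^ 2 = 1) (hodd : Odd (orderOf (π (c * m * c⁻¹ * m⁻¹)))) :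
    ∃ u : Γ, u ∈ Subgroup.zpowers (c * m * c⁻¹ * m⁻¹) ∧ π u = π (c * m * c⁻¹ * m⁻¹) ∧
      Odd (orderOf u) ∧ c * u * c⁻¹ = u⁻¹ := by
  obtain ⟨k, hk1, hk2⟩ := odd_lift π hodd
  refine ⟨_, Subgroup.mem_zpowers_iff.2 ⟨k, zpow_natCast _ _⟩, hk1, hk2, ?_⟩
  have hci : c⁻¹ = c := inv_eq_of_mul_eq_one_right (by rw [← pow_two]; exact hc)
  have : c * (c * m * c⁻¹ * m⁻¹) * c⁻¹ = (c * m * c⁻¹ * m⁻¹)⁻¹ := by
    simp only [mul_inv_rev, inv_inv]
    rw [hci, show c * (c * m * c * m⁻¹) * c = (c * c) * m * c * m⁻¹ * c by simp [mul_assoc], ← pow_two, hc]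
    simp [mul_assoc]
  rw [← conj_pow, this, inv_pow]

theorem NiceOver.pCoreOf_le {H : Subgroup G} (h : NiceOver T H) (hT : IsPGroup 2 T) :
    pCoreOf 2 H ≤ T := by
  haveI : Fact (Nat.Prime 2) := ⟨Nat.prime_two⟩
  refine le_of_le_of_eq le_sup_left (h.hsyl (pCoreOf 2 H ⊔ T) (sup_le (CfsgLib.LocalStr.pCoreOf_le H) h.hTH)
    (IsPGroup.to_sup_of_normal_left' (CfsgLib.LocalStr.isPGroup_pCoreOf H) hT
      (h.hTH.trans (CfsgLib.LocalStr.le_normalizer_pCoreOf H))) le_sup_right)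

/-- An element normalising the image normalises the preimage. -/
theorem mem_normalizer_preimage {H : Subgroup G} {Q : Type*} [Group Q] (π : H →* Q) {B : Subgroup Q}
    {g : H} (h : π g ∈ Subgroup.normalizer (B : Set Q)) :
    (g : G) ∈ Subgroup.normalizer (((B.comap π).map H.subtype : Subgroup G) : Set G) := by
  refine mem_normalizer_of_cnj_le ?_
  rintro _ ⟨_, ⟨x, hx, rfl⟩, rfl⟩
  refine ⟨g * x * g⁻¹, ?_, rfl⟩
  show π (g * x * g⁻¹) ∈ B
  rw [map_mul, map_mul, map_inv]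
  exact (Subgroup.mem_normalizer_iff.1 h _).1 hx

/-- The module lies in `O₂` of every overgroup. -/
theorem FourFreeData.le_pCoreOf (D : FourFreeData T N V) {H : Subgroup G} (hH : NiceOver T H) :
    V ≤ pCoreOf 2 H := by
  classical
  haveI : Fact (Nat.Prime 2) := ⟨Nat.prime_two⟩
  haveI := CfsgLib.Solvable.pCore_normal (p := 2) H
  set π := QuotientGroup.mk' (pCore 2 H) with hπ
  set M := pPrimeCore 2 (H ⧸ pCore 2 H)
  haveI : M.Normal := CfsgLib.Solvable.pPrimeCore_normal 2 (H ⧸ pCore 2 H)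
  have hMcop : (Nat.card M).Coprime 2 := CfsgLib.PLoc.pPrimeCore_coprime 2
  have hCM : Subgroup.centralizer (M : Set (H ⧸ pCore 2 H)) ≤ M :=
    CfsgLib.PLocal.centralizer_pPrimeCore_le_self
      (CfsgLib.PLoc.isPSolvable_of_surjective (QuotientGroup.mk'_surjective _)
        (CfsgLib.ThompsonFactor.isPSolvable_of_isSolvable hH.hsol))
      (CfsgLib.Solvable.pCore_quotient_eq_bot _ rfl)
  obtain ⟨A, hA⟩ := exists_maxE T
  have hAH : A ≤ H := hA.1.trans hH.hTH
  have hVA := D.hVA A hA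
  set Ab := (A.subgroupOf H).map π
  have hAbp : IsPGroup 2 Ab :=
    ((hA.2.1.isPGroup).of_equiv (Subgroup.subgroupOfEquivOfLe hAH).symm).map π
  have hcomm : ∀ b ∈ Ab, ∀ c ∈ Ab, b * c = c * b := by
    rintro _ ⟨x, hx, rfl⟩ _ ⟨y, hy, rfl⟩
    rw [← map_mul, ← map_mul]
    exact congrArg π (Subtype.ext (hA.2.1.1 x hx y hy))
  have hsq : ∀ b ∈ Ab, b * b = 1 := by
    rintro _ ⟨x, hx, rfl⟩
    rw [← map_mul, ← pow_two, show x ^ 2 = 1 from Subtype.ext (by simpa using hA.2.1.2 x hx), map_one]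
  haveI : IsMulCommutative Ab := ⟨⟨fun b c => Subtype.ext (hcomm b b.2 c c.2)⟩⟩
  have hcop : (Nat.card Ab).Coprime (Nat.card M) := by
    obtain ⟨k, hk⟩ := IsPGroup.iff_card.1 hAbp
    rw [hk]
    exact Nat.Coprime.pow_left k hMcop.symm
  set Vb := (V.subgroupOf H).map π
  have hVbA : Vb ≤ Ab := Subgroup.map_mono (Subgroup.comap_mono hVA)
  intro x hx
  by_contra hxQ
  have hnc : ¬ M ≤ Subgroup.centralizer (Vb : Set (H ⧸ pCore 2 H)) := by
    intro h
    have h1 : π ⟨x, hAH (hVA hx)⟩ ∈ Ab ⊓ M :=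
      ⟨⟨_, hVA hx, rfl⟩, hCM (Subgroup.le_centralizer_iff.1 h ⟨_, hx, rfl⟩)⟩
    rw [Subgroup.inf_eq_bot_of_coprime hcop, Subgroup.mem_bot] at h1
    exact hxQ ⟨_, (QuotientGroup.eq_one_iff _).1 h1, rfl⟩
  obtain ⟨B, hBA, ⟨c, hc, hgen⟩, hB⟩ : ∃ B ≤ Ab, (∃ c ∈ Ab, Ab ≤ B ⊔ Subgroup.zpowers c) ∧
      ¬ M ⊓ Subgroup.centralizer (B : Set (H ⧸ pCore 2 H)) ≤ Subgroup.centralizer (Vb : Set (H ⧸ pCore 2 H)) := by
    by_contra hno
    push Not at hno
    exact hnc (CfsgLib.Solvable.le_of_cyclic_quotient_centralizer_le Subgroup.le_normalizer_of_normal hcop hno)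
  obtain ⟨m, hm, hm'⟩ := SetLike.not_le_iff_exists.1 hB
  obtain ⟨v, hv, hvm⟩ : ∃ v, ∃ (hv : v ∈ V), ¬ Commute (π ⟨v, hAH (hVA hv)⟩) m := by
    by_contra hno
    push Not at hno
    refine hm' (mem_centralizer_set_iff.2 ?_)
    rintro _ ⟨y, hy, rfl⟩
    exact hno y hy
  set vb := π ⟨v, hAH (hVA hv)⟩ with hvb
  have hvbA : vb ∈ Ab := ⟨_, hVA hv, rfl⟩
  have hvB : vb ∉ B := fun h => hvm (hm.2 vb h)
  have hdec0 : ∀ b ∈ Ab, b ∈ B ∨ b * c⁻¹ ∈ B := by
    intro b hb
    have hn : Subgroup.zpowers c ≤ Subgroup.normalizer (B : Set (H ⧸ pCore 2 H)) :=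
      Subgroup.zpowers_le.2 (Subgroup.centralizer_le_normalizer _ fun y hy => hcomm y (hBA hy) c hc)
    obtain ⟨y, hy, w, hw, rfl⟩ := (CfsgLib.Solvable.mem_sup_of_le_normalizer hn).1 (hgen hb)
    obtain ⟨i, rfl⟩ := Subgroup.mem_zpowers_iff.1 hw
    have h2 : c ^ (2 : ℤ) = 1 := by rw [zpow_two, hsq c hc]
    rcases Int.even_or_odd' i with ⟨j, rfl | rfl⟩
    · left; rw [zpow_mul, h2, one_zpow, mul_one]; exact hy
    · right; rw [zpow_add, zpow_mul, h2, one_zpow, one_mul, zpow_one, mul_inv_cancel_right]; exact hy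
  have hdec : ∀ b ∈ Ab, b ∈ B ∨ b * vb⁻¹ ∈ B := by
    intro b hb
    rcases hdec0 b hb with h | h
    · exact Or.inl h
    · right
      have h1 := (hdec0 vb hvbA).resolve_left hvB
      have := mul_mem h (inv_mem h1)
      rwa [mul_inv_rev, inv_inv, ← mul_assoc, inv_mul_cancel_right] at this
  obtain ⟨m₀, rfl⟩ := QuotientGroup.mk'_surjective (pCore 2 H) m
  set v₀ : H := ⟨v, hAH (hVA hv)⟩
  have hv2 : v₀ ^ 2 = 1 := Subtype.ext (by simpa using D.hEA.2 v hv)
  set ub := π (v₀ * m₀ * v₀⁻¹ * m₀⁻¹) with hub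
  have hubM : ub ∈ M := by
    simp only [hub, map_mul, map_inv]
    exact mul_mem (‹M.Normal›.conj_mem _ hm.1 _) (inv_mem hm.1)
  have hub1 : ub ≠ 1 := fun h => hvm (by
    simp only [hub, map_mul, map_inv] at h
    exact commute_iff_conj.2 (mul_inv_eq_one.1 h))
  obtain ⟨u, -, huπ, huo, hrel⟩ := exists_inverted_odd π hv2
    (Nat.coprime_two_right.1 (hMcop.coprime_dvd_left (Subgroup.orderOf_dvd_natCard M hubM)))
  set Q₀ := (B.comap π).map H.subtype with hQ₀
  have hQ₀H : Q₀ ≤ H := Subgroup.map_subtype_le _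
  have hvn : v ∈ Subgroup.normalizer (Q₀ : Set G) := mem_normalizer_preimage π (g := v₀)
    (Subgroup.centralizer_le_normalizer _ fun b hb => hcomm b (hBA hb) vb hvbA)
  have hun : (u : G) ∈ Subgroup.normalizer (Q₀ : Set G) := mem_normalizer_preimage π (g := u)
    (Subgroup.centralizer_le_normalizer _ fun b hb => by
      have h1 : Commute b (π v₀) := hcomm b (hBA hb) vb hvbA
      have h2 : Commute b (π m₀) := hm.2 b hb
      rw [huπ]
      simp only [map_mul, map_inv]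
      exact (((h1.mul_right h2).mul_right h1.inv_right).mul_right h2.inv_right).eq)
  have hQT : Q₀ ≤ T := by
    rintro _ ⟨g, hg, rfl⟩
    obtain ⟨a, ha, hga⟩ := hBA hg
    have h1 : g * a⁻¹ ∈ pCore 2 H := by
      rw [← QuotientGroup.eq_one_iff]
      show π (g * a⁻¹) = 1
      rw [map_mul, map_inv, hga, mul_inv_cancel]
    have h2 : ((g * a⁻¹ : H) : G) ∈ T := hH.pCoreOf_le D.hT ⟨_, h1, rfl⟩
    have := mul_mem h2 (hA.1 ha)
    simpa using this
  have hvQ : v ∉ Q₀ := by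
    rintro ⟨g, hg, hgv⟩
    have : g = v₀ := Subtype.ext hgv
    rw [this] at hg
    exact hvB hg
  have hmem : ∀ y (hy : y ∈ H), π ⟨y, hy⟩ ∈ B → y ∈ Q₀ := fun y hy h => ⟨_, h, rfl⟩
  have hdecA : ∀ y ∈ A, y ∈ Q₀ ∨ y * v⁻¹ ∈ Q₀ := by
    intro y hy
    rcases hdec _ ⟨⟨y, hAH hy⟩, hy, rfl⟩ with h | h
    · exact Or.inl (hmem y _ h)
    · refine Or.inr (hmem _ (mul_mem (hAH hy) (inv_mem v₀.2)) ?_)
      show π (⟨y, hAH hy⟩ * v₀⁻¹) ∈ B
      rw [map_mul, map_inv]
      exact h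
  refine D.no_inverted_in_V hH.hfree hA hQT hQ₀H hv v₀.2 hvQ hvn u.2 (by rwa [Subgroup.orderOf_coe])
    (congrArg Subtype.val hrel) hun ?_ (fun y hy => hdecA y (hVA hy)) ?_
  · intro hcent
    apply hub1
    refine huπ.symm.trans ((QuotientGroup.eq_one_iff u).2 ?_)
    have hQ : pCoreOf 2 H ≤ Q₀ := by
      rintro _ ⟨g, hg, rfl⟩
      exact ⟨g, show π g ∈ B by rw [show π g = 1 from (QuotientGroup.eq_one_iff g).2 hg]; exact one_mem _, rfl⟩
    obtain ⟨g, hg, hgu⟩ := hH.hchar ⟨u.2, Subgroup.centralizer_le hQ hcent⟩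
    rwa [show g = u from Subtype.ext hgu] at hg
  · exact card_le_two_mul inf_le_left (hVA hv) fun y hy => (hdecA y hy).imp (fun h => ⟨hy, h⟩)
      fun h => Subgroup.mem_inf.2 ⟨mul_mem hy (inv_mem (hVA hv)), h⟩

/-- Conjugates of the module inside an overgroup commute and lie in `T`. -/
theorem FourFreeData.conjugates (D : FourFreeData T N V) {H : Subgroup G} (hH : NiceOver T H) :
    (∀ g ∈ H, cnj g V ≤ pCoreOf 2 H) ∧
      ∀ g ∈ H, ∀ h ∈ H, ∀ x ∈ cnj g V, ∀ y ∈ cnj h V, Commute x y := by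
  have hVQ := D.le_pCoreOf hH
  have hQT := hH.pCoreOf_le D.hT
  set Q := pCoreOf 2 H
  have hHQ : H ≤ Subgroup.normalizer (Q : Set G) := CfsgLib.LocalStr.le_normalizer_pCoreOf H
  have h1 : ∀ g ∈ H, cnj g V ≤ Q := fun g hg => (cnj_mono hVQ).trans_eq (cnj_eq_of_mem (hHQ hg))
  refine ⟨h1, ?_⟩
  have key : ∀ g ∈ H, ∀ x ∈ V, ∀ y ∈ cnj g V, Commute x y := by
    intro g hg
    set V' := cnj g V with hV'
    have hVgT : V ≤ cnj g T := hVQ.trans ((cnj_eq_of_mem (hHQ hg)).ge.trans (cnj_mono hQT))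
    have ha := D.sq 1 V' (by rw [cnj_one]; exact (h1 g hg).trans hQT)
      (fun x hx => by rw [(D.hEA.cnj g).2 x hx]; exact one_mem _)
    rw [cnj_one] at ha
    have hb := D.sq g V hVgT (fun x hx => by rw [D.hEA.2 x hx]; exact one_mem _)
    rw [show Nat.card V' = Nat.card V from card_cnj g V] at ha
    set a := Nat.card ↥(V ⊓ Subgroup.centralizer (V' : Set G))
    set b := Nat.card ↥(V' ⊓ Subgroup.centralizer (V : Set G))
    set n := Nat.card V
    have hn : 0 < n := Nat.card_pos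
    have hA : n * a ≤ b ^ 2 := Nat.le_of_mul_le_mul_left (by rw [← mul_assoc, ← pow_two]; exact ha) hn
    have hB : n * b ≤ a ^ 2 := Nat.le_of_mul_le_mul_left (by rw [← mul_assoc, ← pow_two]; exact hb) hn
    have hab : n ^ 2 ≤ a * b := by
      refine Nat.le_of_mul_le_mul_left ?_ (Nat.mul_pos (Nat.card_pos : 0 < a) (Nat.card_pos : 0 < b))
      calc a * b * n ^ 2 = n * a * (n * b) := by ring
        _ ≤ b ^ 2 * a ^ 2 := Nat.mul_le_mul hA hB
        _ = _ := by ring
    have han : a ≤ n := Subgroup.card_le_of_le inf_le_left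
    have hbn : b ≤ n := (Subgroup.card_le_of_le inf_le_left).trans_eq (card_cnj g V)
    have hbeq : n ≤ b := Nat.le_of_mul_le_mul_left
      (show n * n ≤ n * b by rw [← pow_two]; exact hab.trans (Nat.mul_le_mul_right _ han)) hn
    have hVc : V' ≤ Subgroup.centralizer (V : Set G) := by
      have := Subgroup.eq_of_le_of_card_ge (inf_le_left : V' ⊓ Subgroup.centralizer (V : Set G) ≤ V')
        ((card_cnj g V).le.trans hbeq)
      exact this ▸ inf_le_right
    exact fun x hx y hy => mem_centralizer_set_iff.1 (hVc hy) x hx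
  intro g hg h hh x hx y hy
  obtain ⟨x₀, hx₀, rfl⟩ := hx
  have hy' : g⁻¹ * y * g ∈ cnj (g⁻¹ * h) V := by
    rw [mem_cnj] at hy ⊢
    simpa [mul_assoc] using hy
  have := (key _ (mul_mem (inv_mem hg) hh) x₀ hx₀ _ hy').map (MulAut.conj g).toMonoidHom
  simpa [mul_assoc] using this

/-- A subgroup with odd relative index is a Sylow subgroup. -/
theorem exists_sylow_eq_of_odd {Γ : Type*} [Group Γ] [Finite Γ] {R S : Subgroup Γ} (hSR : S ≤ R)
    (hS : IsPGroup 2 S) (ho : Odd (S.relIndex R)) :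
    ∃ P : Sylow 2 R, (P : Subgroup R) = S.subgroupOf R := by
  haveI : Fact (Nat.Prime 2) := ⟨Nat.prime_two⟩
  obtain ⟨P, hP⟩ := (hS.of_equiv (Subgroup.subgroupOfEquivOfLe hSR).symm).exists_le_sylow
  refine ⟨P, le_antisymm ?_ hP⟩
  have h1 : (P : Subgroup R).index * (S.subgroupOf R).relIndex (P : Subgroup R) = (S.subgroupOf R).index := by
    rw [mul_comm]; exact Subgroup.relIndex_mul_index hP
  have h2 : Odd ((S.subgroupOf R).relIndex (P : Subgroup R)) := Odd.of_dvd_nat ho ⟨_, by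
    show (S.subgroupOf R).index = _
    rw [← h1, mul_comm]⟩
  obtain ⟨k, hk⟩ := IsPGroup.iff_card.1 P.isPGroup'
  obtain ⟨j, -, hj⟩ := (Nat.dvd_prime_pow Nat.prime_two).1 (hk ▸ Subgroup.relIndex_dvd_card (S.subgroupOf R) (P : Subgroup R))
  have : j = 0 := by
    by_contra hj0
    rw [hj] at h2
    exact Nat.not_even_iff_odd.2 h2 ((Nat.even_pow).2 ⟨even_two, hj0⟩)
  rw [this, pow_zero, Subgroup.relIndex_eq_one] at hj
  exact hj

theorem odd_relIndex_sylow_inf {Γ : Type*} [Group Γ] [Finite Γ] (P : Sylow 2 Γ) (X : Subgroup Γ) [X.Normal] :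
    Odd (((P : Subgroup Γ) ⊓ X).relIndex X) := by
  haveI : Fact (Nat.Prime 2) := ⟨Nat.prime_two⟩
  have h := CfsgLib.PLoc.card_sup_mul_card_inf (H := (P : Subgroup Γ)) (N := X) Subgroup.le_normalizer_of_normal
  have h1 := Subgroup.relIndex_mul_relIndex ⊥ ((P : Subgroup Γ) ⊓ X) X bot_le inf_le_right
  rw [Subgroup.relIndex_bot_left, Subgroup.relIndex_bot_left] at h1
  have h2 := Subgroup.relIndex_mul_relIndex ⊥ (P : Subgroup Γ) ((P : Subgroup Γ) ⊔ X) bot_le le_sup_left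
  rw [Subgroup.relIndex_bot_left, Subgroup.relIndex_bot_left] at h2
  have h3 : ((P : Subgroup Γ) ⊓ X).relIndex X = (P : Subgroup Γ).relIndex ((P : Subgroup Γ) ⊔ X) := by
    refine Nat.eq_of_mul_eq_mul_left (Nat.card_pos (α := ↥((P : Subgroup Γ) ⊓ X))) ?_
    rw [h1]
    refine Nat.eq_of_mul_eq_mul_left (Nat.card_pos (α := (P : Subgroup Γ))) ?_
    rw [← h, ← h2]
    ring
  rw [h3]
  have h4 : (P : Subgroup Γ).relIndex ((P : Subgroup Γ) ⊔ X) ∣ (P : Subgroup Γ).index :=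
    ⟨((P : Subgroup Γ) ⊔ X).index, (Subgroup.relIndex_mul_index le_sup_left).symm⟩
  exact (Nat.odd_iff.2 (Nat.two_dvd_ne_zero.1 P.not_dvd_index)).of_dvd_nat h4

theorem frattini_inf {Γ : Type*} [Group Γ] [Finite Γ] (P : Sylow 2 Γ) (X : Subgroup Γ) [X.Normal] :
    Subgroup.normalizer (((P : Subgroup Γ) ⊓ X : Subgroup Γ) : Set Γ) ⊔ X = ⊤ := by
  haveI : Fact (Nat.Prime 2) := ⟨Nat.prime_two⟩
  obtain ⟨R, hR⟩ := exists_sylow_eq_of_odd (R := X) inf_le_right (P.isPGroup'.to_le inf_le_left)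
    (odd_relIndex_sylow_inf P X)
  have h := Sylow.normalizer_sup_eq_top R
  rwa [hR, Subgroup.map_subgroupOf_eq_of_le inf_le_right] at h

/-- Structure of a minimal group over `T` outside the normaliser. -/
theorem minimal_structure {Γ : Type*} [Group Γ] [Finite Γ] (hsol : Group.IsSolvable Γ) (P : Sylow 2 Γ)
    {NH : Subgroup Γ} (hPN : (P : Subgroup Γ) ≤ NH) (hne : NH ≠ ⊤)
    (hmax : ∀ U : Subgroup Γ, (P : Subgroup Γ) ≤ U → U ≠ ⊤ → U ≤ NH) :
    (P : Subgroup Γ) ⊓ NH.normalCore ≤ pCore 2 Γ ∧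
    ∃ F : Subgroup (Γ ⧸ NH.normalCore), (∀ x ∈ F, ∀ y ∈ F, Commute x y) ∧ (Nat.card F).Coprime 2 ∧ F.Normal ∧
      F ⊓ NH.map (QuotientGroup.mk' NH.normalCore) = ⊥ ∧
      (P : Subgroup Γ).map (QuotientGroup.mk' NH.normalCore) ⊓ Subgroup.centralizer (F : Set (Γ ⧸ NH.normalCore)) = ⊥ := by
  classical
  haveI : Fact (Nat.Prime 2) := ⟨Nat.prime_two⟩
  set K := NH.normalCore
  set π := QuotientGroup.mk' K
  have hKN : K ≤ NH := Subgroup.normalCore_le NH
  constructor
  · have h1 : Subgroup.normalizer (((P : Subgroup Γ) ⊓ K : Subgroup Γ) : Set Γ) = ⊤ := by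
      by_contra h
      have hP : (P : Subgroup Γ) ≤ Subgroup.normalizer (((P : Subgroup Γ) ⊓ K : Subgroup Γ) : Set Γ) :=
        (le_inf Subgroup.le_normalizer Subgroup.le_normalizer_of_normal).trans
          Subgroup.inf_normalizer_le_normalizer_inf
      have h2 := hmax _ hP h
      exact hne (eq_top_iff.2 ((frattini_inf P K).ge.trans (sup_le h2 hKN)))
    exact CfsgLib.Solvable.le_pCore (Subgroup.normalizer_eq_top_iff.1 h1) (P.isPGroup'.to_le inf_le_left)
  haveI : Group.IsSolvable Γ := hsol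
  haveI : Group.IsSolvable (Γ ⧸ K) := Group.isSolvable_of_surjective (QuotientGroup.mk'_surjective K)
  have htop : (⊤ : Subgroup (Γ ⧸ K)) ≠ ⊥ := by
    intro h
    refine hne (eq_top_iff.2 fun x _ => hKN ((QuotientGroup.eq_one_iff x).1 ?_))
    exact Subgroup.mem_bot.1 (h ▸ Subgroup.mem_top _)
  obtain ⟨F, hFn, hFne, -, hFmin⟩ := CfsgLib.Solvable.exists_minimal_normal_le (⊤ : Subgroup (Γ ⧸ K)) htop
  haveI := hFn
  obtain ⟨hFc, p, hp, hFp⟩ := CfsgLib.Solvable.minimal_normal_elementary_abelian F hFne hFmin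
  have hFcomm : ∀ x ∈ F, ∀ y ∈ F, Commute x y := fun x hx y hy =>
    congrArg Subtype.val (mul_comm' (⟨x, hx⟩ : F) ⟨y, hy⟩)
  haveI := Fact.mk hp
  have hFpg : IsPGroup p F := fun x => ⟨1, Subtype.ext (by simpa using hFp x x.2)⟩
  set X := F.comap π with hX
  haveI hXn : X.Normal := hFn.comap π
  have hcore : ∀ Y : Subgroup (Γ ⧸ K), Y.Normal → Y ≤ NH.map π → Y = ⊥ := by
    intro Y hY hle
    have h1 : Y.comap π ≤ NH := by
      refine (Subgroup.comap_mono hle).trans ?_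
      rw [Subgroup.comap_map_eq, QuotientGroup.ker_mk']
      exact sup_le le_rfl hKN
    haveI := hY.comap π
    have h2 : Y.comap π ≤ K := Subgroup.normal_le_normalCore.2 h1
    rw [eq_bot_iff]
    intro y hy
    obtain ⟨x, rfl⟩ := QuotientGroup.mk'_surjective K y
    exact Subgroup.mem_bot.2 ((QuotientGroup.eq_one_iff x).2 (h2 hy))
  have hXN : ¬ X ≤ NH := by
    intro h
    refine hFne (hcore F hFn fun y hy => ?_)
    obtain ⟨x, rfl⟩ := QuotientGroup.mk'_surjective K y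
    exact ⟨x, h hy, rfl⟩
  have hp2 : p ≠ 2 := by
    rintro rfl
    apply hXN
    obtain ⟨R, hR⟩ := exists_sylow_eq_of_odd (R := X) inf_le_right (P.isPGroup'.to_le inf_le_left)
      (odd_relIndex_sylow_inf P X)
    let f : X →* F := (π.comp X.subtype).codRestrict F fun z => z.2
    have hf : Function.Surjective f := by
      rintro ⟨y, hy⟩
      obtain ⟨x, rfl⟩ := QuotientGroup.mk'_surjective K y
      exact ⟨⟨x, hy⟩, rfl⟩
    have htopF : ((R.mapSurjective hf : Sylow 2 F) : Subgroup F) = ⊤ :=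
      ((R.mapSurjective hf).3 (Q := ⊤) (hFpg.to_subgroup ⊤) le_top).symm
    rw [Sylow.coe_mapSurjective, hR] at htopF
    intro x hx
    obtain ⟨r, hr, hrx⟩ := htopF.ge (Subgroup.mem_top (f ⟨x, hx⟩))
    have h1 : π ((r : Γ)⁻¹ * x) = 1 := by
      have h2 : π (r : Γ) = π x := congrArg Subtype.val hrx
      rw [map_mul, map_inv, h2, inv_mul_cancel]
    have := mul_mem (hPN hr.1) (hKN ((QuotientGroup.eq_one_iff _).1 h1))
    simpa using this
  have hFodd : (Nat.card F).Coprime 2 := by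
    obtain ⟨k, hk⟩ := IsPGroup.iff_card.1 hFpg
    rw [hk]
    exact Nat.Coprime.pow_left k ((Nat.coprime_primes hp Nat.prime_two).2 hp2)
  have hXP : X ⊔ (P : Subgroup Γ) = ⊤ := by
    by_contra h
    exact hXN (le_sup_left.trans (hmax _ le_sup_right h))
  have hgen : ∀ Y : Subgroup (Γ ⧸ K), F ≤ Subgroup.normalizer (Y : Set (Γ ⧸ K)) →
      (P : Subgroup Γ).map π ≤ Subgroup.normalizer (Y : Set (Γ ⧸ K)) → Y.Normal := by
    intro Y h1 h2
    rw [← Subgroup.normalizer_eq_top_iff, eq_top_iff, ← Subgroup.map_top_of_surjective π (QuotientGroup.mk'_surjective K),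
      ← hXP, Subgroup.map_sup, sup_le_iff]
    exact ⟨(Subgroup.map_comap_le π F).trans h1, h2⟩
  refine ⟨F, hFcomm, hFodd, hFn, ?_, ?_⟩
  · refine hcore _ (hgen _ ?_ ?_) inf_le_right
    · exact fun g hg => Subgroup.centralizer_le_normalizer _ (mem_centralizer_set_iff.2 fun y hy => hFcomm y hy.1 g hg)
    · exact (le_inf Subgroup.le_normalizer_of_normal ((Subgroup.map_mono hPN).trans Subgroup.le_normalizer)).trans
        Subgroup.inf_normalizer_le_normalizer_inf
  · refine hcore _ (hgen _ ?_ ?_) (inf_le_left.trans (Subgroup.map_mono hPN))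
    · exact fun g hg => Subgroup.centralizer_le_normalizer _
        (mem_centralizer_set_iff.2 fun y hy => (mem_centralizer_set_iff.1 hy.2 g hg).symm)
    · refine (le_inf Subgroup.le_normalizer ?_).trans Subgroup.inf_normalizer_le_normalizer_inf
      intro g hg
      rw [Subgroup.mem_normalizer_iff_map_conj_eq]
      exact (cnj_centralizer g F).trans (by rw [cnj_eq_of_mem (Subgroup.le_normalizer_of_normal hg)])

/-- The main local theorem. -/
theorem FourFreeData.le_normalizer (D : FourFreeData T N V) :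
    ∀ (H : Subgroup G), NiceOver T H →
      (∀ H₁ : Subgroup G, H₁ ≤ H → T ≤ H₁ → H₁ ⊓ Subgroup.normalizer (Jsub T : Set G) ≤ Subgroup.normalizer (V : Set G)) →
      H ≤ Subgroup.normalizer (V : Set G) := by
  classical
  haveI : Fact (Nat.Prime 2) := ⟨Nat.prime_two⟩
  intro H
  induction hn : Nat.card H using Nat.strong_induction_on generalizing H with
  | _ n ih =>
  intro hH hJ
  subst hn
  by_contra hnot
  haveI : Group.IsSolvable H := hH.hsol
  set T' := T.subgroupOf H with hT'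
  obtain ⟨P, hP⟩ := (D.hT.of_equiv (Subgroup.subgroupOfEquivOfLe hH.hTH).symm).exists_le_sylow
  have hPT : (P : Subgroup H) = T' := by
    have h := hH.hsyl ((P : Subgroup H).map H.subtype) (Subgroup.map_subtype_le _) (P.isPGroup'.map _)
      fun t ht => ⟨⟨t, hH.hTH ht⟩, hP (Subgroup.mem_subgroupOf.2 ht), rfl⟩
    rw [hT', ← h, Subgroup.subgroupOf, Subgroup.comap_map_eq_self_of_injective H.subtype_injective]
  set NH := (Subgroup.normalizer (V : Set G)).subgroupOf H with hNH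
  have hne : NH ≠ ⊤ := fun h => hnot (Subgroup.subgroupOf_eq_top.1 h)
  have hPN : (P : Subgroup H) ≤ NH := hPT.le.trans (Subgroup.comap_mono (D.hTN.trans D.hNV))
  have hmax : ∀ U : Subgroup H, (P : Subgroup H) ≤ U → U ≠ ⊤ → U ≤ NH := by
    intro U hU hUne
    set U' := U.map H.subtype with hU'
    have hlt : Nat.card U' < Nat.card H := by
      refine Set.Finite.card_lt_card (Set.toFinite _) (lt_of_le_of_ne (Subgroup.map_subtype_le U) fun h => hUne ?_)
      have h1 : U'.subgroupOf H = ⊤ := Subgroup.subgroupOf_eq_top.2 h.ge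
      rwa [hU', Subgroup.subgroupOf, Subgroup.comap_map_eq_self_of_injective H.subtype_injective] at h1
    have hU'H : U' ≤ H := Subgroup.map_subtype_le U
    have hTU : T ≤ U' := fun t ht => ⟨⟨t, hH.hTH ht⟩, hU (hPT.ge (Subgroup.mem_subgroupOf.2 ht)), rfl⟩
    have hQT := hH.pCoreOf_le D.hT
    have hQU : pCoreOf 2 H ≤ pCoreOf 2 U' := by
      exact CfsgLib.LocalStr.le_pCoreOf (hQT.trans hTU)
        (hU'H.trans (CfsgLib.LocalStr.le_normalizer_pCoreOf H)) (CfsgLib.LocalStr.isPGroup_pCoreOf H)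
    have hnice : NiceOver T U' :=
      { hTH := hTU
        hsyl := fun R h1 h2 h3 => hH.hsyl R (h1.trans hU'H) h2 h3
        hsol := Group.isSolvable_of_isSolvable_injective (f := Subgroup.inclusion hU'H) (Subgroup.inclusion_injective hU'H)
        hfree := fun h => hH.hfree (involves_of_injective (Subgroup.inclusion hU'H) (Subgroup.inclusion_injective hU'H) h)
        hchar := fun x hx => hQU (hH.hchar ⟨hU'H hx.1, Subgroup.centralizer_le hQU hx.2⟩) }
    have h := ih _ hlt U' rfl hnice fun H₁ h1 h2 => hJ H₁ (h1.trans hU'H) h2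
    exact fun u hu => h ⟨u, hu, rfl⟩
  obtain ⟨hcore2, F, hFc, hFodd, hFn, hFN, hFC⟩ := minimal_structure hH.hsol P hPN hne hmax
  obtain ⟨hVhQ, hcommV⟩ := D.conjugates hH
  have hQT := hH.pCoreOf_le D.hT
  set Q := pCoreOf 2 H
  set K := NH.normalCore
  set π := QuotientGroup.mk' K
  -- all maximal elementary abelian subgroups centralise the conjugates
  have hJC : ∀ A, MaxE T A → ∀ h ∈ H, A ≤ Subgroup.centralizer ((cnj h V : Subgroup G) : Set G) := by
    intro A hA h hh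
    by_cases hAQ : A ≤ Q
    · have hAh : A ≤ cnj h T := hAQ.trans
        ((cnj_eq_of_mem (CfsgLib.LocalStr.le_normalizer_pCoreOf H hh)).ge.trans (cnj_mono hQT))
      have h1 : MaxE T (cnj h⁻¹ A) := hA.of_card (by
          have := cnj_mono (g := h⁻¹) hAh
          rwa [cnj_cnj, inv_mul_cancel, cnj_one] at this) (hA.2.1.cnj _) (card_cnj _ A).ge
      have h2 := cnj_mono (g := h) (D.hVA _ h1)
      rw [cnj_cnj, mul_inv_cancel, cnj_one] at h2
      exact fun a ha => mem_centralizer_set_iff.2 fun v hv => hA.2.1.1 v (h2 hv) a ha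
    exfalso
    have hAH : A ≤ H := hA.1.trans hH.hTH
    set Ab := (A.subgroupOf H).map π with hAbdef
    have hAbT : Ab ≤ (P : Subgroup H).map π :=
      Subgroup.map_mono ((Subgroup.comap_mono hA.1).trans hPT.ge)
    have hcomm : ∀ b ∈ Ab, ∀ c ∈ Ab, b * c = c * b := by
      rintro _ ⟨x, hx, rfl⟩ _ ⟨y, hy, rfl⟩
      rw [← map_mul, ← map_mul]
      exact congrArg π (Subtype.ext (hA.2.1.1 x hx y hy))
    have hsq : ∀ b ∈ Ab, b * b = 1 := by
      rintro _ ⟨x, hx, rfl⟩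
      rw [← map_mul, ← pow_two, show x ^ 2 = 1 from Subtype.ext (by simpa using hA.2.1.2 x hx), map_one]
    haveI : IsMulCommutative Ab := ⟨⟨fun b c => Subtype.ext (hcomm b b.2 c c.2)⟩⟩
    have hcop : (Nat.card Ab).Coprime (Nat.card F) := by
      obtain ⟨k, hk⟩ := IsPGroup.iff_card.1
        (((hA.2.1.isPGroup).of_equiv (Subgroup.subgroupOfEquivOfLe hAH).symm).map π)
      rw [hk]
      exact Nat.Coprime.pow_left k hFodd.symm
    have hnc : ¬ F ≤ Subgroup.centralizer (Ab : Set (H ⧸ K)) := by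
      intro hc
      apply hAQ
      intro x hx
      have h1 : π ⟨x, hAH hx⟩ ∈ (P : Subgroup H).map π ⊓ Subgroup.centralizer (F : Set (H ⧸ K)) :=
        ⟨hAbT ⟨_, hx, rfl⟩, Subgroup.le_centralizer_iff.1 hc ⟨_, hx, rfl⟩⟩
      rw [hFC, Subgroup.mem_bot] at h1
      exact ⟨_, hcore2 ⟨hPT.ge (Subgroup.mem_subgroupOf.2 (hA.1 hx)), (QuotientGroup.eq_one_iff _).1 h1⟩, rfl⟩
    haveI := hFn
    obtain ⟨B, hBA, ⟨c, hc, hgen⟩, hB⟩ : ∃ B ≤ Ab, (∃ c ∈ Ab, Ab ≤ B ⊔ Subgroup.zpowers c) ∧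
        ¬ F ⊓ Subgroup.centralizer (B : Set (H ⧸ K)) ≤ Subgroup.centralizer (Ab : Set (H ⧸ K)) := by
      by_contra hno
      push Not at hno
      exact hnc (CfsgLib.Solvable.le_of_cyclic_quotient_centralizer_le Subgroup.le_normalizer_of_normal hcop hno)
    obtain ⟨f, hf, hf'⟩ := SetLike.not_le_iff_exists.1 hB
    have hdec : ∀ b ∈ Ab, b ∈ B ∨ b * c⁻¹ ∈ B := by
      intro b hb
      have hn : Subgroup.zpowers c ≤ Subgroup.normalizer (B : Set (H ⧸ K)) :=
        Subgroup.zpowers_le.2 (Subgroup.centralizer_le_normalizer _ fun y hy => hcomm y (hBA hy) c hc)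
      obtain ⟨y, hy, w, hw, rfl⟩ := (CfsgLib.Solvable.mem_sup_of_le_normalizer hn).1 (hgen hb)
      obtain ⟨i, rfl⟩ := Subgroup.mem_zpowers_iff.1 hw
      have h2 : c ^ (2 : ℤ) = 1 := by rw [zpow_two, hsq c hc]
      rcases Int.even_or_odd' i with ⟨j, rfl | rfl⟩
      · left; rw [zpow_mul, h2, one_zpow, mul_one]; exact hy
      · right; rw [zpow_add, zpow_mul, h2, one_zpow, one_mul, zpow_one, mul_inv_cancel_right]; exact hy
    have hcf : ¬ Commute c f := by
      intro h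
      refine hf' (mem_centralizer_set_iff.2 fun b hb => ?_)
      rcases hdec b hb with h1 | h1
      · exact hf.2 b h1
      · have h2 : Commute (b * c⁻¹) f := hf.2 _ h1
        have := h2.mul_left h
        rwa [inv_mul_cancel_right] at this
    obtain ⟨a, ha, rfl⟩ := hc
    -- the 2-subgroup
    set R := B.comap π with hR
    set S := (P : Subgroup H) ⊓ R with hS
    have hKR : K ≤ R := fun x hx => by
      show π x ∈ B
      rw [show π x = 1 from (QuotientGroup.eq_one_iff x).2 hx]; exact one_mem _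
    have hRS : R = S ⊔ K := by
      refine le_antisymm (fun x hx => ?_) (sup_le inf_le_right hKR)
      obtain ⟨t, ht, htx⟩ := hAbT (hBA hx)
      have h1 : t⁻¹ * x ∈ K := by
        rw [← QuotientGroup.eq_one_iff]
        show π (t⁻¹ * x) = 1
        rw [map_mul, map_inv, htx, inv_mul_cancel]
      have : x = t * (t⁻¹ * x) := by simp
      rw [this]
      refine mul_mem (Subgroup.mem_sup_left ⟨ht, ?_⟩) (Subgroup.mem_sup_right h1)
      show π t ∈ B
      rw [htx]; exact hx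
    have hSodd : Odd (S.relIndex R) := by
      have h1 := Subgroup.relIndex_mul_relIndex ⊥ S R bot_le inf_le_right
      rw [Subgroup.relIndex_bot_left, Subgroup.relIndex_bot_left] at h1
      have h2 := CfsgLib.PLoc.card_sup_mul_card_inf (H := S) (N := K) Subgroup.le_normalizer_of_normal
      rw [← hRS, show S ⊓ K = (P : Subgroup H) ⊓ K by rw [hS, inf_assoc, inf_eq_right.2 hKR]] at h2
      have h3 := Subgroup.relIndex_mul_relIndex ⊥ ((P : Subgroup H) ⊓ K) K bot_le inf_le_right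
      rw [Subgroup.relIndex_bot_left, Subgroup.relIndex_bot_left] at h3
      have h4 : S.relIndex R = ((P : Subgroup H) ⊓ K).relIndex K := by
        refine Nat.eq_of_mul_eq_mul_left (Nat.mul_pos (Nat.card_pos (α := S)) (Nat.card_pos (α := ↥((P : Subgroup H) ⊓ K)))) ?_
        calc Nat.card S * Nat.card ↥((P : Subgroup H) ⊓ K) * S.relIndex R
            = Nat.card R * Nat.card ↥((P : Subgroup H) ⊓ K) := by rw [← h1]; ring
          _ = Nat.card S * Nat.card K := h2
          _ = _ := by rw [← h3]; ring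
      exact h4 ▸ odd_relIndex_sylow_inf P K
    obtain ⟨RS, hRSeq⟩ := exists_sylow_eq_of_odd (R := R) inf_le_right (P.isPGroup'.to_le inf_le_left) hSodd
    have hnR : ∀ g : H, π g ∈ Subgroup.normalizer (B : Set (H ⧸ K)) → g ∈ Subgroup.normalizer (R : Set H) := by
      intro g hg
      rw [Subgroup.mem_normalizer_iff]
      intro x
      show π x ∈ B ↔ π (g * x * g⁻¹) ∈ B
      rw [map_mul, map_mul, map_inv]
      exact Subgroup.mem_normalizer_iff.1 hg _
    have haS : a ∈ Subgroup.normalizer (S : Set H) :=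
      Subgroup.inf_normalizer_le_normalizer_inf ⟨Subgroup.le_normalizer (hPT.ge (Subgroup.mem_subgroupOf.2 (hA.1 ha))),
        hnR a (Subgroup.centralizer_le_normalizer _ fun b hb => hcomm b (hBA hb) (π a) ⟨a, ha, rfl⟩)⟩
    obtain ⟨u₀, hu₀⟩ := QuotientGroup.mk'_surjective K f
    have hu₀R : u₀ ∈ Subgroup.normalizer (R : Set H) :=
      hnR u₀ (Subgroup.centralizer_le_normalizer _ fun b hb => by rw [hu₀]; exact hf.2 b hb)
    have hconj : cnj u₀ S ≤ R := (cnj_mono inf_le_right).trans (cnj_eq_of_mem hu₀R).le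
    obtain ⟨R₂, hR₂⟩ := (((P.isPGroup'.to_le inf_le_left : IsPGroup 2 S).map _).of_equiv
      (Subgroup.subgroupOfEquivOfLe hconj).symm).exists_le_sylow
    obtain ⟨r, hr⟩ := MulAction.exists_smul_eq R RS R₂
    set w := (r : H)⁻¹ * u₀ with hw
    have hwS : w ∈ Subgroup.normalizer (S : Set H) := by
      refine mem_normalizer_of_cnj_le ?_
      rintro _ ⟨s, hs, rfl⟩
      have h1 : (⟨u₀ * s * u₀⁻¹, hconj ⟨s, hs, rfl⟩⟩ : R) ∈ (R₂ : Subgroup R) :=
        hR₂ (Subgroup.mem_subgroupOf.2 ⟨s, hs, rfl⟩)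
      rw [← hr, Sylow.coe_subgroup_smul, Subgroup.mem_pointwise_smul_iff_inv_smul_mem, hRSeq, Subgroup.mem_subgroupOf] at h1
      exact Subgroup.mem_inf.2 (by simpa [hw, MulAut.smul_def, MulAut.conj_inv_apply, mul_assoc] using h1)
    have hac : (a : H) ^ 2 = 1 := Subtype.ext (by simpa using hA.2.1.2 a ha)
    have hg₀ : π (a * w * a⁻¹ * w⁻¹) = π a * f * (π a)⁻¹ * f⁻¹ := by
      have hb : π r⁻¹ ∈ B := by rw [map_inv]; exact inv_mem r.2
      have h1 : Commute (π r⁻¹) (π a) := hcomm _ (hBA hb) _ ⟨a, ha, rfl⟩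
      have h2 : Commute (π r⁻¹) f := hf.2 _ hb
      have hbw : π w = π r⁻¹ * f := by rw [hw, map_mul, hu₀, map_inv]
      set b := π r⁻¹
      simp only [map_mul, map_inv, hbw]
      have h3 : Commute b (π a * f * (π a)⁻¹ * f⁻¹) :=
        ((h1.mul_right h2).mul_right h1.inv_right).mul_right h2.inv_right
      calc π a * (b * f) * (π a)⁻¹ * (b * f)⁻¹ = (π a * b) * f * (π a)⁻¹ * f⁻¹ * b⁻¹ := by
            rw [show (b * f)⁻¹ = f⁻¹ * b⁻¹ from mul_inv_rev b f]; simp [mul_assoc]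
        _ = b * (π a * f * (π a)⁻¹ * f⁻¹) * b⁻¹ := by rw [← h1.eq]; simp [mul_assoc]
        _ = _ := by rw [h3.eq, mul_inv_cancel_right]
    have hgF : π a * f * (π a)⁻¹ * f⁻¹ ∈ F := mul_mem (hFn.conj_mem f hf.1 _) (inv_mem hf.1)
    have hg1 : π a * f * (π a)⁻¹ * f⁻¹ ≠ 1 := fun h => hcf (commute_iff_conj.2 (mul_inv_eq_one.1 h))
    obtain ⟨u, humem, huπ, huo, hrel⟩ := exists_inverted_odd π hac (m := w) (by
      rw [hg₀]
      exact Nat.coprime_two_right.1 (hFodd.coprime_dvd_left (Subgroup.orderOf_dvd_natCard F hgF)))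
    have huS : u ∈ Subgroup.normalizer (S : Set H) :=
      Subgroup.zpowers_le.2 (mul_mem (mul_mem (mul_mem haS hwS) (inv_mem haS)) (inv_mem hwS)) humem
    have huNH : u ∉ NH := by
      intro h
      apply hg1
      have : π u ∈ F ⊓ NH.map π := ⟨by rw [huπ, hg₀]; exact hgF, u, h, rfl⟩
      rw [hFN, Subgroup.mem_bot, huπ, hg₀] at this
      exact this
    set Q₀ := S.map H.subtype with hQ₀
    have hnQ : ∀ g : H, g ∈ Subgroup.normalizer (S : Set H) → (g : G) ∈ Subgroup.normalizer (Q₀ : Set G) :=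
      fun g hg => Subgroup.le_normalizer_map H.subtype ⟨g, hg, rfl⟩
    have hQ₀T : Q₀ ≤ T := by
      rintro _ ⟨g, hg, rfl⟩
      exact Subgroup.mem_subgroupOf.1 (hPT.le hg.1)
    have hmem : ∀ y (hy : y ∈ A), π ⟨y, hAH hy⟩ ∈ B → y ∈ Q₀ := fun y hy hyB =>
      ⟨_, ⟨hPT.ge (Subgroup.mem_subgroupOf.2 (hA.1 hy)), hyB⟩, rfl⟩
    refine D.no_inverted_moving hH.hfree hA hQ₀T (Subgroup.map_subtype_le _) hH.hTH ha (hnQ a haS) u.2
      (by rwa [Subgroup.orderOf_coe]) (congrArg Subtype.val hrel) (hnQ u huS) ?_ ?_ hcommV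
      (fun g hg => (hVhQ g hg).trans hQT)
    · exact fun h => huNH (Subgroup.mem_normalizer_iff_map_conj_eq.2 h)
    · refine card_le_two_mul inf_le_left ha fun y hy => ?_
      rcases hdec _ ⟨⟨y, hAH hy⟩, hy, rfl⟩ with h1 | h1
      · exact Or.inl ⟨hy, hmem y hy h1⟩
      · refine Or.inr (Subgroup.mem_inf.2 ⟨mul_mem hy (inv_mem ha), hmem _ (mul_mem hy (inv_mem ha)) ?_⟩)
        show π (⟨y, hAH hy⟩ * a⁻¹) ∈ B
        rw [map_mul, map_inv]
        exact h1
  -- Frattini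
  let SW : Set G := ⋃ h ∈ H, ((cnj h V : Subgroup G) : Set G)
  set W := Subgroup.closure SW with hW
  have hJW : Jsub T ≤ Subgroup.centralizer (W : Set G) := by
    rw [Jsub, Subgroup.closure_le]
    rintro x ⟨A, hA, hx⟩
    rw [SetLike.mem_coe, hW, Subgroup.centralizer_closure, Subgroup.mem_centralizer_iff]
    intro y hy
    simp only [SW, Set.mem_iUnion, SetLike.mem_coe] at hy
    obtain ⟨h, hh, hy⟩ := hy
    exact mem_centralizer_set_iff.1 (hJC A hA h hh hx) y hy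
  have hHW : H ≤ Subgroup.normalizer (W : Set G) := by
    intro g hg
    refine mem_normalizer_of_cnj_le ?_
    rw [cnj, hW, MonoidHom.map_closure, Subgroup.closure_le]
    rintro _ ⟨x, hx, rfl⟩
    simp only [SW, Set.mem_iUnion, SetLike.mem_coe] at hx
    obtain ⟨h, hh, hx⟩ := hx
    refine Subgroup.subset_closure ?_
    simp only [SW, Set.mem_iUnion, SetLike.mem_coe]
    exact ⟨g * h, mul_mem hg hh, by rw [← cnj_cnj]; exact ⟨x, hx, rfl⟩⟩
  set X := (Subgroup.centralizer (W : Set G)).subgroupOf H with hXdef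
  haveI : X.Normal := Subgroup.normal_subgroupOf_of_le_normalizer (hHW.trans fun g hg => by
    rw [Subgroup.mem_normalizer_iff_map_conj_eq]
    exact (cnj_centralizer g W).trans (by rw [cnj_eq_of_mem hg]))
  have hVW : V ≤ W := fun v hv => Subgroup.subset_closure (by
    simp only [SW, Set.mem_iUnion, SetLike.mem_coe]
    exact ⟨1, one_mem _, by rwa [cnj_one]⟩)
  apply hne
  rw [eq_top_iff, ← frattini_inf P X, sup_le_iff]
  constructor
  · intro g hg
    have h1 : (g : G) ∈ Subgroup.normalizer ((T ⊓ Subgroup.centralizer (W : Set G) : Subgroup G) : Set G) := by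
      have h2 := Subgroup.le_normalizer_map H.subtype ⟨g, hg, rfl⟩
      rwa [hPT, hT', hXdef, show T.subgroupOf H ⊓ (Subgroup.centralizer (W : Set G)).subgroupOf H = (T ⊓ Subgroup.centralizer (W : Set G)).subgroupOf H from rfl,
        Subgroup.map_subgroupOf_eq_of_le (inf_le_left.trans hH.hTH)] at h2
    have h3 := normalizer_le_normalizer_Jsub (le_inf (Jsub_le T) hJW) inf_le_left h1
    exact hJ H le_rfl hH.hTH ⟨g.2, h3⟩
  · exact fun g hg => Subgroup.centralizer_le_normalizer _ (Subgroup.centralizer_le hVW hg)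

end CfsgLib.FGS68

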