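import Cfsg.Agent.Lib.FGS68.FourFreeBase
import Mathlib

/-!
The module lies in `O₂` of every overgroup of `T`, and no element of an elementary abelian subgroup of
largest order inverts an element moving the module.
-/

set_option autoImplicit false
set_option linter.style.haveILetI false

open Cfsg

namespace CfsgLib.FGS68

variable {G : Type*} [Group G] [Finite G] {T N V : Subgroup G}

omit [Finite G] in
theorem conj_eq_of_inverted {a u : G} (h : a * u * a⁻¹ = u⁻¹) : u * a * u⁻¹ = u ^ 2 * a := by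
  have h1 : a * u⁻¹ = u * a := by
    have := congrArg (·⁻¹) h
    simp only [mul_inv_rev, inv_inv] at this
    rw [← mul_inv_eq_iff_eq_mul, mul_assoc]
    exact this
  rw [mul_assoc, h1, pow_two, mul_assoc]

omit [Finite G] in
theorem mem_of_sq_mem {S : Subgroup G} {u : G} (hu : Odd (orderOf u)) (h : u ^ 2 ∈ S) : u ∈ S := by
  obtain ⟨m, hm⟩ := hu
  have : (u ^ 2) ^ (m + 1) = u := by
    rw [← pow_mul, show 2 * (m + 1) = orderOf u + 1 by omega, pow_succ, pow_orderOf_eq_one, one_mul]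
  rw [← this]
  exact pow_mem h _

/-- Combinatorics of the competitor. -/
theorem ineq_competitor {e0 ec d f v y : ℕ} (he : e0 ≤ 2 * ec ∨ 4 * ec ≤ e0) (h4 : 4 * d ≤ y)
    (hdf : d ≤ f) (hsq : e0 ^ 2 * f ≤ v * ec ^ 2) (hv : v ≤ 2 * y) : 2 * e0 * d ≤ y * ec := by
  rcases he with he | he
  · calc 2 * e0 * d ≤ 2 * (2 * ec) * d := Nat.mul_le_mul_right _ (Nat.mul_le_mul_left _ he)
      _ = ec * (4 * d) := by ring
      _ ≤ ec * y := Nat.mul_le_mul_left _ h4
      _ = _ := mul_comm _ _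
  · rcases Nat.eq_zero_or_pos e0 with h0 | hpos
    · rw [h0]; simp
    refine Nat.le_of_mul_le_mul_left ?_ hpos
    calc e0 * (2 * e0 * d) = 2 * (e0 ^ 2 * d) := by ring
      _ ≤ 2 * (e0 ^ 2 * f) := Nat.mul_le_mul_left _ (Nat.mul_le_mul_left _ hdf)
      _ ≤ 2 * (v * ec ^ 2) := Nat.mul_le_mul_left _ hsq
      _ ≤ 2 * (2 * y * ec ^ 2) := Nat.mul_le_mul_left _ (Nat.mul_le_mul_right _ hv)
      _ = y * ec * (4 * ec) := by ring
      _ ≤ y * ec * e0 := Nat.mul_le_mul_left _ he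
      _ = e0 * (y * ec) := by ring

/-- No configuration in which an element of `V` inverts an element of odd order moving the
2-group `Q₀`. -/
theorem FourFreeData.no_inverted_in_V (D : FourFreeData T N V) {H : Subgroup G}
    (hfree : ¬ Involves (Equiv.Perm (Fin 4)) H) {A Q₀ : Subgroup G} {v u : G} (hA : MaxE T A)
    (hQT : Q₀ ≤ T) (hQH : Q₀ ≤ H) (hvV : v ∈ V) (hvH : v ∈ H) (hvQ : v ∉ Q₀)
    (hvn : v ∈ Subgroup.normalizer (Q₀ : Set G)) (huH : u ∈ H) (huo : Odd (orderOf u))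
    (hrel : v * u * v⁻¹ = u⁻¹) (hun : u ∈ Subgroup.normalizer (Q₀ : Set G))
    (hmove : u ∉ Subgroup.centralizer (Q₀ : Set G))
    (hV : ∀ x ∈ V, x ∈ Q₀ ∨ x * v⁻¹ ∈ Q₀) (hA2 : Nat.card A ≤ 2 * Nat.card ↥(A ⊓ Q₀)) : False := by
  haveI : Fact (Nat.Prime 2) := ⟨Nat.prime_two⟩
  set Y := V ⊓ Q₀ with hY
  set Y' := cnj u Y with hY'
  set V' := cnj u V with hV'
  have hQu : cnj u Q₀ = Q₀ := cnj_eq_of_mem hun
  have hY'Q : Y' ≤ Q₀ := (cnj_mono inf_le_right).trans hQu.le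
  have hvinv : v⁻¹ = v := inv_eq_of_mul_eq_one_right (by rw [← pow_two]; exact D.hEA.2 v hvV)
  set v' := u * v * u⁻¹ with hv'
  have hv'eq : v' = u ^ 2 * v := conj_eq_of_inverted hrel
  have hQV : ∀ q ∈ Q₀, q * v * q⁻¹ * v⁻¹ ∈ Y := by
    intro q hq
    refine Subgroup.mem_inf.2 ⟨mul_mem ((Subgroup.mem_normalizer_iff.1 (D.hNV (D.hTN (hQT hq))) v).1 hvV) (inv_mem hvV), ?_⟩
    have : q * v * q⁻¹ * v⁻¹ = q * (v * q⁻¹ * v⁻¹) := by simp [mul_assoc]
    rw [this]
    exact mul_mem hq ((Subgroup.mem_normalizer_iff.1 hvn _).1 (inv_mem hq))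
  have hQV' : ∀ q ∈ Q₀, q * v' * q⁻¹ * v'⁻¹ ∈ Y' := by
    intro q hq
    rw [hY', mem_cnj]
    have hq' : u⁻¹ * q * u ∈ Q₀ := by
      have := hQu.ge hq
      rwa [mem_cnj] at this
    have := hQV _ hq'
    simpa [hv', mul_assoc] using this
  have hQY : Q₀ ≤ Subgroup.normalizer (Y : Set G) :=
    le_trans (le_inf (hQT.trans (D.hTN.trans D.hNV)) Subgroup.le_normalizer) Subgroup.inf_normalizer_le_normalizer_inf
  have hQY' : Q₀ ≤ Subgroup.normalizer (Y' : Set G) := hQu.ge.trans (le_normalizer_cnj hQY)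
  set U := Y ⊔ Y' with hU
  have hUQ : U ≤ Q₀ := sup_le inf_le_right hY'Q
  have hQU : Q₀ ≤ Subgroup.normalizer (U : Set G) :=
    (le_inf hQY hQY').trans (Subgroup.normalizer_inf_normalizer_le_normalizer_sup _ _)
  have hvU : v ∈ Subgroup.normalizer (U : Set G) := by
    refine mem_normalizer_of_cnj_le ?_
    rw [cnj, hU, Subgroup.map_sup, sup_le_iff]
    constructor
    · rintro _ ⟨y, hy, rfl⟩
      refine Subgroup.mem_sup_left ?_
      show v * y * v⁻¹ ∈ Y
      rw [(D.hEA.1 v hvV y hy.1).eq, mul_inv_cancel_right]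
      exact hy
    · rintro _ ⟨y, hy, rfl⟩
      show v * y * v⁻¹ ∈ _
      have : v * y * v⁻¹ = (y * v * y⁻¹ * v⁻¹)⁻¹ * y := by simp [mul_assoc]
      rw [this]
      exact mul_mem (inv_mem (Subgroup.mem_sup_left (hQV y (hY'Q hy)))) (Subgroup.mem_sup_right hy)
  have hv'U : v' ∈ Subgroup.normalizer (U : Set G) := by
    refine mem_normalizer_of_cnj_le ?_
    rw [cnj, hU, Subgroup.map_sup, sup_le_iff]
    constructor
    · rintro _ ⟨y, hy, rfl⟩
      show v' * y * v'⁻¹ ∈ _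
      have : v' * y * v'⁻¹ = (y * v' * y⁻¹ * v'⁻¹)⁻¹ * y := by simp [mul_assoc]
      rw [this]
      exact mul_mem (inv_mem (Subgroup.mem_sup_right (hQV' y hy.2))) (Subgroup.mem_sup_left hy)
    · rintro _ ⟨y, hy, rfl⟩
      refine Subgroup.mem_sup_right ?_
      show v' * y * v'⁻¹ ∈ Y'
      obtain ⟨z, hz, rfl⟩ := hy
      refine ⟨z, hz, ?_⟩
      show u * z * u⁻¹ = v' * (u * z * u⁻¹) * v'⁻¹
      have h1 : Commute v' (u * z * u⁻¹) := (D.hEA.1 v hvV z hz.1).map (MulAut.conj u).toMonoidHom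
      rw [h1.eq, mul_inv_cancel_right]
  have hu2 : u ^ 2 = v' * v⁻¹ := by rw [hv'eq, mul_inv_cancel_right]
  have huU : u ∈ Subgroup.normalizer (U : Set G) := mem_of_sq_mem huo (hu2 ▸ mul_mem hv'U (inv_mem hvU))
  have hUp : IsPGroup 2 U := D.hT.to_le (hUQ.trans hQT)
  have hmoveU : u ∉ Subgroup.centralizer (U : Set G) := by
    intro hc
    apply hmove
    refine mem_centralizer_set_iff.2 fun q hq => ?_
    refine (commute_of_sq huo (commute_of_mod (D.hT.to_le hQT) hUQ (pow_mem hc 2)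
      (huo.of_dvd_nat (orderOf_pow_dvd 2)) ?_)).symm
    rw [hu2]
    have h1 : v⁻¹ * q * v⁻¹⁻¹ * q⁻¹ ∈ U := by
      rw [inv_inv, hvinv]
      have h := inv_mem (hQV q hq)
      have e : (q * v * q⁻¹ * v⁻¹)⁻¹ = v * q * v⁻¹ * q⁻¹ := by simp [mul_assoc]
      rw [e, hvinv] at h
      exact Subgroup.mem_sup_left h
    have h2 : v' * q * v'⁻¹ * q⁻¹ ∈ U := by
      have h := inv_mem (hQV' q hq)
      have e : (q * v' * q⁻¹ * v'⁻¹)⁻¹ = v' * q * v'⁻¹ * q⁻¹ := by simp [mul_assoc]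
      rw [e] at h
      exact Subgroup.mem_sup_right h
    have e : v' * v⁻¹ * q * (v' * v⁻¹)⁻¹ * q⁻¹ =
        v' * (v⁻¹ * q * v⁻¹⁻¹ * q⁻¹) * v'⁻¹ * (v' * q * v'⁻¹ * q⁻¹) := by simp [mul_assoc]
    rw [e]
    exact mul_mem ((Subgroup.mem_normalizer_iff.1 hv'U _).1 h1) h2
  have h4 := four_mul_card_le hfree hUp (hUQ.trans hQH) hvH huH hvU huU huo
    (by rw [hrel, inv_mul_cancel]; exact one_mem _) hmoveU
  -- the fixed points of `v` on `Y'`
  set Y1 := Y' ⊓ Subgroup.centralizer {v} with hY1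
  have hYv : Y ≤ Subgroup.centralizer {v} := fun y hy => mem_centralizer_singleton'.2 (D.hEA.1 v hvV y hy.1)
  have hY'Y : Y' ≤ Subgroup.normalizer (Y : Set G) := hY'Q.trans hQY
  have hP1 := CfsgLib.PLoc.card_sup_mul_card_inf hY'Y
  have hP2 := CfsgLib.PLoc.card_sup_mul_card_inf ((inf_le_left : Y1 ≤ Y').trans hY'Y)
  have hinf : Y1 ⊓ Y = Y' ⊓ Y :=
    le_antisymm (inf_le_inf_right _ inf_le_left) (le_inf (le_inf inf_le_left (inf_le_right.trans hYv)) inf_le_right)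
  have hle : Y1 ⊔ Y ≤ U ⊓ Subgroup.centralizer {v} :=
    sup_le (le_inf (inf_le_left.trans le_sup_right) inf_le_right) (le_inf le_sup_left hYv)
  have hYpos : 0 < Nat.card Y := Nat.card_pos
  have h4Y : 4 * Nat.card Y1 ≤ Nat.card Y' := by
    refine Nat.le_of_mul_le_mul_right ?_ hYpos
    rw [mul_assoc, ← hP2, hinf, ← hP1, sup_comm Y' Y, ← hU, ← mul_assoc]
    exact Nat.mul_le_mul_right _ ((Nat.mul_le_mul_left 4 (Subgroup.card_le_of_le hle)).trans h4)
  -- the competitor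
  set E := A ⊓ Q₀ with hE
  set CV := Subgroup.centralizer ((V' : Subgroup G) : Set G) with hCV
  have hY'EA : EA Y' := (D.hEA.mono inf_le_left).cnj u
  have hcomm : ∀ y ∈ Y', ∀ x ∈ E ⊓ CV, Commute y x := fun y hy x hx =>
    mem_centralizer_set_iff.1 hx.2 y (cnj_mono inf_le_left hy)
  set B := Y' ⊔ (E ⊓ CV) with hB
  have hBE : EA B := hY'EA.sup (hA.2.1.mono (inf_le_left.trans inf_le_left)) hcomm
  have hBQ : B ≤ Q₀ := sup_le hY'Q (inf_le_left.trans inf_le_right)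
  have hP3 := CfsgLib.PLoc.card_sup_mul_card_inf (H := Y') (N := E ⊓ CV)
    (fun y hy => Subgroup.centralizer_le_normalizer _ (mem_centralizer_set_iff.2 fun x hx => (hcomm y hy x hx).symm))
  have hd : Nat.card ↥(Y' ⊓ (E ⊓ CV)) ≤ Nat.card ↥(Y' ⊓ A) :=
    Subgroup.card_le_of_le (inf_le_inf_left _ (inf_le_left.trans inf_le_left))
  have hdv : Y' ⊓ A ≤ Y1 := inf_le_inf_left _ fun x hx =>
    mem_centralizer_singleton'.2 (hA.2.1.1 v (D.hVA A hA hvV) x hx)
  have hdf : Y' ⊓ A ≤ V' ⊓ Subgroup.centralizer (E : Set G) := fun x hx =>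
    ⟨cnj_mono inf_le_left hx.1, mem_centralizer_set_iff.2 fun e he => hA.2.1.1 e he.1 x hx.2⟩
  have hET : E ≤ cnj u T := inf_le_right.trans (hQu.ge.trans (cnj_mono hQT))
  have hsq := D.sq u E hET (fun x hx => by rw [hA.2.1.2 x hx.1]; exact one_mem _)
  have hv2 : Nat.card V ≤ 2 * Nat.card Y' := by
    rw [hY', card_cnj]
    exact card_le_two_mul inf_le_left hvV fun x hx => (hV x hx).imp (fun h => ⟨hx, h⟩)
      fun h => Subgroup.mem_inf.2 ⟨mul_mem hx (inv_mem hvV), h⟩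
  obtain ⟨p, hp⟩ := IsPGroup.iff_card.1 (D.hT.to_le ((inf_le_left : E ≤ A).trans hA.1))
  obtain ⟨c, hc⟩ := IsPGroup.iff_card.1 (D.hT.to_le (((inf_le_left : E ⊓ CV ≤ E).trans inf_le_left).trans hA.1))
  have hdich : Nat.card E ≤ 2 * Nat.card ↥(E ⊓ CV) ∨ 4 * Nat.card ↥(E ⊓ CV) ≤ Nat.card E := by
    rw [hp, hc]
    rcases Nat.lt_or_ge p (c + 2) with h | h
    · left; rw [← pow_succ']; exact Nat.pow_le_pow_right two_pos (by omega)
    · right; rw [show 4 * 2 ^ c = 2 ^ (c + 2) by rw [pow_add]; ring]; exact Nat.pow_le_pow_right two_pos h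
  have hkey := ineq_competitor hdich ((Nat.mul_le_mul_left 4 (Subgroup.card_le_of_le hdv)).trans h4Y)
    (Subgroup.card_le_of_le hdf) hsq hv2
  have hAB : Nat.card A ≤ Nat.card B := by
    have hdpos : 0 < Nat.card ↥(Y' ⊓ A) := Nat.card_pos
    refine Nat.le_of_mul_le_mul_right ?_ hdpos
    calc Nat.card A * Nat.card ↥(Y' ⊓ A) ≤ 2 * Nat.card E * Nat.card ↥(Y' ⊓ A) := Nat.mul_le_mul_right _ hA2
      _ ≤ Nat.card Y' * Nat.card ↥(E ⊓ CV) := hkey
      _ = Nat.card B * Nat.card ↥(Y' ⊓ (E ⊓ CV)) := hP3.symm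
      _ ≤ Nat.card B * Nat.card ↥(Y' ⊓ A) := Nat.mul_le_mul_left _ hd
  exact hvQ (hBQ (D.hVA B (hA.of_card (hBQ.trans hQT) hBE hAB) hvV))

/-- An odd order element fixing a subgroup of index four pointwise... squares of a 2-group fixing a
subgroup of index four of the module act trivially. -/
theorem FourFreeData.sq_mem (D : FourFreeData T N V) {g q : G} (hq : q ∈ cnj g T) {V₀ : Subgroup G}
    (hV₀ : V₀ ≤ cnj g V) (hcard : Nat.card V ≤ 4 * Nat.card V₀) (hfix : ∀ x ∈ V₀, Commute q x) :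
    q ^ 2 ∈ Subgroup.centralizer ((cnj g V : Subgroup G) : Set G) := by
  classical
  haveI : Fact (Nat.Prime 2) := ⟨Nat.prime_two⟩
  set W := cnj g V with hW
  set CW := Subgroup.centralizer ((W : Subgroup G) : Set G)
  have hWEA : EA W := D.hEA.cnj g
  by_contra hne
  -- the displacement map
  have hqW : q ∈ Subgroup.normalizer (W : Set G) := le_normalizer_cnj (D.hTN.trans D.hNV) hq
  have hWinv : ∀ w ∈ W, w⁻¹ = w := fun w hw => inv_eq_of_mul_eq_one_right (by rw [← pow_two]; exact hWEA.2 w hw)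
  let φ : W →* G :=
    { toFun := fun v => q * v * q⁻¹ * (v : G)⁻¹
      map_one' := by simp
      map_mul' := fun x y => by
        have hcx : Commute ((x : G)⁻¹) (q * y * q⁻¹ * (y : G)⁻¹) :=
          hWEA.1 _ (inv_mem x.2) _ (mul_mem ((Subgroup.mem_normalizer_iff.1 hqW y).1 y.2) (inv_mem y.2))
        calc q * ((x * y : W) : G) * q⁻¹ * ((x * y : W) : G)⁻¹
            = q * x * q⁻¹ * ((q * y * q⁻¹ * (y : G)⁻¹) * (x : G)⁻¹) := by simp [mul_assoc]
          _ = _ := by rw [← hcx.eq]; simp [mul_assoc] }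
  have hRW : φ.range ≤ W := by
    rintro _ ⟨x, rfl⟩
    exact mul_mem ((Subgroup.mem_normalizer_iff.1 hqW x).1 x.2) (inv_mem x.2)
  have hR4 : Nat.card φ.range ≤ 4 := by
    have h1 := φ.ker.card_mul_index
    rw [Subgroup.index_ker, show Nat.card W = Nat.card V from card_cnj g V] at h1
    have h2 : Nat.card V₀ ≤ Nat.card φ.ker := by
      refine Nat.card_le_card_of_injective (fun v => ⟨⟨v, hV₀ v.2⟩, ?_⟩)
        fun a b h => Subtype.ext (congrArg (fun t : φ.ker => ((t : W) : G)) h)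
      show q * v * q⁻¹ * (v : G)⁻¹ = 1
      rw [commute_iff_conj.1 (hfix v v.2), mul_inv_cancel]
    refine Nat.le_of_mul_le_mul_left ?_ (Nat.card_pos (α := V₀))
    calc Nat.card V₀ * Nat.card φ.range ≤ Nat.card φ.ker * Nat.card φ.range := Nat.mul_le_mul_right _ h2
      _ = Nat.card V := h1
      _ ≤ Nat.card V₀ * 4 := by rw [mul_comm]; exact hcard
  have hRne : φ.range ≠ ⊥ := by
    intro h
    apply hne
    refine pow_mem (mem_centralizer_set_iff.2 fun v hv => ?_) 2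
    have : φ ⟨v, hv⟩ = 1 := Subgroup.mem_bot.1 (h ▸ ⟨⟨v, hv⟩, rfl⟩)
    exact (commute_iff_conj.2 (mul_inv_eq_one.1 this)).symm
  have hqn : q ∈ Subgroup.normalizer (φ.range : Set G) := by
    refine mem_normalizer_of_cnj_le ?_
    rintro _ ⟨_, ⟨x, rfl⟩, rfl⟩
    refine ⟨⟨q * x * q⁻¹, (Subgroup.mem_normalizer_iff.1 hqW x).1 x.2⟩, ?_⟩
    show q * (q * x * q⁻¹) * q⁻¹ * (q * x * q⁻¹)⁻¹ = q * (q * x * q⁻¹ * (x : G)⁻¹) * q⁻¹
    simp [mul_assoc]
  have hqp : IsPGroup 2 (Subgroup.zpowers q) := (D.hT.map _).to_le (Subgroup.zpowers_le.2 hq)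
  obtain ⟨w, hw, hw1, hwq⟩ := exists_fixed_ne_one ((D.hT.to_le D.hVT).map _ |>.to_le hRW) hqp
    (Subgroup.zpowers_le.2 hqn) hRne
  let R := φ.range.subgroupOf W
  let ψ : R →* G := φ.comp R.subtype
  have hψ2 : Nat.card ψ.range ≤ 2 := by
    have h1 := ψ.ker.card_mul_index
    rw [Subgroup.index_ker, Nat.card_congr (Subgroup.subgroupOfEquivOfLe hRW).toEquiv] at h1
    have hker : 2 ≤ Nat.card ψ.ker := by
      rw [Nat.succ_le_iff, Finite.one_lt_card_iff_nontrivial, Subgroup.nontrivial_iff_ne_bot]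
      intro h
      apply hw1
      have hmem : (⟨⟨w, hRW hw⟩, hw⟩ : R) ∈ ψ.ker := by
        show q * w * q⁻¹ * w⁻¹ = 1
        rw [commute_iff_conj.1 (hwq q (Subgroup.mem_zpowers q)).symm.symm, mul_inv_cancel]
      rw [h, Subgroup.mem_bot] at hmem
      exact congrArg (fun t : R => ((t : W) : G)) hmem
    refine Nat.le_of_mul_le_mul_left ?_ (show 0 < 2 by norm_num)
    calc 2 * Nat.card ψ.range ≤ Nat.card ψ.ker * Nat.card ψ.range := Nat.mul_le_mul_right _ hker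
      _ = Nat.card φ.range := h1
      _ ≤ 2 * 2 := hR4
  have hkey : Nat.card V ≤ 2 * Nat.card ↥(W ⊓ Subgroup.centralizer {q ^ 2}) := by
    let χ : W →* G :=
      { toFun := fun v => φ ⟨φ v, hRW ⟨v, rfl⟩⟩
        map_one' := (congrArg φ (Subtype.ext (map_one φ) : _ = (1 : W))).trans (map_one φ)
        map_mul' := fun x y => by
          rw [← map_mul]
          exact congrArg φ (Subtype.ext (map_mul φ x y)) }
    have hχ : Nat.card χ.range ≤ 2 := le_trans (Subgroup.card_le_of_le (by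
      rintro _ ⟨x, rfl⟩
      exact ⟨⟨⟨φ x, hRW ⟨x, rfl⟩⟩, ⟨x, rfl⟩⟩, rfl⟩)) hψ2
    have h1 := χ.ker.card_mul_index
    rw [Subgroup.index_ker, show Nat.card W = Nat.card V from card_cnj g V] at h1
    have hker : Nat.card χ.ker ≤ Nat.card ↥(W ⊓ Subgroup.centralizer {q ^ 2}) := by
      refine Nat.card_le_card_of_injective (fun v => ⟨((v : W) : G), v.1.2, ?_⟩)
        fun a b h => Subtype.ext (Subtype.ext (congrArg (fun t : ↥(W ⊓ Subgroup.centralizer {q ^ 2}) => (t : G)) h))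
      refine mem_centralizer_singleton'.2 (commute_iff_conj.2 ?_)
      have hv : q * (q * ((v : W) : G) * q⁻¹ * ((v : W) : G)⁻¹) * q⁻¹ * (q * ((v : W) : G) * q⁻¹ * ((v : W) : G)⁻¹)⁻¹ = 1 := v.2
      set x := ((v : W) : G)
      have hxW : x ∈ W := (v : W).2
      have hy : q * x * q⁻¹ ∈ W := (Subgroup.mem_normalizer_iff.1 hqW x).1 hxW
      have hz : q ^ 2 * x * (q ^ 2)⁻¹ ∈ W :=
        (Subgroup.mem_normalizer_iff.1 (pow_mem hqW 2) x).1 hxW
      have e : q * (q * x * q⁻¹ * x⁻¹) * q⁻¹ * (q * x * q⁻¹ * x⁻¹)⁻¹ =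
          q ^ 2 * x * (q ^ 2)⁻¹ * ((q * x * q⁻¹)⁻¹ * x * (q * x * q⁻¹)⁻¹) := by
        simp [pow_two, mul_assoc]
      rw [e, hWinv _ hy, (hWEA.1 _ hy x hxW).eq, mul_assoc x, ← pow_two, hWEA.2 _ hy, mul_one] at hv
      have := mul_eq_one_iff_eq_inv.1 hv
      rwa [hWinv x hxW] at this
    calc Nat.card V = Nat.card χ.ker * Nat.card χ.range := h1.symm
      _ ≤ Nat.card ↥(W ⊓ Subgroup.centralizer {q ^ 2}) * 2 := Nat.mul_le_mul hker hχ
      _ = _ := mul_comm _ _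
  -- the last power moving `W`
  obtain ⟨e, he⟩ := hqp ⟨q, Subgroup.mem_zpowers q⟩
  have he' : q ^ 2 ^ e = 1 := congrArg Subtype.val he
  have hex : ∃ j, (q ^ 2) ^ 2 ^ j ∈ CW := ⟨e, by rw [← pow_mul, mul_comm, pow_mul, he', one_pow]; exact one_mem _⟩
  obtain ⟨j, hj⟩ := Nat.exists_eq_succ_of_ne_zero (n := Nat.find hex) fun h0 => hne (by
    have := Nat.find_spec hex
    rwa [h0, pow_zero, pow_one] at this)
  set z := (q ^ 2) ^ 2 ^ j with hz
  have hz1 : z ∉ CW := Nat.find_min hex (by omega)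
  have hz2 : z ^ 2 ∈ CW := by
    rw [hz, ← pow_mul, ← pow_succ]
    have := Nat.find_spec hex
    rwa [hj] at this
  have h4 := D.four_le g (pow_mem (pow_mem hq 2) _) hz2 hz1
  have hmono : W ⊓ Subgroup.centralizer {q ^ 2} ≤ W ⊓ Subgroup.centralizer {z} := fun v hv =>
    ⟨hv.1, mem_centralizer_singleton'.2 ((mem_centralizer_singleton'.1 hv.2).pow_left _)⟩
  have h5 := (hkey.trans (Nat.mul_le_mul_left 2 (Subgroup.card_le_of_le hmono)))
  have hpos : 0 < Nat.card ↥(W ⊓ Subgroup.centralizer {z}) := Nat.card_pos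
  change 4 * Nat.card ↥(W ⊓ Subgroup.centralizer {z}) ≤ _ at h4
  omega

/-- No element of a largest elementary abelian subgroup inverts an element of odd order moving
the module while both normalise a 2-subgroup of `T`. -/
theorem FourFreeData.no_inverted_moving (D : FourFreeData T N V) {H : Subgroup G}
    (hfree : ¬ Involves (Equiv.Perm (Fin 4)) H) {A Q₀ : Subgroup G} {a u : G} (hA : MaxE T A)
    (hQT : Q₀ ≤ T) (hQH : Q₀ ≤ H) (hTH : T ≤ H) (haA : a ∈ A)
    (han : a ∈ Subgroup.normalizer (Q₀ : Set G)) (huH : u ∈ H) (huo : Odd (orderOf u))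
    (hrel : a * u * a⁻¹ = u⁻¹) (hun : u ∈ Subgroup.normalizer (Q₀ : Set G))
    (hmove : cnj u V ≠ V) (hA2 : Nat.card A ≤ 2 * Nat.card ↥(A ⊓ Q₀))
    (hcomm : ∀ g ∈ H, ∀ h ∈ H, ∀ x ∈ cnj g V, ∀ y ∈ cnj h V, Commute x y)
    (hVT : ∀ g ∈ H, cnj g V ≤ T) : False := by
  classical
  haveI : Fact (Nat.Prime 2) := ⟨Nat.prime_two⟩
  let S : Set G := ⋃ i : ℤ, ((cnj (u ^ i) V : Subgroup G) : Set G)
  set W := Subgroup.closure S with hW
  have hVW : ∀ i : ℤ, cnj (u ^ i) V ≤ W := fun i x hx => Subgroup.subset_closure (Set.mem_iUnion.2 ⟨i, hx⟩)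
  have hVW0 : V ≤ W := by have := hVW 0; rwa [zpow_zero, cnj_one] at this
  have hV1W : cnj u V ≤ W := by have := hVW 1; rwa [zpow_one] at this
  have huiH : ∀ i : ℤ, u ^ i ∈ H := fun i => zpow_mem huH i
  have hWEA : EA W := by
    refine EA.closure ?_ ?_
    · intro x hx y hy
      obtain ⟨i, hi⟩ := Set.mem_iUnion.1 hx
      obtain ⟨j, hj⟩ := Set.mem_iUnion.1 hy
      exact hcomm _ (huiH i) _ (huiH j) x hi y hj
    · intro x hx
      obtain ⟨i, hi⟩ := Set.mem_iUnion.1 hx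
      exact (D.hEA.cnj _).2 x hi
  have hWT : W ≤ T := (Subgroup.closure_le _).2 fun x hx => by
    obtain ⟨i, hi⟩ := Set.mem_iUnion.1 hx
    exact hVT _ (huiH i) hi
  have hWnorm : ∀ g : G, (∀ i : ℤ, ∃ j : ℤ, cnj g (cnj (u ^ i) V) ≤ cnj (u ^ j) V) →
      g ∈ Subgroup.normalizer (W : Set G) := by
    intro g hg
    refine mem_normalizer_of_cnj_le ?_
    rw [cnj, hW, MonoidHom.map_closure, Subgroup.closure_le]
    rintro _ ⟨x, hx, rfl⟩
    obtain ⟨i, hi⟩ := Set.mem_iUnion.1 hx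
    obtain ⟨j, hj⟩ := hg i
    exact hVW j (hj ⟨x, hi, rfl⟩)
  have huW : u ∈ Subgroup.normalizer (W : Set G) := hWnorm u fun i => ⟨1 + i, by
    rw [cnj_cnj, zpow_add, zpow_one]⟩
  have haV : cnj a V = V := cnj_eq_of_mem (D.hNV (D.hTN (hA.1 haA)))
  have haW : a ∈ Subgroup.normalizer (W : Set G) := hWnorm a fun i => ⟨-i, by
    rw [cnj_cnj]
    have h1 : a * u ^ i = u ^ (-i) * a := by
      have := conj_zpow (a := a) (b := u) (i := i)
      rw [hrel, inv_zpow', eq_mul_inv_iff_mul_eq] at this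
      exact this.symm
    rw [h1, ← cnj_cnj, haV]⟩
  have hQu : ∀ i : ℤ, Q₀ ≤ cnj (u ^ i) T := fun i =>
    (cnj_eq_of_mem (zpow_mem hun i)).ge.trans (cnj_mono hQT)
  have hQV : ∀ i : ℤ, Q₀ ≤ Subgroup.normalizer ((cnj (u ^ i) V : Subgroup G) : Set G) := fun i =>
    (hQu i).trans (le_normalizer_cnj (D.hTN.trans D.hNV))
  have hQW : Q₀ ≤ Subgroup.normalizer (W : Set G) := fun q hq => hWnorm q fun i =>
    ⟨i, (cnj_eq_of_mem (hQV i hq)).le⟩
  have haVc : ∀ v ∈ V, Commute a v := fun v hv => hA.2.1.1 a haA v (D.hVA A hA hv)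
  have hmoveW : u ∉ Subgroup.centralizer (W : Set G) := by
    intro h
    refine hmove (cnj_eq_of_mem (Subgroup.centralizer_le_normalizer _ (Subgroup.centralizer_le hVW0 h)))
  have hWH : W ≤ H := hWT.trans hTH
  have h4a := four_mul_card_le hfree (D.hT.to_le hWT) hWH (hTH (hA.1 haA)) huH haW huW huo
    (by rw [hrel, inv_mul_cancel]; exact one_mem _) hmoveW
  -- the hyperplane of `A`
  set E := A ⊓ Q₀ with hE
  have hEA' : EA E := hA.2.1.mono inf_le_left
  have hEsq : ∀ (K : Subgroup G), ∀ x ∈ E, x ^ 2 ∈ K := fun K x hx => by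
    rw [hEA'.2 x hx]; exact one_mem _
  have hEi : ∀ i : ℤ, E ≤ cnj (u ^ i) T := fun i => inf_le_right.trans (hQu i)
  have hcompet : ∀ X : Subgroup G, EA X → X ≤ T → X ≤ Subgroup.normalizer (X : Set G) →
      Nat.card X * Nat.card ↥(E ⊓ Subgroup.centralizer (X : Set G)) ≤
        2 * Nat.card E * Nat.card ↥(X ⊓ A) := by
    intro X hX hXT _
    have hc : ∀ x ∈ X, ∀ e ∈ E ⊓ Subgroup.centralizer (X : Set G), Commute x e := fun x hx e he =>
      mem_centralizer_set_iff.1 he.2 x hx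
    set B := X ⊔ (E ⊓ Subgroup.centralizer (X : Set G))
    have hB := hA.2.2 B (sup_le hXT ((inf_le_left.trans inf_le_left).trans hA.1)) (hX.sup (hEA'.mono inf_le_left) hc)
    have hP := CfsgLib.PLoc.card_sup_mul_card_inf (H := X) (N := E ⊓ Subgroup.centralizer (X : Set G))
      (fun x hx => Subgroup.centralizer_le_normalizer _ (mem_centralizer_set_iff.2 fun e he => (hc x hx e he).symm))
    rw [← hP]
    exact Nat.mul_le_mul (hB.trans hA2) (Subgroup.card_le_of_le (inf_le_inf_left _ (inf_le_left.trans inf_le_left)))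
  -- on each module at most two
  have hei : ∀ i : ℤ, Nat.card E ≤ 2 * Nat.card ↥(E ⊓ Subgroup.centralizer ((cnj (u ^ i) V : Subgroup G) : Set G)) := by
    intro i
    set Vi := cnj (u ^ i) V with hVi
    set ec := Nat.card ↥(E ⊓ Subgroup.centralizer ((Vi : Subgroup G) : Set G))
    have h1 := hcompet Vi (D.hEA.cnj _) (hVT _ (huiH i)) Subgroup.le_normalizer
    have h2 := D.sq (u ^ i) E (hEi i) (hEsq _)
    have h3 : Nat.card ↥(Vi ⊓ A) ≤ Nat.card ↥(Vi ⊓ Subgroup.centralizer (E : Set G)) :=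
      Subgroup.card_le_of_le fun x hx => ⟨hx.1, mem_centralizer_set_iff.2 fun e he => hA.2.1.1 e he.1 x hx.2⟩
    rw [show Nat.card Vi = Nat.card V from card_cnj _ V] at h1
    have hpos : 0 < Nat.card E * Nat.card ↥(Vi ⊓ Subgroup.centralizer (E : Set G)) :=
      Nat.mul_pos Nat.card_pos Nat.card_pos
    refine Nat.le_of_mul_le_mul_left ?_ hpos
    calc Nat.card E * Nat.card ↥(Vi ⊓ Subgroup.centralizer (E : Set G)) * Nat.card E
        = Nat.card E ^ 2 * Nat.card ↥(Vi ⊓ Subgroup.centralizer (E : Set G)) := by ring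
      _ ≤ Nat.card V * ec ^ 2 := h2
      _ = Nat.card V * ec * ec := by ring
      _ ≤ 2 * Nat.card E * Nat.card ↥(Vi ⊓ A) * ec := Nat.mul_le_mul_right _ h1
      _ ≤ 2 * Nat.card E * Nat.card ↥(Vi ⊓ Subgroup.centralizer (E : Set G)) * ec :=
          Nat.mul_le_mul_right _ (Nat.mul_le_mul_left _ h3)
      _ = _ := by ring
  -- the inequality on `W`
  have hmovei : ∀ e ∈ E, e ∉ Subgroup.centralizer (W : Set G) →
      ∃ i : ℤ, e ∉ Subgroup.centralizer ((cnj (u ^ i) V : Subgroup G) : Set G) := by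
    intro e _ he
    by_contra hno
    push Not at hno
    refine he (Subgroup.le_centralizer_iff.1 ((Subgroup.closure_le _).2 fun x hx => ?_) (Subgroup.mem_zpowers e))
    obtain ⟨i, hi⟩ := Set.mem_iUnion.1 hx
    refine mem_centralizer_set_iff.2 fun y hy => ?_
    obtain ⟨k, rfl⟩ := Subgroup.mem_zpowers_iff.1 hy
    exact ((mem_centralizer_set_iff.1 (hno i) x hi).zpow_right k).symm
  have hsqW : ∀ E' : Subgroup G, E' ≤ E → Nat.card E' ^ 2 * Nat.card ↥(W ⊓ Subgroup.centralizer (E' : Set G)) ≤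
      Nat.card W * Nat.card ↥(E' ⊓ Subgroup.centralizer (W : Set G)) ^ 2 := by
    intro E'
    induction hn : Nat.card E' using Nat.strong_induction_on generalizing E' with
    | _ n ih =>
    intro hE'
    subst hn
    by_cases hc : E' ≤ Subgroup.centralizer (W : Set G)
    · rw [inf_eq_left.2 hc, mul_comm]
      exact Nat.mul_le_mul_right _ (Subgroup.card_le_of_le inf_le_left)
    obtain ⟨e, he, he'⟩ := SetLike.not_le_iff_exists.1 hc
    obtain ⟨i, hi⟩ := hmovei e (hE' he) he'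
    set Vi := cnj (u ^ i) V with hVi
    set CVi := Subgroup.centralizer ((Vi : Subgroup G) : Set G)
    set E1 := E' ⊓ CVi with hE1
    have hlt : Nat.card E1 < Nat.card E' := Set.Finite.card_lt_card (Set.toFinite _)
      (lt_of_le_of_ne inf_le_left fun h => hi (h.ge he).2)
    have h2E : Nat.card E' ≤ 2 * Nat.card E1 := by
      have h := card_mul_card_le (U := E) hE' (inf_le_left : E ⊓ CVi ≤ E)
      rw [← inf_assoc, inf_eq_left.2 hE'] at h
      refine Nat.le_of_mul_le_mul_left ?_ (Nat.card_pos (α := ↥(E ⊓ CVi)))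
      calc Nat.card ↥(E ⊓ CVi) * Nat.card E' = Nat.card E' * Nat.card ↥(E ⊓ CVi) := mul_comm _ _
        _ ≤ Nat.card E * Nat.card E1 := h
        _ ≤ 2 * Nat.card ↥(E ⊓ CVi) * Nat.card E1 := Nat.mul_le_mul_right _ (hei i)
        _ = _ := by ring
    have ih' := ih _ hlt E1 rfl (inf_le_left.trans hE')
    set Dd := W ⊓ Subgroup.centralizer (E1 : Set G) with hDd
    have hViD : Vi ≤ Dd := le_inf (hVW i) (Subgroup.le_centralizer_iff.1 inf_le_right)
    have h4 := D.four_le (u ^ i) (hEi i (hE' he)) (hEsq _ e (hE' he)) hi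
    have hD4 : 4 * Nat.card ↥(Dd ⊓ Subgroup.centralizer {e}) ≤ Nat.card Dd := by
      have h := card_mul_card_le (U := Dd) hViD (inf_le_left : Dd ⊓ Subgroup.centralizer {e} ≤ Dd)
      rw [← inf_assoc, inf_eq_left.2 hViD, show Nat.card Vi = Nat.card V from card_cnj _ V] at h
      refine Nat.le_of_mul_le_mul_left ?_ (Nat.card_pos (α := ↥(Vi ⊓ Subgroup.centralizer {e})))
      calc Nat.card ↥(Vi ⊓ Subgroup.centralizer {e}) * (4 * Nat.card ↥(Dd ⊓ Subgroup.centralizer {e}))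
          = 4 * Nat.card ↥(Vi ⊓ Subgroup.centralizer {e}) * Nat.card ↥(Dd ⊓ Subgroup.centralizer {e}) := by ring
        _ ≤ Nat.card V * Nat.card ↥(Dd ⊓ Subgroup.centralizer {e}) := Nat.mul_le_mul_right _ h4
        _ ≤ _ := h
        _ = _ := by ring
    have hsub : W ⊓ Subgroup.centralizer (E' : Set G) ≤ Dd ⊓ Subgroup.centralizer {e} := fun x hx =>
      ⟨⟨hx.1, Subgroup.centralizer_le (inf_le_left : E1 ≤ E') hx.2⟩,
        Subgroup.centralizer_le (Set.singleton_subset_iff.2 (show e ∈ (E' : Set G) from he)) hx.2⟩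
    calc Nat.card E' ^ 2 * Nat.card ↥(W ⊓ Subgroup.centralizer (E' : Set G))
        ≤ (2 * Nat.card E1) ^ 2 * Nat.card ↥(Dd ⊓ Subgroup.centralizer {e}) :=
          Nat.mul_le_mul (Nat.pow_le_pow_left h2E 2) (Subgroup.card_le_of_le hsub)
      _ = Nat.card E1 ^ 2 * (4 * Nat.card ↥(Dd ⊓ Subgroup.centralizer {e})) := by ring
      _ ≤ Nat.card E1 ^ 2 * Nat.card Dd := Nat.mul_le_mul_left _ hD4
      _ ≤ _ := ih'
      _ ≤ _ := Nat.mul_le_mul_left _ (Nat.pow_le_pow_left (Subgroup.card_le_of_le (inf_le_inf_right _ inf_le_left)) 2)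
  -- all fixed point groups coincide
  set EC := E ⊓ Subgroup.centralizer (W : Set G) with hEC
  set Cw := W ⊓ Subgroup.centralizer {a} with hCw
  set CE := W ⊓ Subgroup.centralizer (E : Set G) with hCE
  have hWA : W ⊓ A ≤ Cw := inf_le_inf_left _ fun x hx => mem_centralizer_singleton'.2 (hA.2.1.1 a haA x hx)
  have hWE : W ⊓ A ≤ CE := inf_le_inf_left _ fun x hx =>
    mem_centralizer_set_iff.2 fun e he => hA.2.1.1 e he.1 x hx
  have h1 := hcompet W hWEA hWT Subgroup.le_normalizer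
  have h2 := hsqW E le_rfl
  have hdw := Subgroup.card_le_of_le hWA
  have hdf := Subgroup.card_le_of_le hWE
  have hEpos : 0 < Nat.card E := Nat.card_pos
  have hCEpos : 0 < Nat.card CE := Nat.card_pos
  have hECpos : 0 < Nat.card EC := Nat.card_pos
  have hWApos : 0 < Nat.card ↥(W ⊓ A) := Nat.card_pos
  have hE2 : Nat.card E ≤ 2 * Nat.card EC := by
    refine Nat.le_of_mul_le_mul_left ?_ (Nat.mul_pos hEpos hCEpos)
    calc Nat.card E * Nat.card CE * Nat.card E = Nat.card E ^ 2 * Nat.card CE := by ring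
      _ ≤ Nat.card W * Nat.card EC ^ 2 := h2
      _ = Nat.card W * Nat.card EC * Nat.card EC := by ring
      _ ≤ 2 * Nat.card E * Nat.card ↥(W ⊓ A) * Nat.card EC := Nat.mul_le_mul_right _ h1
      _ ≤ 2 * Nat.card E * Nat.card CE * Nat.card EC := Nat.mul_le_mul_right _ (Nat.mul_le_mul_left _ hdf)
      _ = _ := by ring
  have hWd : Nat.card W ≤ 4 * Nat.card ↥(W ⊓ A) := by
    refine Nat.le_of_mul_le_mul_right ?_ hECpos
    calc Nat.card W * Nat.card EC ≤ 2 * Nat.card E * Nat.card ↥(W ⊓ A) := h1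
      _ ≤ 2 * (2 * Nat.card EC) * Nat.card ↥(W ⊓ A) := Nat.mul_le_mul_right _ (Nat.mul_le_mul_left _ hE2)
      _ = _ := by ring
  have hECE : 2 * Nat.card EC ≤ Nat.card E := by
    refine Nat.le_of_mul_le_mul_right ?_ (Nat.mul_pos (show 0 < 2 by norm_num) hWApos)
    calc 2 * Nat.card EC * (2 * Nat.card ↥(W ⊓ A)) = Nat.card EC * (4 * Nat.card ↥(W ⊓ A)) := by ring
      _ ≤ Nat.card EC * Nat.card W := Nat.mul_le_mul_left _ ((Nat.mul_le_mul_left 4 hdw).trans h4a)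
      _ ≤ 2 * Nat.card E * Nat.card ↥(W ⊓ A) := by rw [mul_comm]; exact h1
      _ = _ := by ring
  have hEeq : Nat.card E = 2 * Nat.card EC := le_antisymm hE2 hECE
  have hCwA : W ⊓ A = Cw := Subgroup.eq_of_le_of_card_ge hWA (by
    refine Nat.le_of_mul_le_mul_left (h4a.trans hWd) (show 0 < 4 by norm_num))
  have hCEA : W ⊓ A = CE := Subgroup.eq_of_le_of_card_ge hWE (by
    refine Nat.le_of_mul_le_mul_left ?_ (Nat.mul_pos (show 0 < 4 by norm_num) (pow_pos hECpos 2))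
    calc 4 * Nat.card EC ^ 2 * Nat.card CE = (2 * Nat.card EC) ^ 2 * Nat.card CE := by ring
      _ = Nat.card E ^ 2 * Nat.card CE := by rw [hEeq]
      _ ≤ Nat.card W * Nat.card EC ^ 2 := h2
      _ ≤ 4 * Nat.card ↥(W ⊓ A) * Nat.card EC ^ 2 := Nat.mul_le_mul_right _ hWd
      _ = _ := by ring)
  have hW4 : Nat.card W = 4 * Nat.card Cw := le_antisymm (by rw [← hCwA]; exact hWd) h4a
  have hCwE : CE = Cw := hCEA.symm.trans hCwA
  obtain ⟨e₀, he₀, he₀'⟩ : ∃ e ∈ E, e ∉ Subgroup.centralizer (W : Set G) := by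
    by_contra hno
    push Not at hno
    have : EC = E := inf_eq_left.2 hno
    rw [this] at hEeq
    omega
  have hWe : W ⊓ Subgroup.centralizer {e₀} = Cw := by
    refine le_antisymm ?_ (hCwE ▸ inf_le_inf_left _ (Subgroup.centralizer_le (Set.singleton_subset_iff.2 he₀)))
    rw [← hCwE]
    refine fun x hx => ⟨hx.1, mem_centralizer_set_iff.2 fun e he => ?_⟩
    have hex : Commute e₀ x := mem_centralizer_singleton'.1 hx.2
    have hcEC : ∀ y ∈ EC, Commute y x := fun y hy => (mem_centralizer_set_iff.1 hy.2 x hx.1).symm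
    by_cases hec : e ∈ EC
    · exact hcEC e hec
    · have h := hcEC _ (mul_inv_mem_of_two (inf_le_left : EC ≤ E) hEeq.le he he₀ hec fun h => he₀' h.2)
      have := h.mul_left hex
      rwa [inv_mul_cancel_right] at this
  -- the common fixed points
  set Cs := Cw ⊓ cnj u Cw with hCs
  have hCw' : cnj u Cw ≤ W := (cnj_mono inf_le_left).trans_eq (cnj_eq_of_mem huW)
  have hu2 : u * a * u⁻¹ = u ^ 2 * a := conj_eq_of_inverted hrel
  have hCsu : ∀ x ∈ Cs, Commute u x := by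
    rintro x ⟨hx, y, hy, rfl⟩
    refine commute_of_sq huo ?_
    have h1 : Commute (u * a * u⁻¹) (u * y * u⁻¹) :=
      (mem_centralizer_singleton'.1 hy.2).map (MulAut.conj u).toMonoidHom
    have h2 := h1.mul_left (mem_centralizer_singleton'.1 hx.2).inv_left
    rwa [hu2, mul_inv_cancel_right] at h2
  have hCs4 : Nat.card Cw ≤ 4 * Nat.card Cs := by
    have h := card_mul_card_le (U := W) (inf_le_left : Cw ≤ W) hCw'
    rw [card_cnj, hW4, mul_comm 4, mul_assoc] at h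
    exact Nat.le_of_mul_le_mul_left h Nat.card_pos
  obtain ⟨i, hi⟩ := hmovei e₀ he₀ he₀'
  have hVCw : V ≤ Cw := fun v hv => ⟨hVW0 hv, mem_centralizer_singleton'.2 (haVc v hv)⟩
  have hCsV : 4 * Nat.card ↥(V ⊓ Cs) ≤ Nat.card V := by
    refine le_trans (Nat.mul_le_mul_left 4 ?_) (D.four_le (u ^ i) (hEi i he₀) (hEsq _ e₀ he₀) hi)
    rw [← card_cnj (u ^ i) (V ⊓ Cs)]
    refine Subgroup.card_le_of_le ?_
    rintro _ ⟨x, hx, rfl⟩
    have e : u ^ i * x * (u ^ i)⁻¹ = x := commute_iff_conj.1 ((hCsu x hx.2).zpow_left i)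
    refine ⟨conj_mem_cnj hx.1, ?_⟩
    show u ^ i * x * (u ^ i)⁻¹ ∈ _
    rw [e]
    have : x ∈ W ⊓ Subgroup.centralizer {e₀} := hWe.ge hx.2.1
    exact this.2
  have hVnCs : V ≤ Subgroup.normalizer (Cs : Set G) := hVW0.trans fun w hw =>
    Subgroup.centralizer_le_normalizer _ (mem_centralizer_set_iff.2 fun x hx => hWEA.1 x hx.1.1 w hw)
  have hP := CfsgLib.PLoc.card_sup_mul_card_inf hVnCs
  have hCwsup : V ⊔ Cs = Cw := by
    refine Subgroup.eq_of_le_of_card_ge (sup_le hVCw inf_le_left) ?_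
    refine Nat.le_of_mul_le_mul_left ?_ (Nat.card_pos (α := ↥(V ⊓ Cs)))
    calc Nat.card ↥(V ⊓ Cs) * Nat.card Cw ≤ Nat.card ↥(V ⊓ Cs) * (4 * Nat.card Cs) := Nat.mul_le_mul_left _ hCs4
      _ = 4 * Nat.card ↥(V ⊓ Cs) * Nat.card Cs := by ring
      _ ≤ Nat.card V * Nat.card Cs := Nat.mul_le_mul_right _ hCsV
      _ = _ := by rw [← hP, mul_comm]
  have hV4 : Nat.card V ≤ 4 * Nat.card ↥(V ⊓ Cs) := by
    refine Nat.le_of_mul_le_mul_left ?_ (Nat.card_pos (α := Cs))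
    calc Nat.card Cs * Nat.card V = Nat.card Cw * Nat.card ↥(V ⊓ Cs) := by rw [mul_comm, ← hP, hCwsup]
      _ ≤ 4 * Nat.card Cs * Nat.card ↥(V ⊓ Cs) := Nat.mul_le_mul_right _ hCs4
      _ = _ := by ring
  have hCsC : 4 * Nat.card Cs ≤ Nat.card Cw := by
    refine Nat.le_of_mul_le_mul_left ?_ (Nat.card_pos (α := ↥(V ⊓ Cs)))
    calc Nat.card ↥(V ⊓ Cs) * (4 * Nat.card Cs) = 4 * Nat.card ↥(V ⊓ Cs) * Nat.card Cs := by ring
      _ ≤ Nat.card V * Nat.card Cs := Nat.mul_le_mul_right _ hCsV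
      _ = _ := by rw [← hP, hCwsup, mul_comm]
  have hWn : cnj u Cw ≤ Subgroup.normalizer (Cw : Set G) := hCw'.trans fun w hw =>
    Subgroup.centralizer_le_normalizer _ (mem_centralizer_set_iff.2 fun x hx => hWEA.1 x hx.1 w hw)
  have hP' := CfsgLib.PLoc.card_sup_mul_card_inf hWn
  have hWsup : cnj u Cw ⊔ Cw = W := by
    refine Subgroup.eq_of_le_of_card_ge (sup_le hCw' inf_le_left) ?_
    rw [inf_comm, ← hCs, card_cnj] at hP'
    refine Nat.le_of_mul_le_mul_right ?_ (Nat.card_pos (α := Cs))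
    rw [hP', hW4]
    calc 4 * Nat.card Cw * Nat.card Cs = Nat.card Cw * (4 * Nat.card Cs) := by ring
      _ ≤ _ := Nat.mul_le_mul_left _ hCsC
  -- the group acting on both halves
  set Q₁ := Q₀ ⊓ Subgroup.centralizer (Cs : Set G) with hQ₁
  set K₂ := Q₁ ⊓ Subgroup.centralizer (W : Set G) with hK₂
  have huCs : u ∈ Subgroup.centralizer (Cs : Set G) :=
    mem_centralizer_set_iff.2 fun x hx => (hCsu x hx).symm
  have haCs : a ∈ Subgroup.centralizer (Cs : Set G) :=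
    mem_centralizer_set_iff.2 fun x hx => (mem_centralizer_singleton'.1 hx.1.2).symm
  have hinfn : ∀ g : G, g ∈ Subgroup.normalizer (Q₀ : Set G) → g ∈ Subgroup.centralizer (Cs : Set G) →
      g ∈ Subgroup.normalizer (Q₁ : Set G) := fun g h1 h2 =>
    Subgroup.inf_normalizer_le_normalizer_inf ⟨h1, Subgroup.le_normalizer h2⟩
  have hcentn : ∀ g : G, g ∈ Subgroup.normalizer (W : Set G) →
      g ∈ Subgroup.normalizer ((Subgroup.centralizer (W : Set G) : Subgroup G) : Set G) := fun g hg => by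
    rw [Subgroup.mem_normalizer_iff_map_conj_eq]
    exact (cnj_centralizer g W).trans (by rw [cnj_eq_of_mem hg])
  have hQ₁K : Q₁ ≤ Subgroup.normalizer (K₂ : Set G) := fun g hg =>
    Subgroup.inf_normalizer_le_normalizer_inf ⟨Subgroup.le_normalizer hg, hcentn g (hQW hg.1)⟩
  have huQ₁ := hinfn u hun huCs
  have haQ₁ := hinfn a han haCs
  have huK₂ : u ∈ Subgroup.normalizer (K₂ : Set G) :=
    Subgroup.inf_normalizer_le_normalizer_inf ⟨huQ₁, hcentn u huW⟩
  have haK₂ : a ∈ Subgroup.normalizer (K₂ : Set G) :=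
    Subgroup.inf_normalizer_le_normalizer_inf ⟨haQ₁, hcentn a haW⟩
  have he₀Q : e₀ ∈ Q₁ := ⟨he₀.2, mem_centralizer_set_iff.2 fun x hx =>
    (mem_centralizer_singleton'.1 (hWe.ge hx.1).2).symm⟩
  have hmove₂ : ∃ x ∈ Q₁, u * x * u⁻¹ * x⁻¹ ∉ K₂ := by
    refine ⟨e₀, he₀Q, fun h => ?_⟩
    have hle : cnj u Cw ≤ Cw := by
      rintro _ ⟨x, hx, rfl⟩
      have hx' : u * x * u⁻¹ ∈ W := hCw' ⟨x, hx, rfl⟩
      rw [← hWe]
      refine ⟨hx', mem_centralizer_singleton'.2 ?_⟩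
      have h1 : Commute (u * e₀ * u⁻¹) (u * x * u⁻¹) :=
        (mem_centralizer_singleton'.1 (hWe.ge hx).2).map (MulAut.conj u).toMonoidHom
      have h2 : Commute (u * e₀ * u⁻¹ * e₀⁻¹) (u * x * u⁻¹) :=
        (mem_centralizer_set_iff.1 h.2 _ hx').symm
      have h3 := (h2.inv_left).mul_left h1
      simpa [mul_assoc] using h3
    have : Cs = Cw := inf_eq_left.2 (Subgroup.eq_of_le_of_card_ge hle (card_cnj u Cw).ge).ge
    rw [this] at hCsC
    have : 0 < Nat.card Cw := Nat.card_pos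
    omega
  -- the kernel has index at most four
  set CV := Subgroup.centralizer ((V : Subgroup G) : Set G)
  have hQ₁T : Q₁ ≤ T := inf_le_left.trans hQT
  have hfixQ : V ⊓ Cs ≤ V ⊓ Subgroup.centralizer (Q₁ : Set G) := fun x hx =>
    ⟨hx.1, mem_centralizer_set_iff.2 fun q hq => (mem_centralizer_set_iff.1 hq.2 x hx.2).symm⟩
  have hQV2 : Nat.card Q₁ ≤ 2 * Nat.card ↥(Q₁ ⊓ CV) := by
    have h := D.sq 1 Q₁ (by rwa [cnj_one]) (fun q hq => D.sq_mem (g := 1) (by rw [cnj_one]; exact hQ₁T hq)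
      (V₀ := V ⊓ Cs) (by rw [cnj_one]; exact inf_le_left) hV4
      fun x hx => (mem_centralizer_set_iff.1 hq.2 x hx.2).symm)
    rw [cnj_one] at h
    refine (Nat.pow_le_pow_iff_left two_ne_zero).1 ?_
    refine Nat.le_of_mul_le_mul_left ?_ (Nat.card_pos (α := ↥(V ⊓ Cs)))
    calc Nat.card ↥(V ⊓ Cs) * Nat.card Q₁ ^ 2
        ≤ Nat.card ↥(V ⊓ Subgroup.centralizer (Q₁ : Set G)) * Nat.card Q₁ ^ 2 :=
          Nat.mul_le_mul_right _ (Subgroup.card_le_of_le hfixQ)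
      _ = Nat.card Q₁ ^ 2 * Nat.card ↥(V ⊓ Subgroup.centralizer (Q₁ : Set G)) := mul_comm _ _
      _ ≤ Nat.card V * Nat.card ↥(Q₁ ⊓ CV) ^ 2 := h
      _ ≤ 4 * Nat.card ↥(V ⊓ Cs) * Nat.card ↥(Q₁ ⊓ CV) ^ 2 := Nat.mul_le_mul_right _ hV4
      _ = _ := by ring
  have hbound : Nat.card Q₁ ≤ 4 * Nat.card K₂ := by
    have h := card_mul_card_le (U := Q₁) (inf_le_left : Q₁ ⊓ CV ≤ Q₁)
      ((cnj_mono inf_le_left).trans_eq (cnj_eq_of_mem huQ₁) : cnj u (Q₁ ⊓ CV) ≤ Q₁)
    rw [card_cnj] at h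
    have hsub : Q₁ ⊓ CV ⊓ cnj u (Q₁ ⊓ CV) ≤ K₂ := by
      intro q hq
      refine ⟨hq.1.1, ?_⟩
      have hq2 : q ∈ Subgroup.centralizer ((cnj u V : Subgroup G) : Set G) := by
        have := hq.2
        rw [cnj_inf, cnj_centralizer] at this
        exact this.2
      have hqCs : cnj u Cs ≤ Subgroup.centralizer (Subgroup.zpowers q : Set G) := by
        rintro _ ⟨x, hx, rfl⟩
        rw [Subgroup.zpowers_eq_closure, Subgroup.centralizer_closure]
        refine mem_centralizer_singleton'.2 ?_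
        show Commute q (u * x * u⁻¹)
        rw [commute_iff_conj.1 (hCsu x hx)]
        exact (mem_centralizer_set_iff.1 hq.1.1.2 x hx).symm
      have hW' : W ≤ Subgroup.centralizer (Subgroup.zpowers q : Set G) := by
        have hV' : ∀ X : Subgroup G, q ∈ Subgroup.centralizer (X : Set G) →
            X ≤ Subgroup.centralizer (Subgroup.zpowers q : Set G) := fun X hX x hx => by
          rw [Subgroup.zpowers_eq_closure, Subgroup.centralizer_closure]
          exact mem_centralizer_singleton'.2 (mem_centralizer_set_iff.1 hX x hx).symm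
        rw [← hWsup, ← hCwsup, cnj, Subgroup.map_sup]
        exact sup_le (sup_le (hV' _ hq2) hqCs) (sup_le (hV' _ hq.1.2) (hV' _ hq.1.1.2))
      exact Subgroup.le_centralizer_iff.1 hW' (Subgroup.mem_zpowers q)
    refine Nat.le_of_mul_le_mul_left ?_ (Nat.card_pos (α := Q₁))
    calc Nat.card Q₁ * Nat.card Q₁ ≤ 2 * Nat.card ↥(Q₁ ⊓ CV) * (2 * Nat.card ↥(Q₁ ⊓ CV)) :=
          Nat.mul_le_mul hQV2 hQV2
      _ = 4 * (Nat.card ↥(Q₁ ⊓ CV) * Nat.card ↥(Q₁ ⊓ CV)) := by ring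
      _ ≤ 4 * (Nat.card Q₁ * Nat.card K₂) :=
          Nat.mul_le_mul_left _ (h.trans (Nat.mul_le_mul_left _ (Subgroup.card_le_of_le hsub)))
      _ = _ := by ring
  refine false_of_le_four hfree (D.hT.to_le hQ₁T) (inf_le_left.trans hQH) inf_le_left hQ₁K hbound
    (hTH (hA.1 haA)) huH haQ₁ haK₂ huQ₁ huK₂ huo (fun x _ => ?_) hmove₂
  rw [hrel, inv_mul_cancel, one_mul, inv_one, mul_one, mul_inv_cancel]
  exact one_mem _

end CfsgLib.FGS68
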