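import Cfsg.Agent.S2759
import Cfsg.Agent.Lib.PLocal.PSolvable
import Cfsg.Agent.Lib.PLocal.GlaubermanReplacement
import Cfsg.Agent.Lib.Solvable.CoprimeGeneration
import Cfsg.Agent.Lib.Solvable.Core
import Cfsg.Agent.Lib.Transfer.ThompsonFactor
import Mathlib

/-!
Consequences of the absence of sections isomorphic to `S₄` for 2-groups acted on by an inverted
element of odd order, and the resulting strong inequality for modules.
-/

set_option autoImplicit false
set_option linter.style.haveILetI false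

open Cfsg

namespace CfsgLib.FGS68

open scoped Pointwise

variable {G : Type*} [Group G] [Finite G]

theorem odd_lift {Q : Type*} [Group Q] (π : G →* Q) {x : G} (hx : Odd (orderOf (π x))) :
    ∃ k : ℕ, π (x ^ k) = π x ∧ Odd (orderOf (x ^ k)) := by
  obtain ⟨e, o, ho, heo⟩ := Nat.exists_eq_pow_mul_and_not_dvd (orderOf_pos x).ne' 2 (by norm_num)
  have hcop : (2 ^ e).Coprime (orderOf (π x)) := Nat.Coprime.pow_left e (Nat.coprime_two_left.2 hx)
  obtain ⟨m, hm⟩ := exists_pow_eq_self_of_coprime hcop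
  refine ⟨2 ^ e * m, by rw [map_pow, pow_mul, hm], ?_⟩
  have h1 : orderOf (x ^ (2 ^ e * m)) ∣ o := by
    refine orderOf_dvd_of_pow_eq_one ?_
    rw [← pow_mul, show 2 ^ e * m * o = (2 ^ e * o) * m by ring, ← heo, pow_mul, pow_orderOf_eq_one, one_pow]
  exact (Nat.odd_iff.2 (Nat.two_dvd_ne_zero.1 ho)).of_dvd_nat h1

omit [Finite G] in
/-- An element of odd order fixed by its square. -/
theorem commute_of_sq {u x : G} (hu : Odd (orderOf u)) (h : Commute (u ^ 2) x) : Commute u x := by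
  obtain ⟨m, hm⟩ := hu
  have : (u ^ 2) ^ (m + 1) = u := by
    rw [← pow_mul, show 2 * (m + 1) = orderOf u + 1 by omega, pow_succ, pow_orderOf_eq_one, one_mul]
  rw [← this]
  exact h.pow_left _

/-- Perm of three points: two noncommuting elements generate. -/
theorem perm_three_top (R : Subgroup (Equiv.Perm (Fin 3))) {s t : Equiv.Perm (Fin 3)} (hs : s ∈ R)
    (ht : t ∈ R) (hst : s * t ≠ t * s) : R = ⊤ := by
  have hd : Nat.card R ∣ 6 := by
    have := Subgroup.card_subgroup_dvd_card R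
    rwa [Nat.card_perm, Nat.card_fin, show Nat.factorial 3 = 6 from rfl] at this
  have h6 : Nat.card R = 6 := by
    have hle := Nat.le_of_dvd (by norm_num) hd
    by_contra hne
    haveI hcyc : IsCyclic R := by
      have h0 : 0 < Nat.card R := Nat.card_pos
      interval_cases hc : Nat.card R
      · exact @isCyclic_of_subsingleton R _ (Nat.card_eq_one_iff_unique.1 hc).1
      · haveI := Fact.mk Nat.prime_two
        exact isCyclic_of_prime_card hc
      · haveI := Fact.mk Nat.prime_three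
        exact isCyclic_of_prime_card hc
      all_goals (first | (exact absurd rfl hne) | norm_num at hd)
    letI := IsCyclic.commGroup (α := R)
    exact hst (congrArg Subtype.val (mul_comm (⟨s, hs⟩ : R) ⟨t, ht⟩))
  refine Subgroup.eq_top_of_card_eq R ?_
  rw [h6, Nat.card_perm, Nat.card_fin]
  rfl

/-- A group of order four with an inverted fixed-point moving automorphism of odd order gives `S₄`. -/
theorem involves_four_of_quotient {Γ : Type*} [Group Γ] [Finite Γ] {T : Subgroup Γ} (hT : Nat.card T = 4)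
    {a u : Γ} (ha : a ∈ Subgroup.normalizer (T : Set Γ)) (hu : u ∈ Subgroup.normalizer (T : Set Γ))
    (huo : Odd (orderOf u)) (hrel : a * u * a⁻¹ * u ∈ Subgroup.centralizer (T : Set Γ))
    (hne : u ∉ Subgroup.centralizer (T : Set Γ)) : Involves (Equiv.Perm (Fin 4)) Γ := by
  classical
  set N := Subgroup.normalizer (T : Set Γ) with hN
  set C := (Subgroup.centralizer (T : Set Γ)).subgroupOf N with hC
  let S := {t : T // t ≠ 1}
  have hS : Nat.card S = 3 := by
    haveI := Fintype.ofFinite T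
    have h1 : Fintype.card T = 4 := by rw [← Nat.card_eq_fintype_card]; exact hT
    rw [Nat.card_eq_fintype_card, Fintype.card_subtype_compl, h1, Fintype.card_subtype_eq]
  letI : MulAction N S :=
    { smul := fun n t => ⟨⟨(n : Γ) * (t.1 : Γ) * (n : Γ)⁻¹, (Subgroup.mem_normalizer_iff.1 n.2 _).1 t.1.2⟩,
        fun h => t.2 (Subtype.ext (conj_eq_one_iff.1 (congrArg Subtype.val h)))⟩
      one_smul := fun t => Subtype.ext (Subtype.ext (show (1 : Γ) * t.1 * (1 : Γ)⁻¹ = t.1 by simp))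
      mul_smul := fun m n t => Subtype.ext (Subtype.ext
        (show ((m * n : N) : Γ) * t.1 * ((m * n : N) : Γ)⁻¹ = (m : Γ) * ((n : Γ) * t.1 * (n : Γ)⁻¹) * (m : Γ)⁻¹ by
          simp [mul_assoc])) }
  obtain ⟨e⟩ : Nonempty (S ≃ Fin 3) := ⟨(Finite.equivFinOfCardEq hS)⟩
  let f : N →* Equiv.Perm (Fin 3) := e.permCongrHom.toMonoidHom.comp (MulAction.toPermHom N S)
  have hker : f.ker = C := by
    ext n
    rw [MonoidHom.mem_ker, Subgroup.mem_subgroupOf, Subgroup.mem_centralizer_iff]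
    constructor
    · intro h t ht
      by_cases ht1 : t = 1
      · simp [ht1]
      have h1 : MulAction.toPermHom N S n = 1 := e.permCongrHom.injective (h.trans (map_one _).symm)
      have h2 := congrArg (fun q : Equiv.Perm S => ((q ⟨⟨t, ht⟩, fun h => ht1 (congrArg Subtype.val h)⟩).1 : Γ)) h1
      exact (mul_inv_eq_iff_eq_mul.1 (show (n : Γ) * t * (n : Γ)⁻¹ = t from h2)).symm
    · intro h
      have h1 : MulAction.toPermHom N S n = 1 := Equiv.ext fun t => Subtype.ext (Subtype.ext (by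
        show (n : Γ) * t.1 * (n : Γ)⁻¹ = t.1
        rw [← h t.1 t.1.2, mul_inv_cancel_right]))
      show e.permCongrHom (MulAction.toPermHom N S n) = 1
      rw [h1, map_one]
  set s := f ⟨u, hu⟩
  set t := f ⟨a, ha⟩
  have hst : s * t ≠ t * s := by
    intro h
    have h1 : f (⟨a, ha⟩ * ⟨u, hu⟩ * ⟨a, ha⟩⁻¹ * ⟨u, hu⟩) = 1 := MonoidHom.mem_ker.1 (hker ▸ hrel)
    rw [map_mul, map_mul, map_mul, map_inv] at h1
    change t * s * t⁻¹ * s = 1 at h1
    rw [← h, mul_inv_cancel_right] at h1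
    obtain ⟨m, hm⟩ := huo
    have h2 : (⟨u, hu⟩ : N) ^ (orderOf u) = 1 := Subtype.ext (pow_orderOf_eq_one u)
    have h3 := congrArg f h2
    rw [map_pow, map_one, hm, pow_succ, pow_mul, show f ⟨u, hu⟩ ^ 2 = 1 by rw [pow_two]; exact h1,
      one_pow, one_mul] at h3
    exact hne (Subgroup.mem_subgroupOf.1 (hker ▸ MonoidHom.mem_ker.2 h3))
  have hsurj : Function.Surjective f := MonoidHom.range_eq_top.1 (perm_three_top _ ⟨_, rfl⟩ ⟨_, rfl⟩ hst)
  haveI : C.Normal := hker ▸ f.normal_ker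
  refine Cfsg.Agent.S2759.backward T (IsPGroup.of_card (n := 2) (by rw [hT]; norm_num)) ?_
  let g : N ⧸ C →* Equiv.Perm (Fin 3) := QuotientGroup.lift C f hker.ge
  refine CfsgLib.LocalEven.involves_of_surjective ⊤ (g.comp (Subgroup.topEquiv.toMonoidHom)) fun q => ?_
  obtain ⟨n, rfl⟩ := hsurj q
  exact ⟨⟨(n : N ⧸ C), Subgroup.mem_top _⟩, rfl⟩

omit [Finite G] in
theorem involves_of_injective {H : Type*} [Group H] {Γ : Type*} [Group Γ] (f : Γ →* G)
    (hf : Function.Injective f) (h : Involves H Γ) : Involves H G := by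
  obtain ⟨K, g, hg⟩ := CfsgLib.LocalEven.exists_surjective_of_involves h
  exact CfsgLib.LocalEven.involves_of_surjective (K.map f)
    (g.comp (K.equivMapOfInjective f hf).symm.toMonoidHom) (hg.comp (MulEquiv.surjective _))

omit [Finite G] in
theorem involves_of_quotient {H : Type*} [Group H] {Γ : Type*} [Group Γ] (f : G →* Γ)
    (hf : Function.Surjective f) (h : Involves H Γ) : Involves H G := by
  obtain ⟨K, g, hg⟩ := CfsgLib.LocalEven.exists_surjective_of_involves h
  refine CfsgLib.LocalEven.involves_of_surjective (K.comap f)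
    (g.comp ((f.comp (K.comap f).subtype).codRestrict K fun z => z.2)) (hg.comp ?_)
  rintro ⟨k, hk⟩
  obtain ⟨x, rfl⟩ := hf k
  exact ⟨⟨x, hk⟩, rfl⟩

/-- A section of order four with a moving inverted element of odd order. -/
theorem false_of_four {H U K : Subgroup G} (hfree : ¬ Involves (Equiv.Perm (Fin 4)) H)
    (hUH : U ≤ H) (hKU : K ≤ U) (hUK : U ≤ Subgroup.normalizer (K : Set G))
    (hcard : Nat.card U = 4 * Nat.card K) {a u : G} (haH : a ∈ H) (huH : u ∈ H)
    (haU : a ∈ Subgroup.normalizer (U : Set G)) (haK : a ∈ Subgroup.normalizer (K : Set G))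
    (huU : u ∈ Subgroup.normalizer (U : Set G)) (huK : u ∈ Subgroup.normalizer (K : Set G))
    (huo : Odd (orderOf u))
    (hrel : ∀ x ∈ U, a * u * a⁻¹ * u * x * (a * u * a⁻¹ * u)⁻¹ * x⁻¹ ∈ K)
    (hmove : ∃ x ∈ U, u * x * u⁻¹ * x⁻¹ ∉ K) : False := by
  classical
  set Γ := H ⊓ Subgroup.normalizer (K : Set G) with hΓ
  set K' := K.subgroupOf Γ with hK'
  haveI : K'.Normal := Subgroup.normal_subgroupOf_of_le_normalizer inf_le_right
  set π := QuotientGroup.mk' K'
  set T := (U.subgroupOf Γ).map π with hT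
  have hUΓ : U ≤ Γ := le_inf hUH hUK
  have hTcard : Nat.card T = 4 := by
    rw [hT, ← Subgroup.relIndex_ker, QuotientGroup.ker_mk', hK', Subgroup.relIndex_subgroupOf hUΓ]
    have := Subgroup.relIndex_mul_relIndex ⊥ K U bot_le hKU
    rw [Subgroup.relIndex_bot_left, Subgroup.relIndex_bot_left, hcard, mul_comm] at this
    exact Nat.eq_of_mul_eq_mul_right Nat.card_pos this
  have hnorm : ∀ g : Γ, (g : G) ∈ Subgroup.normalizer (U : Set G) → π g ∈ Subgroup.normalizer (T : Set (Γ ⧸ K')) := by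
    intro g hg
    refine Subgroup.le_normalizer_map π ⟨g, ?_, rfl⟩
    rw [SetLike.mem_coe, Subgroup.mem_normalizer_iff]
    intro x
    rw [Subgroup.mem_subgroupOf, Subgroup.mem_subgroupOf]
    exact Subgroup.mem_normalizer_iff.1 hg x
  have hcent : ∀ g : Γ, π g ∈ Subgroup.centralizer (T : Set (Γ ⧸ K')) ↔
      ∀ x ∈ U, (g : G) * x * (g : G)⁻¹ * x⁻¹ ∈ K := by
    intro g
    rw [Subgroup.mem_centralizer_iff]
    constructor
    · intro h x hx
      have h1 := h (π ⟨x, hUΓ hx⟩) ⟨⟨x, hUΓ hx⟩, hx, rfl⟩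
      have h2 : π (g * ⟨x, hUΓ hx⟩ * g⁻¹ * ⟨x, hUΓ hx⟩⁻¹) = 1 := by
        simp only [map_mul, map_inv, ← h1]; simp
      exact Subgroup.mem_subgroupOf.1 ((QuotientGroup.eq_one_iff _).1 h2)
    · rintro h _ ⟨x, hx, rfl⟩
      have h2 : π (g * x * g⁻¹ * x⁻¹) = 1 :=
        (QuotientGroup.eq_one_iff _).2 (Subgroup.mem_subgroupOf.2 (h x hx))
      rw [map_mul, map_mul, map_mul, map_inv, map_inv, mul_inv_eq_one, mul_inv_eq_iff_eq_mul] at h2
      exact h2.symm
  set a' : Γ := ⟨a, haH, haK⟩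
  set u' : Γ := ⟨u, huH, huK⟩
  refine hfree (involves_of_injective (Subgroup.inclusion (inf_le_left : Γ ≤ H)) (Subgroup.inclusion_injective _)
    (involves_of_quotient π (QuotientGroup.mk'_surjective K')
      (involves_four_of_quotient (a := π a') (u := π u') hTcard (hnorm _ haU) (hnorm _ huU) ?_ ?_ ?_)))
  · refine huo.of_dvd_nat ((orderOf_map_dvd π u').trans ?_)
    rw [← Subgroup.orderOf_coe]
  · rw [← map_inv, ← map_mul, ← map_mul, ← map_mul, hcent]
    exact hrel
  · rw [hcent]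
    obtain ⟨x, hx, hx'⟩ := hmove
    exact fun h => hx' (h x hx)

/-- An element of odd order acting trivially modulo a subgroup it centralises is trivial. -/
theorem commute_of_mod {U K : Subgroup G} (hU : IsPGroup 2 U) (hKU : K ≤ U) {u x : G}
    (huK : u ∈ Subgroup.centralizer (K : Set G)) (huo : Odd (orderOf u))
    (h : u * x * u⁻¹ * x⁻¹ ∈ K) : Commute u x := by
  set z := u * x * u⁻¹ * x⁻¹ with hz
  have hzu : Commute u z := (Subgroup.mem_centralizer_iff.1 huK z h).symm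
  have hpow : ∀ n : ℕ, u ^ n * x * (u ^ n)⁻¹ = z ^ n * x := by
    intro n
    induction n with
    | zero => simp
    | succ n ih =>
      calc u ^ (n + 1) * x * (u ^ (n + 1))⁻¹ = u * (u ^ n * x * (u ^ n)⁻¹) * u⁻¹ := by
            simp [pow_succ', mul_assoc]
        _ = u * z ^ n * (x * u⁻¹) := by rw [ih]; simp [mul_assoc]
        _ = z ^ n * (u * x * u⁻¹) := by rw [(hzu.pow_right n).eq]; simp [mul_assoc]
        _ = z ^ (n + 1) * x := by rw [pow_succ, hz]; simp [mul_assoc]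
  have h1 := hpow (orderOf u)
  rw [pow_orderOf_eq_one, inv_one, mul_one, one_mul] at h1
  have h2 : orderOf z ∣ orderOf u := orderOf_dvd_of_pow_eq_one (right_eq_mul.1 h1)
  obtain ⟨e, he⟩ := hU ⟨z, hKU h⟩
  have h3 : orderOf z ∣ 2 ^ e := orderOf_dvd_of_pow_eq_one (congrArg Subtype.val he)
  have hz1 : z = 1 := orderOf_eq_one_iff.1
    (Nat.eq_one_of_dvd_coprimes (Nat.Coprime.pow_left e (Nat.coprime_two_left.2 huo)) h3 h2)
  exact mul_inv_eq_iff_eq_mul.1 (mul_inv_eq_one.1 hz1)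

omit [Finite G] in
/-- Counting an intersection. -/
theorem card_mul_card_le {U C D : Subgroup G} [Finite U] (hC : C ≤ U) (hD : D ≤ U) :
    Nat.card C * Nat.card D ≤ Nat.card U * Nat.card ↥(C ⊓ D) := by
  haveI : Finite C := Finite.of_injective _ (Subgroup.inclusion_injective hC)
  have h1 := Subgroup.relIndex_mul_relIndex ⊥ (C ⊓ D) C bot_le inf_le_left
  rw [Subgroup.relIndex_bot_left, Subgroup.relIndex_bot_left, Subgroup.inf_relIndex_left] at h1
  have h2 := Subgroup.relIndex_mul_relIndex ⊥ D U bot_le hD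
  rw [Subgroup.relIndex_bot_left, Subgroup.relIndex_bot_left] at h2
  haveI : Finite D := Finite.of_injective _ (Subgroup.inclusion_injective hD)
  have hne : D.relIndex U ≠ 0 := fun h => by
    rw [h, mul_zero] at h2
    exact Nat.card_pos.ne' h2.symm
  rw [← h1, ← h2]
  calc Nat.card ↥(C ⊓ D) * D.relIndex C * Nat.card D
      = (Nat.card ↥(C ⊓ D) * Nat.card D) * D.relIndex C := by ring
    _ ≤ (Nat.card ↥(C ⊓ D) * Nat.card D) * D.relIndex U :=
        Nat.mul_le_mul_left _ (Subgroup.relIndex_le_of_le_right hC hne)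
    _ = Nat.card D * D.relIndex U * Nat.card ↥(C ⊓ D) := by ring

omit [Finite G] in
theorem mem_centralizer_singleton' {g x : G} : x ∈ Subgroup.centralizer ({g} : Set G) ↔ Commute g x := by
  rw [Subgroup.mem_centralizer_singleton_iff]
  exact ⟨Eq.symm, Eq.symm⟩

omit [Finite G] in
theorem commute_iff_conj {g x : G} : Commute g x ↔ g * x * g⁻¹ = x := by
  rw [mul_inv_eq_iff_eq_mul]; exact Iff.rfl

/-- A subgroup of index at most two is normalised. -/
theorem le_normalizer_of_two {U C : Subgroup G} (hC : C ≤ U) (h : Nat.card U ≤ 2 * Nat.card C) :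
    U ≤ Subgroup.normalizer (C : Set G) := by
  have hpos : 0 < Nat.card C := Nat.card_pos
  have h1 := Subgroup.card_mul_index (C.subgroupOf U)
  rw [Nat.card_congr (Subgroup.subgroupOfEquivOfLe hC).toEquiv] at h1
  have hle : (C.subgroupOf U).index ≤ 2 := Nat.le_of_mul_le_mul_left (by rw [h1]; linarith) hpos
  have hne : (C.subgroupOf U).index ≠ 0 := Subgroup.index_ne_zero_of_finite
  haveI : (C.subgroupOf U).Normal := by
    rcases (show (C.subgroupOf U).index = 1 ∨ (C.subgroupOf U).index = 2 by omega) with h2 | h2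
    · exact Subgroup.normal_of_index_eq_one h2
    · exact Subgroup.normal_of_index_eq_two h2
  exact Subgroup.normal_subgroupOf_iff_le_normalizer hC |>.1 ‹_›

theorem mul_inv_mem_of_two {U C : Subgroup G} (hC : C ≤ U) (h : Nat.card U ≤ 2 * Nat.card C) {x y : G}
    (hx : x ∈ U) (hy : y ∈ U) (hxC : x ∉ C) (hyC : y ∉ C) : x * y⁻¹ ∈ C := by
  have hpos : 0 < Nat.card C := Nat.card_pos
  have h1 := Subgroup.card_mul_index (C.subgroupOf U)
  rw [Nat.card_congr (Subgroup.subgroupOfEquivOfLe hC).toEquiv] at h1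
  have hle : (C.subgroupOf U).index ≤ 2 := Nat.le_of_mul_le_mul_left (by rw [h1]; linarith) hpos
  have hne : (C.subgroupOf U).index ≠ 0 := Subgroup.index_ne_zero_of_finite
  have h2 : (C.subgroupOf U).index = 2 := by
    by_contra h3
    have h4 : (C.subgroupOf U).index = 1 := by omega
    rw [Subgroup.index_eq_one, Subgroup.subgroupOf_eq_top] at h4
    exact hxC (h4 hx)
  have h5 := (Subgroup.mul_mem_iff_of_index_two h2 (a := ⟨x, hx⟩) (b := ⟨y, hy⟩⁻¹)).2
    (iff_of_false hxC (fun h => hyC ((inv_mem_iff (x := y)).1 (by simpa [Subgroup.mem_subgroupOf] using h))))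
  exact h5

/-- An element of odd order moving a 2-group cannot be inverted by an element centralising a
subgroup of index at most two. -/
theorem four_mul_card_le {H U : Subgroup G} (hfree : ¬ Involves (Equiv.Perm (Fin 4)) H) (hU : IsPGroup 2 U)
    (hUH : U ≤ H) {a u : G} (haH : a ∈ H) (huH : u ∈ H) (haU : a ∈ Subgroup.normalizer (U : Set G))
    (huU : u ∈ Subgroup.normalizer (U : Set G)) (huo : Odd (orderOf u))
    (hrel : a * u * a⁻¹ * u ∈ Subgroup.centralizer (U : Set G)) (hmove : u ∉ Subgroup.centralizer (U : Set G)) :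
    4 * Nat.card ↥(U ⊓ Subgroup.centralizer {a}) ≤ Nat.card U := by
  classical
  haveI : Fact (Nat.Prime 2) := ⟨Nat.prime_two⟩
  by_contra hlt
  push Not at hlt
  set C := U ⊓ Subgroup.centralizer {a} with hC
  set C' := C.map (MulAut.conj u).toMonoidHom with hC'
  set K := C ⊓ Subgroup.centralizer {u} with hK
  set z := a * u * a⁻¹ * u with hz
  have hzfix : ∀ x ∈ U, Commute z x := fun x hx => (Subgroup.mem_centralizer_iff.1 hrel x hx).symm
  have hC'U : C' ≤ U := by
    rintro _ ⟨x, hx, rfl⟩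
    exact (Subgroup.mem_normalizer_iff.1 huU x).1 hx.1
  have hint : C ⊓ C' ≤ K := by
    intro x hx
    obtain ⟨hxC, c, hc, hcx⟩ := hx
    refine ⟨hxC, mem_centralizer_singleton'.2 (commute_of_sq huo ?_)⟩
    have hxU : x ∈ U := hxC.1
    have hax : Commute a x := mem_centralizer_singleton'.1 hxC.2
    have hca : Commute a c := mem_centralizer_singleton'.1 hc.2
    have h1 : Commute (u * a * u⁻¹) x := by
      rw [← hcx]
      exact hca.map (MulAut.conj u).toMonoidHom
    have h2 : Commute (u * a * u⁻¹ * a⁻¹) x := h1.mul_left hax.inv_left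
    have e : u * a * u⁻¹ * a⁻¹ = u ^ 2 * z⁻¹ := by simp [hz, pow_two, mul_assoc]
    rw [e] at h2
    have h3 := h2.mul_left (hzfix x hxU)
    rwa [inv_mul_cancel_right] at h3
  obtain ⟨n, hn⟩ := IsPGroup.iff_card.1 hU
  obtain ⟨c, hc⟩ := IsPGroup.iff_card.1 (hU.to_le (inf_le_left : C ≤ U))
  obtain ⟨k, hk⟩ := IsPGroup.iff_card.1 (hU.to_le (inf_le_left.trans inf_le_left : K ≤ U))
  have hC2 : Nat.card U ≤ 2 * Nat.card C := by
    have h1 : n < c + 2 := (Nat.pow_lt_pow_iff_right (a := 2) (by norm_num)).1 (by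
      rw [hn, hc] at hlt
      calc 2 ^ n < 4 * 2 ^ c := hlt
        _ = 2 ^ (c + 2) := by rw [pow_add]; ring)
    rw [hn, hc, ← pow_succ']
    exact Nat.pow_le_pow_right (by norm_num) (by omega)
  have hCC' : Nat.card C' = Nat.card C :=
    (Nat.card_congr (C.equivMapOfInjective _ (MulAut.conj u).injective).toEquiv).symm
  have hU4 : Nat.card U ≤ 4 * Nat.card K := by
    have h1 := card_mul_card_le (inf_le_left : C ≤ U) hC'U
    rw [hCC'] at h1
    have h2 := Subgroup.card_le_of_le hint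
    have hpos : 0 < Nat.card U := Nat.card_pos
    have h4 : Nat.card U * Nat.card U ≤ 4 * (Nat.card U * Nat.card ↥(C ⊓ C')) := by
      refine (Nat.mul_le_mul hC2 hC2).trans ?_
      linarith
    rw [← mul_assoc, mul_comm 4, mul_assoc] at h4
    exact (Nat.le_of_mul_le_mul_left h4 hpos).trans (Nat.mul_le_mul_left 4 h2)
  have hKeq : K = C ⊓ C' := by
    refine le_antisymm (fun x hx => ⟨hx.1, x, hx.1, ?_⟩) hint
    exact commute_iff_conj.1 (mem_centralizer_singleton'.1 hx.2)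
  have hUK : U ≤ Subgroup.normalizer (K : Set G) := by
    rw [hKeq]
    refine le_trans (le_inf (le_normalizer_of_two inf_le_left hC2) (le_normalizer_of_two hC'U ?_))
      Subgroup.inf_normalizer_le_normalizer_inf
    rw [hCC']; exact hC2
  have hKU : K ≤ U := inf_le_left.trans inf_le_left
  have huK : u ∈ Subgroup.centralizer (K : Set G) :=
    Subgroup.mem_centralizer_iff.2 fun x hx => (mem_centralizer_singleton'.1 hx.2).eq.symm
  have haK : a ∈ Subgroup.centralizer (K : Set G) :=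
    Subgroup.mem_centralizer_iff.2 fun x hx => (mem_centralizer_singleton'.1 hx.1.2).eq.symm
  have hm : ∃ x ∈ U, u * x * u⁻¹ * x⁻¹ ∉ K := by
    by_contra hno
    push Not at hno
    exact hmove (Subgroup.mem_centralizer_iff.2 fun x hx =>
      (commute_of_mod hU hKU huK huo (hno x hx)).eq.symm)
  have hnk : Nat.card U = 4 * Nat.card K := by
    have hle : n ≤ k + 2 := (Nat.pow_le_pow_iff_right (a := 2) (by norm_num)).1 (by
      rw [hn, hk] at hU4
      calc 2 ^ n ≤ 4 * 2 ^ k := hU4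
        _ = 2 ^ (k + 2) := by rw [pow_add]; ring)
    rcases hle.eq_or_lt with h | h
    · rw [hn, hk, h, pow_add]; ring
    exfalso
    have h2 : Nat.card U ≤ 2 * Nat.card K := by
      rw [hn, hk, ← pow_succ']
      exact Nat.pow_le_pow_right (by norm_num) (by omega)
    obtain ⟨x, hx, hx'⟩ := hm
    have hxK : x ∉ K := fun h => hx' (by
      rw [commute_iff_conj.1 (mem_centralizer_singleton'.1 h.2), mul_inv_cancel]
      exact one_mem _)
    have hyK : u * x * u⁻¹ ∉ K := fun h => hxK (by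
      have h1 : u * x * u⁻¹ = x := by
        have h2 := commute_iff_conj.1 (mem_centralizer_singleton'.1 h.2)
        simpa using h2
      rwa [h1] at h)
    exact hx' (mul_inv_mem_of_two hKU h2 ((Subgroup.mem_normalizer_iff.1 huU x).1 hx) hx hyK hxK)
  refine false_of_four hfree hUH hKU hUK hnk haH huH haU (Subgroup.centralizer_le_normalizer _ haK) huU
    (Subgroup.centralizer_le_normalizer _ huK) huo (fun x hx => ?_) hm
  rw [← hz, (hzfix x hx).eq, mul_inv_cancel_right, mul_inv_cancel]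
  exact one_mem _

omit [Finite G] in
/-- Fixed points are preserved by an element commuting modulo the kernel. -/
theorem commute_conj_of_mod {V : Subgroup G} {y u v : G}
    (h : u⁻¹ * y * u * y⁻¹ ∈ Subgroup.centralizer (V : Set G))
    (hy : y ∈ Subgroup.normalizer (V : Set G)) (hv : v ∈ V) :
    y * (u * v * u⁻¹) * y⁻¹ = u * (y * v * y⁻¹) * u⁻¹ := by
  have h1 := (Subgroup.mem_centralizer_iff.1 h (y * v * y⁻¹) ((Subgroup.mem_normalizer_iff.1 hy v).1 hv))
  have h2 : (u⁻¹ * y * u * y⁻¹) * (y * v * y⁻¹) * (u⁻¹ * y * u * y⁻¹)⁻¹ = y * v * y⁻¹ := by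
    rw [← h1, mul_inv_cancel_right]
  calc y * (u * v * u⁻¹) * y⁻¹ = u * ((u⁻¹ * y * u * y⁻¹) * (y * v * y⁻¹) * (u⁻¹ * y * u * y⁻¹)⁻¹) * u⁻¹ := by
        simp [mul_assoc]
    _ = _ := by rw [h2]

omit [Finite G] in
theorem mem_centralizer_set_iff {S : Subgroup G} {v : G} :
    v ∈ Subgroup.centralizer (S : Set G) ↔ ∀ x ∈ S, Commute x v :=
  Subgroup.mem_centralizer_iff

/-- A nontrivial 2-group normalised by a 2-group contains a nontrivial fixed point. -/
theorem exists_fixed_ne_one {W Y : Subgroup G} (hW : IsPGroup 2 W) (hY : IsPGroup 2 Y)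
    (hn : Y ≤ Subgroup.normalizer (W : Set G)) (hne : W ≠ ⊥) :
    ∃ w ∈ W, w ≠ 1 ∧ ∀ y ∈ Y, Commute y w := by
  haveI : Fact (Nat.Prime 2) := ⟨Nat.prime_two⟩
  letI : MulAction Y W :=
    { smul := fun y w => ⟨(y : G) * w * (y : G)⁻¹, (Subgroup.mem_normalizer_iff.1 (hn y.2) w).1 w.2⟩
      one_smul := fun w => Subtype.ext (show (1 : G) * w * (1 : G)⁻¹ = w by simp)
      mul_smul := fun y z w => Subtype.ext
        (show ((y * z : Y) : G) * w * ((y * z : Y) : G)⁻¹ = (y : G) * ((z : G) * w * (z : G)⁻¹) * (y : G)⁻¹ by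
          simp [mul_assoc]) }
  have hdvd : 2 ∣ Nat.card W := by
    obtain ⟨k, hk⟩ := IsPGroup.iff_card.1 hW
    rcases k with _ | k
    · exact absurd (Subgroup.eq_bot_of_card_eq W (by simpa using hk)) hne
    · exact hk ▸ dvd_pow_self 2 (Nat.succ_ne_zero k)
  obtain ⟨w, hw, hw1⟩ := hY.exists_fixed_point_of_prime_dvd_card_of_fixed_point W hdvd
    (a := 1) (fun y => Subtype.ext (show (y : G) * 1 * (y : G)⁻¹ = 1 by simp))
  refine ⟨w, w.2, fun h => hw1 (Subtype.ext h.symm), fun y hy => commute_iff_conj.2 ?_⟩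
  exact congrArg Subtype.val (hw ⟨y, hy⟩)

/-- The strong inequality: an elementary abelian 2-group `X̄` acting on a module without normal
2-subgroups has fixed points of index at least `|X̄|²`. -/
theorem sq_card_mul_le {N V : Subgroup G} (hsol : Group.IsSolvable N)
    (hfree : ¬ Involves (Equiv.Perm (Fin 4)) N) (hVN : V ≤ N) (hNV : N ≤ Subgroup.normalizer (V : Set G))
    (hV : IsPGroup 2 V) (hVc : ∀ x ∈ V, ∀ y ∈ V, Commute x y)
    [((Subgroup.centralizer (V : Set G)).subgroupOf N).Normal]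
    (hO : pCore 2 (N ⧸ (Subgroup.centralizer (V : Set G)).subgroupOf N) = ⊥)
    (X : Subgroup G) (hXN : X ≤ N) (hX : IsPGroup 2 X) (hsq : ∀ x ∈ X, x ^ 2 ∈ Subgroup.centralizer (V : Set G)) :
    Nat.card X ^ 2 * Nat.card ↥(V ⊓ Subgroup.centralizer (X : Set G)) ≤
      Nat.card V * Nat.card ↥(X ⊓ Subgroup.centralizer (V : Set G)) ^ 2 := by
  classical
  haveI : Fact (Nat.Prime 2) := ⟨Nat.prime_two⟩
  set CV := Subgroup.centralizer (V : Set G) with hCV
  set C := CV.subgroupOf N with hC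
  set π := QuotientGroup.mk' C with hπ
  set M := pPrimeCore 2 (N ⧸ C) with hM
  haveI : M.Normal := CfsgLib.Solvable.pPrimeCore_normal 2 (N ⧸ C)
  have hMcop : (Nat.card M).Coprime 2 := CfsgLib.PLoc.pPrimeCore_coprime 2
  have hCM : Subgroup.centralizer (M : Set (N ⧸ C)) ≤ M :=
    CfsgLib.PLocal.centralizer_pPrimeCore_le_self
      (CfsgLib.PLoc.isPSolvable_of_surjective (QuotientGroup.mk'_surjective C)
        (CfsgLib.ThompsonFactor.isPSolvable_of_isSolvable hsol)) hO
  revert hXN hX hsq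
  induction hn : Nat.card X using Nat.strong_induction_on generalizing X with
  | _ n ih =>
  intro hXN hX hsq
  subst hn
  by_cases hXC : X ≤ CV
  · rw [inf_eq_left.2 hXC, mul_comm]
    exact Nat.mul_le_mul_right _ (Subgroup.card_le_of_le inf_le_left)
  set Xb := (X.subgroupOf N).map π with hXb
  have hXbp : IsPGroup 2 Xb := (hX.of_equiv (Subgroup.subgroupOfEquivOfLe hXN).symm).map π
  have hsqb : ∀ b ∈ Xb, b * b = 1 := by
    rintro _ ⟨x, hx, rfl⟩
    rw [← map_mul, ← pow_two]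
    exact (QuotientGroup.eq_one_iff _).2 (Subgroup.mem_subgroupOf.2 (by simpa using hsq x hx))
  have hcomm : ∀ b ∈ Xb, ∀ c ∈ Xb, b * c = c * b := by
    intro b hb c hc
    have h1 := hsqb _ (mul_mem hb hc)
    have hb' : b⁻¹ = b := inv_eq_of_mul_eq_one_right (hsqb b hb)
    have hc' : c⁻¹ = c := inv_eq_of_mul_eq_one_right (hsqb c hc)
    have h2 : (b * c)⁻¹ = b * c := inv_eq_of_mul_eq_one_right h1
    rw [mul_inv_rev, hb', hc'] at h2
    exact h2.symm
  haveI : IsMulCommutative Xb := ⟨⟨fun b c => Subtype.ext (hcomm b b.2 c c.2)⟩⟩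
  have hcop : (Nat.card Xb).Coprime (Nat.card M) := by
    obtain ⟨k, hk⟩ := IsPGroup.iff_card.1 hXbp
    rw [hk]
    exact Nat.Coprime.pow_left k hMcop.symm
  have hXbM : Xb ≤ Subgroup.normalizer (M : Set (N ⧸ C)) := Subgroup.le_normalizer_of_normal
  have hnc : ¬ M ≤ Subgroup.centralizer (Xb : Set (N ⧸ C)) := by
    intro h
    apply hXC
    intro x hx
    have h1 : π ⟨x, hXN hx⟩ ∈ Xb ⊓ M := ⟨⟨_, hx, rfl⟩, hCM (Subgroup.le_centralizer_iff.1 h ⟨_, hx, rfl⟩)⟩
    rw [Subgroup.inf_eq_bot_of_coprime hcop, Subgroup.mem_bot] at h1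
    exact Subgroup.mem_subgroupOf.1 ((QuotientGroup.eq_one_iff _).1 h1)
  obtain ⟨B, hBX, ⟨ab, hab, hgen⟩, hB⟩ : ∃ B ≤ Xb, (∃ c ∈ Xb, Xb ≤ B ⊔ Subgroup.zpowers c) ∧
      ¬ M ⊓ Subgroup.centralizer (B : Set (N ⧸ C)) ≤ Subgroup.centralizer (Xb : Set (N ⧸ C)) := by
    by_contra hno
    push Not at hno
    exact hnc (CfsgLib.Solvable.le_of_cyclic_quotient_centralizer_le hXbM hcop hno)
  obtain ⟨m, hm, hm'⟩ := SetLike.not_le_iff_exists.1 hB
  have hdec : ∀ b ∈ Xb, b ∈ B ∨ b * ab⁻¹ ∈ B := by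
    intro b hb
    have hn : Subgroup.zpowers ab ≤ Subgroup.normalizer (B : Set (N ⧸ C)) :=
      Subgroup.zpowers_le.2 (Subgroup.centralizer_le_normalizer _ fun y hy => hcomm y (hBX hy) ab hab)
    obtain ⟨y, hy, w, hw, rfl⟩ := (CfsgLib.Solvable.mem_sup_of_le_normalizer hn).1 (hgen hb)
    obtain ⟨i, rfl⟩ := Subgroup.mem_zpowers_iff.1 hw
    have h2 : ab ^ (2 : ℤ) = 1 := by rw [zpow_two, hsqb ab hab]
    rcases Int.even_or_odd' i with ⟨j, rfl | rfl⟩
    · left; rw [zpow_mul, h2, one_zpow, mul_one]; exact hy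
    · right; rw [zpow_add, zpow_mul, h2, one_zpow, one_mul, zpow_one, mul_inv_cancel_right]; exact hy
  have hmab : ¬ Commute ab m := by
    intro h
    refine hm' (Subgroup.mem_centralizer_iff.2 fun b hb => ?_)
    rcases hdec b hb with h1 | h1
    · exact hm.2 b h1
    · have : Commute (b * ab⁻¹) m := hm.2 _ h1
      have := this.mul_left h
      rwa [inv_mul_cancel_right] at this
  have habi : ab⁻¹ = ab := inv_eq_of_mul_eq_one_right (hsqb ab hab)
  set ub := ab * m * ab⁻¹ * m⁻¹ with hub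
  have hubM : ub ∈ M := mul_mem (‹M.Normal›.conj_mem m hm.1 ab) (inv_mem hm.1)
  have hub1 : ub ≠ 1 := fun h => hmab (commute_iff_conj.2 (mul_inv_eq_one.1 h))
  have hubrel : ab * ub * ab⁻¹ * ub = 1 := by
    calc ab * ub * ab⁻¹ * ub = (ab * ab) * m * ab * m⁻¹ * (ab * ab) * m * ab * m⁻¹ := by
          simp [hub, habi, mul_assoc]
      _ = m * (ab * ab) * m⁻¹ := by rw [hsqb ab hab]; simp [mul_assoc, hsqb ab hab]
      _ = 1 := by rw [hsqb ab hab]; simp
  have hubB : ∀ b ∈ B, Commute b ub := by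
    intro b hb
    have h1 : Commute b ab := hcomm b (hBX hb) ab hab
    have h2 : Commute b m := hm.2 b hb
    exact ((h1.mul_right h2).mul_right h1.inv_right).mul_right h2.inv_right
  have hubodd : Odd (orderOf ub) :=
    Nat.coprime_two_right.1 (hMcop.coprime_dvd_left (Subgroup.orderOf_dvd_natCard M hubM))
  obtain ⟨u0, hu0⟩ := QuotientGroup.mk'_surjective C ub
  obtain ⟨k, hk1, hk2⟩ := odd_lift π (x := u0) (hu0.symm ▸ hubodd)
  obtain ⟨a, ha, haeq⟩ := hab
  set u := u0 ^ k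
  have hu : π u = ub := hk1.trans hu0
  set Y := X ⊓ (B.comap π).map N.subtype with hY
  have hmemY : ∀ x (hx : x ∈ X), π ⟨x, hXN hx⟩ ∈ B → x ∈ Y := fun x hx h => ⟨hx, _, h, rfl⟩
  have hYmem : ∀ x ∈ Y, ∀ h : x ∈ N, π ⟨x, h⟩ ∈ B := by
    rintro x ⟨hx, z, hz, rfl⟩ h
    exact hz
  have haY : (a : G) ∉ Y := by
    intro h
    have := hYmem _ h a.2
    rw [Subtype.coe_eta, haeq] at this
    exact hmab (hm.2 _ this)
  have hYX : Y ≤ X := inf_le_left
  have hlt : Nat.card Y < Nat.card X :=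
    Set.Finite.card_lt_card (Set.toFinite _) (lt_of_le_of_ne hYX fun h => haY (h.ge ha))
  have h2Y : Nat.card X ≤ 2 * Nat.card Y := by
    let φ : Y ⊕ Y → X := Sum.elim (fun y => ⟨y, hYX y.2⟩) (fun y => ⟨y * a, mul_mem (hYX y.2) ha⟩)
    have hφ : Function.Surjective φ := by
      rintro ⟨x, hx⟩
      rcases hdec _ ⟨⟨x, hXN hx⟩, hx, rfl⟩ with h1 | h1
      · exact ⟨Sum.inl ⟨x, hmemY x hx h1⟩, rfl⟩
      · refine ⟨Sum.inr ⟨x * (a : G)⁻¹, hmemY _ (mul_mem hx (inv_mem ha)) ?_⟩, Subtype.ext (inv_mul_cancel_right x _)⟩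
        have : (⟨x * (a : G)⁻¹, hXN (mul_mem hx (inv_mem ha))⟩ : N) = ⟨x, hXN hx⟩ * a⁻¹ := rfl
        rw [this, map_mul, map_inv, haeq]
        exact h1
    have := Nat.card_le_card_of_surjective φ hφ
    rwa [Nat.card_sum, ← two_mul] at this
  have hYN : Y ≤ N := hYX.trans hXN
  have ih' := ih _ hlt Y rfl hYN (hX.to_le hYX) (fun y hy => hsq y (hYX hy))
  set V1 := V ⊓ Subgroup.centralizer (Y : Set G) with hV1
  have hmodC : ∀ g : N, π g = 1 → (g : G) ∈ CV := fun g h =>
    Subgroup.mem_subgroupOf.1 ((QuotientGroup.eq_one_iff _).1 h)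
  -- `Y` commutes with `u` and `a` on `V`
  have hcm : ∀ g : N, (∀ b ∈ B, Commute b (π g)) → ∀ y ∈ Y, ∀ v ∈ V,
      y * ((g : G) * v * (g : G)⁻¹) * y⁻¹ = (g : G) * (y * v * y⁻¹) * (g : G)⁻¹ := by
    intro g hg y hy v hv
    refine commute_conj_of_mod ?_ (hNV (hYN hy)) hv
    have h2 : π (g⁻¹ * ⟨y, hYN hy⟩ * g * ⟨y, hYN hy⟩⁻¹) = 1 := by
      have h3 : π ⟨y, hYN hy⟩ * π g = π g * π ⟨y, hYN hy⟩ := hg _ (hYmem y hy _)
      simp only [map_mul, map_inv]
      rw [mul_assoc ((π g)⁻¹), h3]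
      simp [mul_assoc]
    exact hmodC _ h2
  have hVu : ∀ g : N, (∀ b ∈ B, Commute b (π g)) → (g : G) ∈ Subgroup.normalizer (V1 : Set G) := by
    intro g hg
    have key : ∀ h : N, (∀ b ∈ B, Commute b (π h)) → ∀ v ∈ V1, (h : G) * v * (h : G)⁻¹ ∈ V1 := by
      intro h hh v hv
      refine ⟨(Subgroup.mem_normalizer_iff.1 (hNV h.2) v).1 hv.1, mem_centralizer_set_iff.2 fun y hy => ?_⟩
      rw [commute_iff_conj, hcm h hh y hy v hv.1, commute_iff_conj.1 (mem_centralizer_set_iff.1 hv.2 y hy)]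
    refine Subgroup.mem_normalizer_iff.2 fun v => ⟨key g hg v, fun h => ?_⟩
    have := key g⁻¹ (fun b hb => by rw [map_inv]; exact (hg b hb).inv_right) _ h
    simpa [mul_assoc] using this
  have hga : ∀ b ∈ B, Commute b (π a) := fun b hb => haeq ▸ hcomm b (hBX hb) ab ⟨a, ha, haeq⟩
  have hgu : ∀ b ∈ B, Commute b (π u) := fun b hb => hu ▸ hubB b hb
  have hrel : (a : G) * u * (a : G)⁻¹ * u ∈ CV := hmodC (a * u * a⁻¹ * u) (by
    simp only [map_mul, map_inv, haeq, hu]; exact hubrel)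
  have hmoveV1 : (u : G) ∉ Subgroup.centralizer (V1 : Set G) := by
    intro hfix
    apply hub1
    rw [← hu]
    refine (QuotientGroup.eq_one_iff _).2 (Subgroup.mem_subgroupOf.2 (Subgroup.mem_centralizer_iff.2 fun v hv => ?_))
    let φ : V →* G :=
      { toFun := fun v => (u : G) * v * (u : G)⁻¹ * (v : G)⁻¹
        map_one' := by simp
        map_mul' := fun x y => by
          have hcx : Commute ((x : G)⁻¹) ((u : G) * y * (u : G)⁻¹ * (y : G)⁻¹) :=
            hVc _ (inv_mem x.2) _ (mul_mem ((Subgroup.mem_normalizer_iff.1 (hNV u.2) y).1 y.2) (inv_mem y.2))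
          calc (u : G) * ((x * y : V) : G) * (u : G)⁻¹ * ((x * y : V) : G)⁻¹
              = (u : G) * x * (u : G)⁻¹ * (((u : G) * y * (u : G)⁻¹ * (y : G)⁻¹) * (x : G)⁻¹) := by
                simp [mul_assoc]
            _ = _ := by rw [← hcx.eq]; simp [mul_assoc] }
    have hWV : φ.range ≤ V := by
      rintro _ ⟨x, rfl⟩
      exact mul_mem ((Subgroup.mem_normalizer_iff.1 (hNV u.2) x).1 x.2) (inv_mem x.2)
    have hYW : ∀ y ∈ Y, ∀ w ∈ φ.range, y * w * y⁻¹ ∈ φ.range := by
      rintro y hy _ ⟨x, rfl⟩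
      refine ⟨⟨y * x * y⁻¹, (Subgroup.mem_normalizer_iff.1 (hNV (hYN hy)) x).1 x.2⟩, ?_⟩
      show (u : G) * (y * x * y⁻¹) * (u : G)⁻¹ * (y * x * y⁻¹)⁻¹ = y * ((u : G) * x * (u : G)⁻¹ * (x : G)⁻¹) * y⁻¹
      rw [← hcm u hgu y hy x x.2]
      simp [mul_assoc]
    by_contra hne
    have hW : φ.range ≠ ⊥ := by
      intro h
      apply hne
      have : φ ⟨v, hv⟩ = 1 := Subgroup.mem_bot.1 (h ▸ ⟨⟨v, hv⟩, rfl⟩)
      exact (mul_inv_eq_iff_eq_mul.1 (mul_inv_eq_one.1 this)).symm
    obtain ⟨w, hw, hw1, hwY⟩ := exists_fixed_ne_one (hV.to_le hWV) (hX.to_le hYX) (fun y hy =>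
      Subgroup.mem_normalizer_iff.2 fun w => ⟨hYW y hy w, fun h => by
        simpa [mul_assoc] using hYW y⁻¹ (inv_mem hy) _ h⟩) hW
    obtain ⟨x, rfl⟩ := hw
    have hwu : Commute (u : G) (φ x) :=
      (Subgroup.mem_centralizer_iff.1 hfix _ ⟨hWV ⟨x, rfl⟩, mem_centralizer_set_iff.2 hwY⟩).symm
    set z := φ x
    apply hw1
    let Z : Subgroup G := Subgroup.zpowers z
    have hzV : Z ≤ V := Subgroup.zpowers_le.2 (hWV ⟨x, rfl⟩)
    have huZ : (u : G) ∈ Subgroup.centralizer (Z : Set G) := mem_centralizer_set_iff.2 fun t ht => by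
      obtain ⟨i, rfl⟩ := Subgroup.mem_zpowers_iff.1 ht
      exact (hwu.zpow_right i).symm
    have := commute_of_mod (x := (x : G)) hV hzV huZ (by rwa [Subgroup.orderOf_coe]) (Subgroup.mem_zpowers z)
    show (u : G) * x * (u : G)⁻¹ * (x : G)⁻¹ = 1
    rw [commute_iff_conj.1 this, mul_inv_cancel]
  have hV1h : V1 ≤ N := inf_le_left.trans hVN
  have h4 := four_mul_card_le hfree (hV.to_le inf_le_left) hV1h a.2 u.2 (hVu a hga) (hVu u hgu)
    (by rwa [Subgroup.orderOf_coe]) (Subgroup.centralizer_le (fun x hx => hx.1) hrel) hmoveV1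
  have hCX : V ⊓ Subgroup.centralizer (X : Set G) ≤ V1 ⊓ Subgroup.centralizer {(a : G)} := fun v hv =>
    ⟨⟨hv.1, Subgroup.centralizer_le hYX hv.2⟩,
      Subgroup.centralizer_le (Set.singleton_subset_iff.2 (show (a : G) ∈ (X : Set G) from ha)) hv.2⟩
  have hc1 := Subgroup.card_le_of_le hCX
  have hc2 := Subgroup.card_le_of_le (inf_le_inf_right CV hYX)
  calc Nat.card X ^ 2 * Nat.card ↥(V ⊓ Subgroup.centralizer (X : Set G))
      ≤ (2 * Nat.card Y) ^ 2 * Nat.card ↥(V1 ⊓ Subgroup.centralizer {(a : G)}) :=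
        Nat.mul_le_mul (Nat.pow_le_pow_left h2Y 2) hc1
    _ = Nat.card Y ^ 2 * (4 * Nat.card ↥(V1 ⊓ Subgroup.centralizer {(a : G)})) := by ring
    _ ≤ Nat.card Y ^ 2 * Nat.card V1 := Nat.mul_le_mul_left _ h4
    _ ≤ Nat.card V * Nat.card ↥(Y ⊓ CV) ^ 2 := ih'
    _ ≤ _ := Nat.mul_le_mul_left _ (Nat.pow_le_pow_left hc2 2)

end CfsgLib.FGS68

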