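import Mathlib

/-!
Graded families in a Lie ring (given by a bilinear bracket) with trivial zero component, graded by `ZMod p`:
Kreknin's bound on the derived length and Higman's bound on the class.
-/

set_option autoImplicit false

namespace CfsgLib.FGS68

variable {p : ℕ} [hp : Fact p.Prime] {L : Type*} [AddCommGroup L] (β : L →+ L →+ L)

/-- The Jacobi identity in derivation form. -/
def JacobiId : Prop := ∀ a b c : L, β (β a b) c = β (β a c) b + β a (β b c)

/-- A graded family with trivial zero component closed under the bracket. -/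
structure GradedFam (F : ZMod p → AddSubgroup L) : Prop where
  zero : F 0 = ⊥
  mul : ∀ {i j : ZMod p} {a b : L}, a ∈ F i → b ∈ F j → β a b ∈ F (i + j)

/-- The bracket of two graded families. -/
def bk (I F : ZMod p → AddSubgroup L) (k : ZMod p) : AddSubgroup L :=
  AddSubgroup.closure {x | ∃ (i j : ZMod p) (a b : L), i + j = k ∧ a ∈ I i ∧ b ∈ F j ∧ β a b = x}

variable {β}

theorem mem_bk {I F : ZMod p → AddSubgroup L} {i j : ZMod p} {a b : L} (ha : a ∈ I i) (hb : b ∈ F j) :
    β a b ∈ bk β I F (i + j) :=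
  AddSubgroup.subset_closure ⟨i, j, a, b, rfl, ha, hb, rfl⟩

theorem bk_le {I F : ZMod p → AddSubgroup L} {k : ZMod p} {S : AddSubgroup L}
    (h : ∀ i j a b, i + j = k → a ∈ I i → b ∈ F j → β a b ∈ S) : bk β I F k ≤ S := by
  refine (AddSubgroup.closure_le S).2 ?_
  rintro _ ⟨i, j, a, b, hk, ha, hb, rfl⟩
  exact h i j a b hk ha hb

theorem left_mem_of_closure {A : Set L} {S : AddSubgroup L} {a b : L} (ha : a ∈ AddSubgroup.closure A)
    (h : ∀ x ∈ A, β x b ∈ S) : β a b ∈ S :=
  ((AddSubgroup.closure_le (S.comap (β.flip b))).2 h) ha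

theorem right_mem_of_closure {A : Set L} {S : AddSubgroup L} {a b : L} (hb : b ∈ AddSubgroup.closure A)
    (h : ∀ x ∈ A, β a x ∈ S) : β a b ∈ S :=
  ((AddSubgroup.closure_le (S.comap (β a))).2 h) hb

theorem bk_mono {I I' F F' : ZMod p → AddSubgroup L} (hI : ∀ i, I i ≤ I' i) (hF : ∀ i, F i ≤ F' i)
    (k : ZMod p) : bk β I F k ≤ bk β I' F' k :=
  bk_le fun i _ _ _ hk ha hb => hk ▸ mem_bk (hI i ha) (hF _ hb)

theorem bk_self_le {F : ZMod p → AddSubgroup L} (hF : GradedFam β F) (k : ZMod p) : bk β F F k ≤ F k :=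
  bk_le fun _ _ _ _ hk ha hb => hk ▸ hF.mul ha hb

theorem gradedFam_bk {F : ZMod p → AddSubgroup L} (hF : GradedFam β F) : GradedFam β (bk β F F) :=
  ⟨le_bot_iff.1 (hF.zero ▸ bk_self_le hF 0),
    fun ha hb => mem_bk (bk_self_le hF _ ha) (bk_self_le hF _ hb)⟩

variable (β) in
/-- The derived series. -/
def dser (F : ZMod p → AddSubgroup L) : ℕ → ZMod p → AddSubgroup L
  | 0 => F
  | t + 1 => bk β (dser F t) (dser F t)

theorem dser_add (F : ZMod p → AddSubgroup L) (a : ℕ) : ∀ b, dser β (dser β F a) b = dser β F (a + b)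
  | 0 => rfl
  | b + 1 => by
    show bk β (dser β (dser β F a) b) (dser β (dser β F a) b) = bk β (dser β F (a + b)) (dser β F (a + b))
    rw [dser_add F a b]

theorem gradedFam_dser {F : ZMod p → AddSubgroup L} (hF : GradedFam β F) :
    ∀ t, GradedFam β (dser β F t)
  | 0 => hF
  | t + 1 => gradedFam_bk (gradedFam_dser hF t)

theorem dser_le {F : ZMod p → AddSubgroup L} (hF : GradedFam β F) : ∀ t i, dser β F t i ≤ F i
  | 0, _ => le_rfl
  | t + 1, i => (bk_self_le (gradedFam_dser hF t) i).trans (dser_le hF t i)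

variable (β) in
/-- Left normed products of homogeneous elements of degree at least `k`. -/
inductive LeftNormed (F : ZMod p → AddSubgroup L) (k : ℕ) : ZMod p → L → Prop
  | gen {i : ZMod p} {a : L} : k ≤ i.val → a ∈ F i → LeftNormed F k i a
  | mul {i j : ZMod p} {a b : L} : LeftNormed F k i a → k ≤ j.val → b ∈ F j →
      LeftNormed F k (i + j) (β a b)

variable (β) in
/-- The subring generated by the components of degree at least `k`. -/
def genFam (F : ZMod p → AddSubgroup L) (k : ℕ) (i : ZMod p) : AddSubgroup L :=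
  AddSubgroup.closure {a | LeftNormed β F k i a}

theorem LeftNormed.mem {F : ZMod p → AddSubgroup L} (hF : GradedFam β F) {k : ℕ} {i : ZMod p} {a : L}
    (h : LeftNormed β F k i a) : a ∈ F i := by
  induction h with
  | gen _ ha => exact ha
  | mul _ _ hb ih => exact hF.mul ih hb

theorem leftNormed_mul (hj : JacobiId β) {F : ZMod p → AddSubgroup L} {k : ℕ} {j : ZMod p} {b : L}
    (hb : LeftNormed β F k j b) : ∀ (i : ZMod p) (a : L), LeftNormed β F k i a →
      β a b ∈ genFam β F k (i + j) := by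
  induction hb with
  | gen hk hb => exact fun i a ha => AddSubgroup.subset_closure (ha.mul hk hb)
  | @mul i' m b l _ hm hl ih =>
    intro i a ha
    have e : β a (β b l) = β (β a b) l - β (β a l) b := by rw [hj a b l]; abel
    rw [e]
    refine AddSubgroup.sub_mem _ ?_ ?_
    · refine left_mem_of_closure (ih i a ha) fun x hx => AddSubgroup.subset_closure ?_
      show LeftNormed β F k (i + (i' + m)) _
      rw [← add_assoc]
      exact LeftNormed.mul hx hm hl
    · have := ih (i + m) _ (ha.mul hm hl)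
      rwa [show i + m + i' = i + (i' + m) by ring] at this

theorem genFam_mul (hj : JacobiId β) {F : ZMod p → AddSubgroup L} {k : ℕ} {i j : ZMod p} {a b : L}
    (ha : a ∈ genFam β F k i) (hb : b ∈ genFam β F k j) : β a b ∈ genFam β F k (i + j) :=
  left_mem_of_closure ha fun x hx => right_mem_of_closure hb fun y hy => leftNormed_mul hj hy i x hx

theorem val_gt_of_add {k : ℕ} (i j : ZMod p) (hk : k < p) (h : i + j = (k : ZMod p)) (hi : k < i.val) :
    k < j.val := by
  haveI : NeZero p := ⟨hp.out.ne_zero⟩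
  have h1 : (i + j).val = k := by rw [h, ZMod.val_cast_of_lt hk]
  rw [ZMod.val_add] at h1
  have hi' := ZMod.val_lt i
  by_cases hlt : i.val + j.val < p
  · rw [Nat.mod_eq_of_lt hlt] at h1; omega
  · rw [Nat.mod_eq_sub_mod (by omega), Nat.mod_eq_of_lt (by have := ZMod.val_lt j; omega)] at h1
    omega

theorem eq_cast_of_val {k : ℕ} {i : ZMod p} (h : k = i.val) : i = (k : ZMod p) := by
  haveI : NeZero p := ⟨hp.out.ne_zero⟩
  rw [h, ZMod.natCast_zmod_val]

theorem kreknin_key (hj : JacobiId β) {F : ZMod p → AddSubgroup L} (hF : GradedFam β F) {k : ℕ} (hk : k < p)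
    {i : ZMod p} {a : L} (ha : LeftNormed β F k i a) :
    ∀ (j : ZMod p) (b : L), b ∈ F j → i + j = (k : ZMod p) → β a b ∈ genFam β F (k + 1) k := by
  induction ha with
  | @gen i a hki ha =>
    intro j b hb hij
    rcases hki.eq_or_lt with h | h
    · have h0 : j = 0 := by rw [eq_cast_of_val h] at hij; simpa using hij
      rw [h0, hF.zero, AddSubgroup.mem_bot] at hb
      rw [hb, map_zero]; exact zero_mem _
    · rw [← hij]
      exact AddSubgroup.subset_closure ((LeftNormed.gen h ha).mul (val_gt_of_add i j hk hij h) hb)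
  | @mul i m a l ha' hkm hl ih =>
    intro j b hb hij
    rw [hj a l b]
    refine AddSubgroup.add_mem _ ?_ (ih (m + j) _ (hF.mul hl hb) (by rw [← add_assoc]; exact hij))
    have hab : β a b ∈ F (i + j) := hF.mul (ha'.mem hF) hb
    rcases hkm.eq_or_lt with h | h
    · have h0 : i + j = 0 := by
        rw [eq_cast_of_val h] at hij
        calc i + j = i + (k : ZMod p) + j - k := by ring
          _ = 0 := by rw [hij, sub_self]
      rw [h0, hF.zero, AddSubgroup.mem_bot] at hab
      rw [hab, map_zero, AddMonoidHom.zero_apply]; exact zero_mem _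
    · have hm' : m + (i + j) = (k : ZMod p) := by rw [← hij]; ring
      have := AddSubgroup.subset_closure ((LeftNormed.gen (val_gt_of_add m (i + j) hk hm' h) hab).mul h hl)
        (k := {a | LeftNormed β F (k + 1) (i + j + m) a})
      rw [← hij, show i + m + j = i + j + m by ring]
      exact this

/-- Kreknin's theorem, graded form. -/
theorem dser_le_genFam (hj : JacobiId β) : ∀ k, k < p → ∀ F : ZMod p → AddSubgroup L, GradedFam β F →
    ∀ i, dser β F (2 ^ k - 1) i ≤ genFam β F (k + 1) i := by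
  haveI : NeZero p := ⟨hp.out.ne_zero⟩
  intro k
  induction k with
  | zero =>
    intro _ F hF i a ha
    by_cases hi : i = 0
    · subst hi
      have ha' : a ∈ F 0 := ha
      rw [hF.zero, AddSubgroup.mem_bot] at ha'
      rw [ha']; exact zero_mem _
    · exact AddSubgroup.subset_closure (LeftNormed.gen
        (Nat.pos_of_ne_zero fun h => hi ((ZMod.val_eq_zero i).1 h)) ha)
  | succ k ih =>
    intro hk F hF i a ha
    set f := 2 ^ k - 1
    have hf : 2 ^ (k + 1) - 1 = f + 1 + f := by
      have : 1 ≤ 2 ^ k := Nat.one_le_two_pow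
      rw [pow_succ]; omega
    set N := dser β F (f + 1)
    have hN : GradedFam β N := gradedFam_dser hF _
    rw [hf, ← dser_add] at ha
    have hk' : k < p := by omega
    have htop : ∀ x ∈ N ((k + 1 : ℕ) : ZMod p), x ∈ genFam β F (k + 2) ((k + 1 : ℕ) : ZMod p) := fun x hx => by
      refine bk_le (fun i' j' u v hij hu hv => ?_) hx
      exact left_mem_of_closure (ih hk' F hF i' hu) fun w hw => kreknin_key hj hF hk hw j' v (dser_le hF f j' hv) hij
    have hgen : ∀ {m : ZMod p} {x : L}, k + 1 ≤ m.val → x ∈ N m → x ∈ genFam β F (k + 2) m := by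
      intro m x hm hx
      rcases hm.eq_or_lt with h | h
      · rw [eq_cast_of_val h] at hx ⊢
        exact htop x hx
      · exact AddSubgroup.subset_closure (LeftNormed.gen h (dser_le hF _ m hx))
    refine (AddSubgroup.closure_le _).2 ?_ (ih hk' N hN i ha)
    intro x hx
    clear ha
    induction hx with
    | gen hm hx => exact hgen hm hx
    | mul _ hm hl ih' => exact genFam_mul hj ih' (hgen hm hl)

theorem dser_eq_bot (hj : JacobiId β) {F : ZMod p → AddSubgroup L} (hF : GradedFam β F) (i : ZMod p) :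
    dser β F (2 ^ (p - 1) - 1) i = ⊥ := by
  haveI : NeZero p := ⟨hp.out.ne_zero⟩
  have hpos := hp.out.pos
  rw [eq_bot_iff]
  refine (dser_le_genFam hj (p - 1) (by omega) F hF i).trans ((AddSubgroup.closure_le _).2 ?_)
  intro x hx
  rw [show p - 1 + 1 = p by omega] at hx
  cases hx with
  | gen h _ => exact absurd (ZMod.val_lt _) h.not_gt
  | mul _ h _ => exact absurd (ZMod.val_lt _) h.not_gt

variable (β) in
/-- Iterated brackets `[I, F, …, F]`. -/
def pw (I F : ZMod p → AddSubgroup L) : ℕ → ZMod p → AddSubgroup L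
  | 0 => I
  | t + 1 => bk β (pw I F t) F

theorem pw_add (I F : ZMod p → AddSubgroup L) (a : ℕ) : ∀ b, pw β I F (a + b) = pw β (pw β I F a) F b
  | 0 => rfl
  | b + 1 => congrArg (fun J => bk β J F) (pw_add I F a b)

theorem pw_mono {I I' F : ZMod p → AddSubgroup L} (h : ∀ i, I i ≤ I' i) :
    ∀ t i, pw β I F t i ≤ pw β I' F t i
  | 0, i => h i
  | t + 1, i => bk_mono (pw_mono h t) (fun _ => le_rfl) i

variable (β) in
/-- A graded ideal inside the family `F`. -/
structure IdealFam (I F : ZMod p → AddSubgroup L) : Prop where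
  le : ∀ i, I i ≤ F i
  mul : ∀ {i j : ZMod p} {a b : L}, a ∈ I i → b ∈ F j → β a b ∈ I (i + j)

theorem idealFam_bk (hj : JacobiId β) {I F : ZMod p → AddSubgroup L} (hF : GradedFam β F)
    (hI : IdealFam β I F) : IdealFam β (bk β I (bk β F F)) F := by
  refine ⟨fun k => bk_le fun i j a b hk ha hb => hk ▸ hF.mul (hI.le i ha) (bk_self_le hF j hb), ?_⟩
  intro k m x y hx hy
  refine left_mem_of_closure hx ?_
  rintro _ ⟨i, j, a, b, rfl, ha, hb, rfl⟩
  rw [hj a b y]
  refine AddSubgroup.add_mem _ ?_ ?_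
  · rw [show i + j + m = i + m + j by ring]
    exact mem_bk (hI.mul ha hy) hb
  · rw [show i + j + m = i + (j + m) by ring]
    exact mem_bk ha (mem_bk (bk_self_le hF j hb) hy)

/-- Subset sums of `p - 1` non-zero residues are everything. -/
theorem exists_sublist_sum (l : List (ZMod p)) (hl : ∀ a ∈ l, a ≠ 0) (hlen : p - 1 ≤ l.length) (c : ZMod p) :
    ∃ s, List.Sublist s l ∧ s.sum = c := by
  classical
  haveI : NeZero p := ⟨hp.out.ne_zero⟩
  let S : List (ZMod p) → Finset (ZMod p) := fun l => Finset.univ.filter fun c => ∃ s, List.Sublist s l ∧ s.sum = c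
  have hmem : ∀ l c, c ∈ S l ↔ ∃ s, List.Sublist s l ∧ s.sum = c := fun l c => by simp [S]
  have hcard : ∀ l : List (ZMod p), (∀ a ∈ l, a ≠ 0) → min p (l.length + 1) ≤ (S l).card := by
    intro l
    induction l with
    | nil =>
      intro _
      have : 1 ≤ (S []).card := Finset.card_pos.2 ⟨0, (hmem _ _).2 ⟨[], List.Sublist.refl _, by simp⟩⟩
      simp only [List.length_nil, zero_add]
      exact (min_le_right p 1).trans this
    | cons a l ih =>
      intro hl
      have ih' := ih fun b hb => hl b (List.mem_cons_of_mem a hb)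
      have ha : a ≠ 0 := hl a (List.mem_cons_self ..)
      have hsub : S l ⊆ S (a :: l) := fun c hc => by
        obtain ⟨s, hs, hsc⟩ := (hmem _ _).1 hc
        exact (hmem _ _).2 ⟨s, hs.cons a, hsc⟩
      by_cases hall : S l = Finset.univ
      · have := Finset.card_le_card hsub
        rw [hall, Finset.card_univ, ZMod.card] at this
        exact (min_le_left _ _).trans this
      · have hlt : S l ⊂ S (a :: l) := by
          refine Finset.ssubset_iff_subset_ne.2 ⟨hsub, fun heq => hall ?_⟩
          have hclosed : ∀ c ∈ S l, a + c ∈ S l := fun c hc => by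
            obtain ⟨s, hs, hsc⟩ := (hmem _ _).1 hc
            rw [heq]
            exact (hmem _ _).2 ⟨a :: s, hs.cons_cons a, by simp [hsc]⟩
          have hmul : ∀ n : ℕ, (n : ZMod p) * a ∈ S l := by
            intro n
            induction n with
            | zero => exact (hmem _ _).2 ⟨[], List.nil_sublist _, by simp⟩
            | succ n ihn =>
              have := hclosed _ ihn
              rwa [Nat.cast_succ, add_mul, one_mul, add_comm]
          refine Finset.eq_univ_of_forall fun c => ?_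
          have := hmul (c * a⁻¹).val
          rwa [ZMod.natCast_zmod_val, inv_mul_cancel_right₀ ha] at this
        have := Finset.card_lt_card hlt
        simp only [List.length_cons]
        omega
  have hall : S l = Finset.univ := by
    apply Finset.eq_univ_of_card
    refine le_antisymm (Finset.card_le_univ _) ?_
    rw [ZMod.card]
    have := hcard l hl
    omega
  exact (hmem l c).1 (hall ▸ Finset.mem_univ c)

variable (β) in
/-- Left normed bracket with a list. -/
def foldBr (m : L) (l : List (ZMod p × L)) : L := l.foldl (fun a x => β a x.2) m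

theorem foldBr_sub (l : List (ZMod p × L)) : ∀ m m' : L, foldBr β (m - m') l = foldBr β m l - foldBr β m' l := by
  induction l with
  | nil => intro _ _; rfl
  | cons x l ih =>
    intro m m'
    show foldBr β (β (m - m') x.2) l = foldBr β (β m x.2) l - foldBr β (β m' x.2) l
    rw [map_sub, AddMonoidHom.sub_apply, ih]

theorem foldBr_zero (l : List (ZMod p × L)) : foldBr β (0 : L) l = 0 := by
  have := foldBr_sub (β := β) l 0 0
  rwa [sub_zero, sub_self] at this

theorem foldBr_mem {I F : ZMod p → AddSubgroup L} (hI : IdealFam β I F) (l : List (ZMod p × L))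
    (hl : ∀ x ∈ l, x.2 ∈ F x.1) : ∀ (d : ZMod p) (m : L), m ∈ I d →
      foldBr β m l ∈ I (d + (l.map Prod.fst).sum) := by
  induction l with
  | nil => intro d m hm; simpa [foldBr] using hm
  | cons x l ih =>
    intro d m hm
    show foldBr β (β m x.2) l ∈ _
    rw [List.map_cons, List.sum_cons, ← add_assoc]
    exact ih (fun y hy => hl y (List.mem_cons_of_mem x hy)) _ _ (hI.mul hm (hl x (List.mem_cons_self ..)))

theorem foldBr_perm (hj : JacobiId β) {I F : ZMod p → AddSubgroup L} (hF : GradedFam β F)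
    (hI : IdealFam β I F) {l₁ l₂ : List (ZMod p × L)} (h : List.Perm l₁ l₂) :
    (∀ x ∈ l₁, x.2 ∈ F x.1) → ∀ (d : ZMod p) (m : L), m ∈ I d →
      foldBr β m l₁ - foldBr β m l₂ ∈ bk β I (bk β F F) (d + (l₁.map Prod.fst).sum) := by
  induction h with
  | nil => intro _ d m _; simp
  | @cons x l₁ l₂ _ ih =>
    intro hl d m hm
    show foldBr β (β m x.2) l₁ - foldBr β (β m x.2) l₂ ∈ _
    rw [List.map_cons, List.sum_cons, ← add_assoc]
    exact ih (fun y hy => hl y (List.mem_cons_of_mem x hy)) _ _ (hI.mul hm (hl x (List.mem_cons_self ..)))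
  | swap x y l =>
    intro hl d m hm
    show foldBr β (β (β m y.2) x.2) l - foldBr β (β (β m x.2) y.2) l ∈ _
    rw [← foldBr_sub, hj m y.2 x.2, add_sub_cancel_left]
    have hy := hl y (by simp)
    have hx := hl x (by simp)
    have := foldBr_mem (idealFam_bk hj hF hI) l (fun z hz => hl z (by simp [hz])) _ _
      (mem_bk (β := β) hm (mem_bk hy hx))
    rw [List.map_cons, List.map_cons, List.sum_cons, List.sum_cons]
    rwa [show d + (y.1 + (x.1 + (l.map Prod.fst).sum)) = d + (y.1 + x.1) + (l.map Prod.fst).sum by ring]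
  | @trans l₁ l₂ l₃ h₁ _ ih₁ ih₂ =>
    intro hl d m hm
    have e := ih₂ (fun z hz => hl z (h₁.mem_iff.2 hz)) d m hm
    rw [← (h₁.map Prod.fst).sum_eq] at e
    have := AddSubgroup.add_mem _ (ih₁ hl d m hm) e
    rwa [sub_add_sub_cancel] at this

theorem pw_le_folds {I F : ZMod p → AddSubgroup L} : ∀ t k, pw β I F t k ≤ AddSubgroup.closure
    {x | ∃ (d : ZMod p) (m : L) (l : List (ZMod p × L)), m ∈ I d ∧ (∀ y ∈ l, y.2 ∈ F y.1) ∧ l.length = t ∧
      d + (l.map Prod.fst).sum = k ∧ foldBr β m l = x}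
  | 0, k => fun x hx => AddSubgroup.subset_closure ⟨k, x, [], hx, by simp, rfl, by simp, rfl⟩
  | t + 1, k => bk_le fun i j a b hk ha hb => by
    refine left_mem_of_closure (pw_le_folds t i ha) ?_
    rintro _ ⟨d, m, l, hm, hl, hlen, hd, rfl⟩
    refine AddSubgroup.subset_closure ⟨d, m, l ++ [(j, b)], hm, ?_, by simp [hlen], ?_, by simp [foldBr]⟩
    · intro y hy
      rcases List.mem_append.1 hy with h | h
      · exact hl y h
      · rw [List.mem_singleton.1 h]; exact hb
    · rw [List.map_append, List.sum_append, ← add_assoc, hd, ← hk]; simp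

/-- `[I, F, …, F]` with `p - 1` copies lies in `[I, [F, F]]`. -/
theorem pw_sub_one_le (hj : JacobiId β) {I F : ZMod p → AddSubgroup L} (hF : GradedFam β F)
    (hI : IdealFam β I F) (k : ZMod p) : pw β I F (p - 1) k ≤ bk β I (bk β F F) k := by
  refine (pw_le_folds (p - 1) k).trans ((AddSubgroup.closure_le _).2 ?_)
  rintro _ ⟨d, m, l, hm, hl, hlen, rfl, rfl⟩
  by_cases h0 : ∀ a ∈ l.map Prod.fst, a ≠ 0
  · obtain ⟨s, hs, hsum⟩ := exists_sublist_sum (l.map Prod.fst) h0 (by simp [hlen]) (-d)
    obtain ⟨s', hs', rfl⟩ := List.sublist_map_iff.1 hs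
    obtain ⟨r, hr⟩ := hs'.exists_perm_append
    have h1 := foldBr_perm hj hF hI hr hl d m hm
    have h2 : foldBr β m (s' ++ r) = 0 := by
      have h3 := foldBr_mem hI s' (fun z hz => hl z (hs'.subset hz)) d m hm
      rw [hsum, add_neg_cancel] at h3
      have h4 : foldBr β m s' = 0 := by
        have h5 := hI.le 0 h3
        rwa [hF.zero, AddSubgroup.mem_bot] at h5
      rw [foldBr, List.foldl_append]
      show foldBr β (foldBr β m s') r = 0
      rw [h4, foldBr_zero]
    rw [h2, sub_zero] at h1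
    exact h1
  · push Not at h0
    obtain ⟨a, ha, rfl⟩ := h0
    obtain ⟨y, hy, hy0⟩ := List.mem_map.1 ha
    obtain ⟨l₁, l₂, rfl⟩ := List.append_of_mem hy
    have h1 : y.2 = 0 := by
      have := hl y hy
      rwa [hy0, hF.zero, AddSubgroup.mem_bot] at this
    have h2 : foldBr β m (l₁ ++ y :: l₂) = 0 := by
      rw [foldBr, List.foldl_append, List.foldl_cons]
      show foldBr β (β (foldBr β m l₁) y.2) l₂ = 0
      rw [h1, map_zero, foldBr_zero]
    show foldBr β m (l₁ ++ y :: l₂) ∈ bk β I (bk β F F) _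
    rw [h2]; exact zero_mem _

theorem idealFam_pw (hj : JacobiId β) {I F : ZMod p → AddSubgroup L} (hF : GradedFam β F)
    (hI : IdealFam β I F) : ∀ t, IdealFam β (pw β I (bk β F F) t) F
  | 0 => hI
  | t + 1 => idealFam_bk hj hF (idealFam_pw hj hF hI t)

theorem pw_mul_le (hj : JacobiId β) {I F : ZMod p → AddSubgroup L} (hF : GradedFam β F)
    (hI : IdealFam β I F) : ∀ t k, pw β I F ((p - 1) * t) k ≤ pw β I (bk β F F) t k
  | 0, k => le_rfl
  | t + 1, k => by
    rw [Nat.mul_succ, pw_add]
    exact (pw_mono (pw_mul_le hj hF hI t) (p - 1) k).trans (pw_sub_one_le hj hF (idealFam_pw hj hF hI t) k)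

/-- Higman's theorem, graded form. -/
theorem pw_eq_bot_of_dser (hj : JacobiId β) : ∀ (s : ℕ) (F : ZMod p → AddSubgroup L), GradedFam β F →
    (∀ i, dser β F s i = ⊥) → ∀ i, pw β F F (∑ e ∈ Finset.range s, (p - 1) ^ e) i = ⊥ := by
  intro s
  induction s with
  | zero => intro F _ h i; simpa [pw, dser] using h i
  | succ s ih =>
    intro F hF h i
    have e : ∑ e ∈ Finset.range (s + 1), (p - 1) ^ e = 1 + (p - 1) * ∑ e ∈ Finset.range s, (p - 1) ^ e := by
      rw [Finset.sum_range_succ', Finset.mul_sum, pow_zero, add_comm]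
      congr 1
      exact Finset.sum_congr rfl fun x _ => pow_succ' _ _
    rw [e, pw_add, eq_bot_iff]
    have hI : IdealFam β (bk β F F) F :=
      ⟨bk_self_le hF, fun ha hb => mem_bk (bk_self_le hF _ ha) hb⟩
    refine (pw_mul_le hj hF hI _ i).trans (le_of_eq (ih (bk β F F) (gradedFam_bk hF) (fun j => ?_) i))
    have h2 : dser β (dser β F 1) s = dser β F (1 + s) := dser_add F 1 s
    rw [show (bk β F F) = dser β F 1 from rfl, h2, add_comm]
    exact h j

/-- The class bound. -/
theorem pw_eq_bot (hj : JacobiId β) {F : ZMod p → AddSubgroup L} (hF : GradedFam β F) (i : ZMod p) :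
    pw β F F (∑ e ∈ Finset.range (2 ^ (p - 1) - 1), (p - 1) ^ e) i = ⊥ :=
  pw_eq_bot_of_dser hj _ F hF (fun j => dser_eq_bot hj hF j) i

theorem zmod_three_cases : ∀ i j l : ZMod 3,
    i ≠ 0 → j ≠ 0 → l ≠ 0 → i + j ≠ 0 → i + j + l ≠ 0 → i + l = 0 ∧ j + l = 0 := by
  decide

/-- Class two for three. -/
theorem pw_two_eq_bot_of_three (hj : JacobiId β) (h3 : p = 3) {F : ZMod p → AddSubgroup L}
    (hF : GradedFam β F) (k : ZMod p) : pw β F F 2 k = ⊥ := by
  subst h3
  rw [eq_bot_iff]
  show bk β (bk β F F) F k ≤ ⊥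
  refine bk_le fun m l x c _ hx hc => left_mem_of_closure hx ?_
  rintro _ ⟨i, j, a, b, rfl, ha, hb, rfl⟩
  rw [AddSubgroup.mem_bot]
  have hzero : ∀ {d : ZMod 3} {u : L}, d = 0 → u ∈ F d → u = 0 := fun {d u} hd hu => by
    rwa [hd, hF.zero, AddSubgroup.mem_bot] at hu
  by_cases hi : i = 0
  · simp [hzero hi ha]
  by_cases hj' : j = 0
  · simp [hzero hj' hb]
  by_cases hl : l = 0
  · simp [hzero hl hc]
  by_cases hij : i + j = 0
  · simp [hzero hij (hF.mul ha hb)]
  by_cases hijl : i + j + l = 0
  · exact hzero hijl (hF.mul (hF.mul ha hb) hc)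
  obtain ⟨e1, e2⟩ := zmod_three_cases i j l hi hj' hl hij hijl
  rw [hj a b c, hzero e1 (hF.mul ha hc), hzero e2 (hF.mul hb hc)]
  simp

end CfsgLib.FGS68
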