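import Mathlib

/-!
A unit `x` of `p`-power order normalising an abelian group of units of order prime to `p`, in a ring of
characteristic `p`, does not satisfy `1 + x + ... + x ^ (p ^ n - 1) = 0` unless `x ^ p ^ (n - 1)` centralises it.
-/

set_option autoImplicit false

namespace CfsgLib.FGS68

open Finset

variable {A : Type*} [Ring A] {p : ℕ} [hp : Fact p.Prime]

theorem pow_prime_pow_iterate_eq {M : Type*} [Monoid M] {a : M} {P : ℕ} (h : a ^ P = a) :
    ∀ j, a ^ P ^ j = a := by
  intro j
  induction j with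
  | zero => rw [pow_zero, pow_one]
  | succ j ih => rw [pow_succ, pow_mul, ih, h]

theorem geom_sum_ne_zero (hpA : (p : A) = 0) (Q : Subgroup Aˣ) [Finite Q]
    (hQab : ∀ a ∈ Q, ∀ b ∈ Q, a * b = b * a) (hQcop : (Nat.card Q).Coprime p) (x : Aˣ) (n : ℕ)
    (hn : 1 ≤ n) (hx : x ^ p ^ n = 1) (hxQ : ∀ a ∈ Q, x * a * x⁻¹ ∈ Q)
    (hy : ∃ a ∈ Q, x ^ p ^ (n - 1) * a ≠ a * x ^ p ^ (n - 1)) :
    (∑ i ∈ range (p ^ n), (x : A) ^ i) ≠ 0 := by
  classical
  obtain ⟨q₀, hq₀, hyq⟩ := hy
  haveI : Nontrivial A := by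
    by_contra hA
    rw [not_nontrivial_iff_subsingleton] at hA
    exact hyq (Units.ext (Subsingleton.elim _ _))
  haveI : CharP A p := by
    obtain ⟨c, hc⟩ := CharP.exists A
    rcases (Nat.dvd_prime hp.out).1 ((CharP.cast_eq_zero_iff A c p).1 hpA) with h | h
    · subst h
      exact absurd (CharP.cast_eq_zero A 1) (by rw [Nat.cast_one]; exact one_ne_zero)
    · subst h; exact hc
  intro hsum
  set s : Set A := (fun u : Aˣ => (u : A)) '' (Q : Set Aˣ)
  set R := Subring.closure s
  -- commutativity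
  have hcommR : ∀ a ∈ R, ∀ b ∈ R, a * b = b * a := by
    have h1 : ∀ b ∈ s, ∀ a ∈ R, a * b = b * a := by
      intro b hb a ha
      induction ha using Subring.closure_induction with
      | mem a ha =>
        obtain ⟨u, hu, rfl⟩ := ha
        obtain ⟨v, hv, rfl⟩ := hb
        exact congrArg Units.val (hQab u hu v hv)
      | zero => simp
      | one => simp
      | add a c _ _ h1 h2 => rw [add_mul, mul_add, h1, h2]
      | neg a _ h1 => rw [neg_mul, mul_neg, h1]
      | mul a c _ _ h1 h2 => rw [mul_assoc, h2, ← mul_assoc, h1, mul_assoc]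
    intro a ha b hb
    induction hb using Subring.closure_induction with
    | mem b hb => exact h1 b hb a ha
    | zero => simp
    | one => simp
    | add b c _ _ h1 h2 => rw [mul_add, add_mul, h1, h2]
    | neg b _ h1 => rw [mul_neg, neg_mul, h1]
    | mul b c _ _ h1 h2 => rw [← mul_assoc, h1, mul_assoc, h2, mul_assoc]
  letI : CommRing R :=
    { (inferInstance : Ring R) with mul_comm := fun a b => Subtype.ext (hcommR a a.2 b b.2) }
  -- a Frobenius power fixes `R`
  set f := Nat.totient (Nat.card Q)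
  have hf : 0 < f := Nat.totient_pos.2 Nat.card_pos
  have hgen : ∀ u ∈ Q, (u : A) ^ p ^ f = (u : A) := by
    intro u hu
    have hord : orderOf u ∣ Nat.card Q := Subgroup.orderOf_dvd_natCard Q hu
    have hmod : p ^ f ≡ 1 [MOD Nat.card Q] := Nat.ModEq.pow_totient hQcop.symm
    rw [← Units.val_pow_eq_pow_val, pow_eq_pow_iff_modEq.2 (hmod.of_dvd hord), pow_one]
  have hfrob : ∀ a ∈ R, a ^ p ^ f = a := by
    intro a ha
    induction ha using Subring.closure_induction with
    | mem a ha => obtain ⟨u, hu, rfl⟩ := ha; exact hgen u hu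
    | zero => exact zero_pow (pow_ne_zero _ hp.out.ne_zero)
    | one => exact one_pow _
    | add a c ha hc h1 h2 => rw [add_pow_char_pow_of_commute (p := p) _ (hcommR a ha c hc), h1, h2]
    | neg a ha h1 =>
      have h0 : (a + -a) ^ p ^ f = 0 := by
        rw [add_neg_cancel]; exact zero_pow (pow_ne_zero _ hp.out.ne_zero)
      rw [add_pow_char_pow_of_commute (p := p) _ ((Commute.refl a).neg_right), h1] at h0
      exact eq_neg_of_add_eq_zero_right h0
    | mul a c ha hc h1 h2 => rw [(show Commute a c from hcommR a ha c hc).mul_pow, h1, h2]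
  -- conjugation by powers of `x`
  set σ : ℕ → A → A := fun i a => ((x ^ i : Aˣ) : A) * a * (((x ^ i)⁻¹ : Aˣ) : A)
  have hσ0 : ∀ a, σ 0 a = a := fun a => by simp [σ]
  have hσadd : ∀ i j a, σ i (σ j a) = σ (i + j) a := fun i j a => by
    simp only [σ, pow_add, mul_inv_rev, Units.val_mul, mul_assoc]
  have hσmem1 : ∀ a ∈ R, σ 1 a ∈ R := by
    intro a ha
    induction ha using Subring.closure_induction with
    | mem a ha =>
      obtain ⟨u, hu, rfl⟩ := ha
      refine Subring.subset_closure ⟨x * u * x⁻¹, hxQ u hu, ?_⟩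
      simp [σ]
    | zero => simp [σ, R.zero_mem]
    | one => simp [σ, R.one_mem]
    | add a c _ _ h1 h2 => simpa [σ, mul_add, add_mul] using R.add_mem h1 h2
    | neg a _ h1 => simpa [σ] using R.neg_mem h1
    | mul a c _ _ h1 h2 => simpa [σ, mul_assoc] using R.mul_mem h1 h2
  have hσmem : ∀ i, ∀ a ∈ R, σ i a ∈ R := by
    intro i
    induction i with
    | zero => intro a ha; rwa [hσ0]
    | succ i ih =>
      intro a ha
      rw [show i + 1 = 1 + i by ring, ← hσadd]
      exact hσmem1 _ (ih a ha)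
  have hσcomm : ∀ i a, (x : A) ^ i * a = σ i a * (x : A) ^ i := fun i a => by
    simp only [σ, ← Units.val_pow_eq_pow_val, mul_assoc, Units.inv_mul, mul_one]
  -- a prime not containing the movement of `q₀` under `x ^ p ^ (n - 1)`
  set y := p ^ (n - 1)
  let r₀ : R := ⟨σ y (q₀ : A) - q₀, R.sub_mem (hσmem _ _ (Subring.subset_closure ⟨q₀, hq₀, rfl⟩))
    (Subring.subset_closure ⟨q₀, hq₀, rfl⟩)⟩
  have hr₀ : r₀ ∉ nilradical R := by
    rintro ⟨k, hk⟩
    have h1 : (r₀ : A) ^ k = 0 := by
      have := congrArg Subtype.val hk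
      rwa [SubmonoidClass.coe_pow] at this
    have hfr : (r₀ : A) ^ p ^ f = r₀ := hfrob _ r₀.2
    have hkle : k ≤ (p ^ f) ^ k :=
      (Nat.lt_pow_self (Nat.one_lt_pow hf.ne' hp.out.one_lt)).le
    have h2 : (r₀ : A) = 0 := by
      rw [← pow_prime_pow_iterate_eq hfr k]
      exact pow_eq_zero_of_le hkle h1
    apply hyq
    have h3 : σ y (q₀ : A) = q₀ := sub_eq_zero.1 h2
    refine Units.ext ?_
    rw [Units.val_mul, Units.val_mul, Units.val_pow_eq_pow_val, hσcomm, h3]
  rw [nilradical_eq_sInf, Ideal.mem_sInf] at hr₀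
  push Not at hr₀
  obtain ⟨m, hm, hr₀m⟩ := hr₀
  haveI : m.IsPrime := hm
  -- every non-trivial power moves something modulo `m`
  have hmove : ∀ i, 0 < i → i < p ^ n → ∃ r : R, ((⟨σ i r, hσmem i r r.2⟩ : R) - r) ∉ m := by
    intro i hi0 hin
    by_contra hno
    push Not at hno
    obtain ⟨a, i', hi', hii⟩ := Nat.exists_eq_pow_mul_and_not_dvd hi0.ne' p hp.out.ne_one
    have han : a < n := by
      by_contra h
      have : p ^ n ∣ i := hii ▸ (pow_dvd_pow p (by omega)).trans (Dvd.intro _ rfl)
      have := Nat.le_of_dvd hi0 this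
      omega
    have hcop : i'.Coprime (orderOf (x ^ p ^ a)) := by
      have h1 : orderOf (x ^ p ^ a) ∣ p ^ n := (orderOf_pow_dvd _).trans (orderOf_dvd_of_pow_eq_one hx)
      exact Nat.Coprime.coprime_dvd_right h1 (Nat.Coprime.pow_right n (hp.out.coprime_iff_not_dvd.2 hi').symm)
    obtain ⟨j, hj⟩ := exists_pow_eq_self_of_coprime hcop
    set K := j * p ^ (n - 1 - a)
    have hK : x ^ (i * K) = x ^ y := by
      rw [show i * K = p ^ a * i' * j * p ^ (n - 1 - a) by rw [hii]; ring, pow_mul, pow_mul, pow_mul,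
        hj, ← pow_mul, ← pow_add, show a + (n - 1 - a) = n - 1 by omega]
    have htel : ∀ k, ∀ r : R, ((⟨σ (i * k) r, hσmem _ r r.2⟩ : R) - r) ∈ m := by
      intro k
      induction k with
      | zero =>
        intro r
        rw [show (⟨σ (i * 0) r, hσmem _ r r.2⟩ : R) = r from Subtype.ext (by simp [σ]), sub_self]
        exact m.zero_mem
      | succ k ih =>
        intro r
        have h1 := m.add_mem (hno ⟨σ (i * k) r, hσmem _ r r.2⟩) (ih r)
        convert h1 using 1
        apply Subtype.ext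
        show σ (i * (k + 1)) (r : A) - r = σ i (σ (i * k) r) - σ (i * k) r + (σ (i * k) r - r)
        rw [hσadd, show i * (k + 1) = i + i * k by ring]
        abel
    apply hr₀m
    convert htel K ⟨(q₀ : A), Subring.subset_closure ⟨q₀, hq₀, rfl⟩⟩ using 1
    apply Subtype.ext
    show σ y (q₀ : A) - q₀ = σ (i * K) (q₀ : A) - q₀
    simp only [σ, hK]
  -- elimination
  have helim : ∀ S : Finset ℕ, S ⊆ (range (p ^ n)).erase 0 → ∃ c : ℕ → R,
      (∑ i ∈ range (p ^ n), (c i : A) * (x : A) ^ i) = 0 ∧ (∀ i ∈ S, c i = 0) ∧ c 0 ∉ m := by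
    intro S
    induction S using Finset.induction_on with
    | empty =>
      intro _
      refine ⟨fun _ => 1, ?_, by simp, ?_⟩
      · simpa using hsum
      · exact fun h => hm.ne_top ((Ideal.eq_top_iff_one m).2 h)
    | insert j T hjT ih =>
      intro hsub
      obtain ⟨c, hc, hcT, hc0⟩ := ih fun i hi => hsub (Finset.mem_insert_of_mem hi)
      have hj := hsub (Finset.mem_insert_self j T)
      rw [Finset.mem_erase, Finset.mem_range] at hj
      obtain ⟨r, hr⟩ := hmove j (Nat.pos_of_ne_zero hj.1) hj.2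
      refine ⟨fun i => c i * (⟨σ j r, hσmem _ r r.2⟩ - ⟨σ i r, hσmem _ r r.2⟩), ?_, ?_, ?_⟩
      · have e : ∀ i, ((c i * (⟨σ j r, hσmem _ r r.2⟩ - ⟨σ i r, hσmem _ r r.2⟩) : R) : A) * (x : A) ^ i =
            σ j r * ((c i : A) * (x : A) ^ i) - ((c i : A) * (x : A) ^ i) * r := by
          intro i
          simp only [Subring.coe_mul, AddSubgroupClass.coe_sub]
          rw [mul_sub, sub_mul, hcommR _ (c i).2 _ (hσmem j r r.2)]
          congr 1
          · rw [mul_assoc (σ j r)]
          · rw [mul_assoc (c i : A), ← hσcomm i r, mul_assoc (c i : A)]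
        rw [Finset.sum_congr rfl fun i _ => e i, Finset.sum_sub_distrib, ← Finset.mul_sum,
          ← Finset.sum_mul, hc, mul_zero, zero_mul, sub_zero]
      · intro i hi
        rcases Finset.mem_insert.1 hi with rfl | hi
        · show c i * _ = 0
          rw [sub_self, mul_zero]
        · show c i * _ = 0
          rw [hcT i hi, zero_mul]
      · intro h
        rcases hm.mem_or_mem h with h1 | h1
        · exact hc0 h1
        · refine hr ?_
          convert h1 using 2
          exact Subtype.ext (hσ0 _).symm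
  obtain ⟨c, hc, hc0', hc0⟩ := helim _ subset_rfl
  have h0 : 0 ∈ range (p ^ n) := Finset.mem_range.2 (pow_pos hp.out.pos n)
  rw [← Finset.add_sum_erase _ _ h0, Finset.sum_eq_zero (fun i hi => by rw [hc0' i hi]; simp),
    add_zero, pow_zero, mul_one] at hc
  exact hc0 (by rw [show c 0 = 0 from Subtype.ext hc]; exact m.zero_mem)

end CfsgLib.FGS68
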