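import Cfsg.Agent.Lib.PLocal.UpperSeries
import Cfsg.Agent.Lib.StdForm.ConstrainedAut
import Cfsg.Agent.Lib.FGS68.RegularOrbit
import Cfsg.Agent.Lib.Solvable.CoprimeAction
import Cfsg.Agent.Lib.PLocal.PSolvable
import Cfsg.Agent.Lib.Transfer.PGroup
import Mathlib

/-!
Bounding the `p`-length by the exponent of the Sylow `p`-subgroups, given regular orbits of elements of
maximal order on the Frattini quotient of `O_p(G / O_{p'}(G))`.
-/

set_option autoImplicit false
set_option linter.style.haveILetI false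

open Cfsg

namespace CfsgLib.FGS68

open scoped commutatorElement

universe u

variable {G : Type u} [Group G] {p : ℕ}

theorem comap_pPrimeCore_congr [Finite G] {X Y : Type*} [Group X] [Group Y] {f : G →* X} {g : G →* Y}
    (hf : Function.Surjective f) (hg : Function.Surjective g) (h : f.ker = g.ker) :
    (pPrimeCore p X).comap f = (pPrimeCore p Y).comap g := by
  haveI : Finite X := Finite.of_surjective f hf
  let e : X ≃* Y := ((QuotientGroup.quotientKerEquivOfSurjective f hf).symm.trans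
    (QuotientGroup.quotientMulEquivOfEq h)).trans (QuotientGroup.quotientKerEquivOfSurjective g hg)
  have he : ∀ a, e (f a) = g a := by
    intro a
    have h1 : (QuotientGroup.quotientKerEquivOfSurjective f hf).symm (f a) = QuotientGroup.mk a :=
      (MulEquiv.symm_apply_eq _).mpr rfl
    show QuotientGroup.quotientKerEquivOfSurjective g hg
      (QuotientGroup.quotientMulEquivOfEq h
        ((QuotientGroup.quotientKerEquivOfSurjective f hf).symm (f a))) = g a
    rw [h1]
    rfl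
  have hker : (Nat.card e.toMonoidHom.ker).Coprime p := by
    rw [(MonoidHom.ker_eq_bot_iff _).2 e.injective, Subgroup.card_bot]
    exact Nat.coprime_one_left p
  ext a
  rw [CfsgLib.PLoc.pPrimeCore_eq_comap (f := e.toMonoidHom) e.surjective hker]
  simp only [Subgroup.mem_comap, MulEquiv.coe_toMonoidHom, he]

theorem upperPSeries_one [Finite G] : (upperPSeries p G 1).1 = pPrimeCore p G := by
  rw [show (1 : ℕ) = 2 * 0 + 1 from rfl, CfsgLib.PLoc.upperPSeries_odd]
  refine (CfsgLib.PLoc.pPrimeCore_eq_comap (QuotientGroup.mk'_surjective _) ?_).symm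
  rw [QuotientGroup.ker_mk']
  show (Nat.card (⊥ : Subgroup G)).Coprime p
  rw [Subgroup.card_bot]
  exact Nat.coprime_one_left p

theorem upperPSeries_two [Finite G] : (upperPSeries p G 2).1 = pPrimePCore p G := by
  rw [show (2 : ℕ) = 2 * 0 + 2 from rfl, CfsgLib.PLoc.upperPSeries_even, pPrimePCore]
  refine CfsgLib.PLoc.comap_pCore_congr (QuotientGroup.mk'_surjective _) (QuotientGroup.mk'_surjective _) ?_
  rw [QuotientGroup.ker_mk', QuotientGroup.ker_mk']
  exact upperPSeries_one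

/-- The upper series of `G / O_{p',p}(G)`. -/
theorem comap_upperPSeries [Finite G] {H : Type*} [Group H] (f : G →* H) (hf : Function.Surjective f)
    (hker : f.ker = pPrimePCore p G) :
    ∀ j, (upperPSeries p H j).1.comap f = (upperPSeries p G (j + 2)).1 := by
  intro j
  induction j with
  | zero =>
    rw [upperPSeries_two, ← hker]
    exact MonoidHom.comap_bot f
  | succ j ih =>
    haveI : (upperPSeries p H j).1.Normal := (upperPSeries p H j).2
    haveI : (upperPSeries p G (j + 2)).1.Normal := (upperPSeries p G (j + 2)).2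
    have hs : Function.Surjective ((QuotientGroup.mk' (upperPSeries p H j).1).comp f) :=
      (QuotientGroup.mk'_surjective _).comp hf
    have hk : (QuotientGroup.mk' (upperPSeries p G (j + 2)).1).ker =
        ((QuotientGroup.mk' (upperPSeries p H j).1).comp f).ker := by
      rw [← MonoidHom.comap_ker, QuotientGroup.ker_mk', QuotientGroup.ker_mk', ih]
    rcases Nat.even_or_odd' j with ⟨i, rfl | rfl⟩
    · rw [show 2 * i + 1 + 2 = 2 * (i + 1) + 1 by ring, CfsgLib.PLoc.upperPSeries_odd,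
        CfsgLib.PLoc.upperPSeries_odd, Subgroup.comap_comap]
      exact (comap_pPrimeCore_congr (QuotientGroup.mk'_surjective _) hs
        (by simpa [show 2 * (i + 1) = 2 * i + 2 by ring] using hk)).symm
    · rw [show 2 * i + 1 + 1 + 2 = 2 * (i + 1) + 2 by ring, show 2 * i + 1 + 1 = 2 * i + 2 by ring,
        CfsgLib.PLoc.upperPSeries_even, CfsgLib.PLoc.upperPSeries_even, Subgroup.comap_comap]
      exact (CfsgLib.PLoc.comap_pCore_congr (QuotientGroup.mk'_surjective _) hs
        (by simpa [show 2 * (i + 1) + 1 = 2 * i + 1 + 2 by ring] using hk)).symm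

theorem pLengthLE_succ [Finite G] [(pPrimePCore p G).Normal] {k : ℕ}
    (h : PLengthLE p k (G ⧸ pPrimePCore p G)) : PLengthLE p (k + 1) G := by
  unfold PLengthLE at h ⊢
  have := comap_upperPSeries (QuotientGroup.mk' (pPrimePCore p G)) (QuotientGroup.mk'_surjective _)
    (QuotientGroup.ker_mk' _) (2 * k + 1)
  rw [show 2 * (k + 1) + 1 = 2 * k + 1 + 2 by ring, ← this, h, Subgroup.comap_top]

theorem pLengthLE_zero_of_not_dvd [Finite G] [Fact p.Prime] (h : ¬ p ∣ Nat.card G) :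
    PLengthLE p 0 G := by
  unfold PLengthLE
  rw [show 2 * 0 + 1 = 1 from rfl, upperPSeries_one, eq_top_iff]
  refine CfsgLib.PLoc.le_pPrimeCore_of inferInstance ?_
  rw [Subgroup.card_top]
  exact ((Nat.Prime.coprime_iff_not_dvd Fact.out).2 h).symm

/-- Elements of `p`-power order lift along surjections. -/
theorem exists_pElement_lift [Finite G] [hp : Fact p.Prime] {H : Type*} [Group H] (f : G →* H)
    (hf : Function.Surjective f) {y : H} (hy : ∃ k, y ^ p ^ k = 1) :
    ∃ g : G, (∃ k, g ^ p ^ k = 1) ∧ f g = y := by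
  obtain ⟨g₀, rfl⟩ := hf y
  obtain ⟨k, hk⟩ := hy
  obtain ⟨a, m, hm, ham⟩ := Nat.exists_eq_pow_mul_and_not_dvd (orderOf_pos g₀).ne' p hp.out.ne_one
  have hcop : m.Coprime (orderOf (f g₀)) :=
    Nat.Coprime.coprime_dvd_right (orderOf_dvd_of_pow_eq_one hk)
      (Nat.Coprime.pow_right k ((hp.out.coprime_iff_not_dvd.2 hm).symm))
  obtain ⟨j, hj⟩ := exists_pow_eq_self_of_coprime hcop
  refine ⟨g₀ ^ (m * j), ⟨a, ?_⟩, ?_⟩
  · rw [← pow_mul, show m * j * p ^ a = orderOf g₀ * j by rw [ham]; ring, pow_mul, pow_orderOf_eq_one, one_pow]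
  · rw [map_pow, pow_mul, hj]

/-- All `p`-elements are killed by `p ^ n`. -/
def ExpLE (p n : ℕ) (G : Type*) [Group G] : Prop :=
  ∀ g : G, (∃ k, g ^ p ^ k = 1) → g ^ p ^ n = 1

theorem expLE_of_sylow [Fact p.Prime] {n : ℕ}
    (h : ∀ (P : Sylow p G), ∀ x ∈ (P : Subgroup G), x ^ p ^ n = 1) : ExpLE p n G := by
  rintro g ⟨k, hk⟩
  have hp : IsPGroup p (Subgroup.zpowers g) := by
    rintro ⟨_, i, rfl⟩
    refine ⟨k, Subtype.ext ?_⟩
    show (g ^ i) ^ p ^ k = 1
    rw [← zpow_natCast, ← zpow_mul, mul_comm, zpow_mul, zpow_natCast, hk, one_zpow]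
  obtain ⟨P, hP⟩ := hp.exists_le_sylow
  exact h P g (hP (Subgroup.mem_zpowers g))

theorem ExpLE.of_surjective [Finite G] [Fact p.Prime] {n : ℕ} (h : ExpLE p n G) {H : Type*} [Group H]
    {f : G →* H} (hf : Function.Surjective f) : ExpLE p n H := by
  intro y hy
  obtain ⟨g, hg, rfl⟩ := exists_pElement_lift f hf hy
  rw [← map_pow, h g hg, map_one]

theorem not_dvd_card_of_expLE_zero [Finite G] [Fact p.Prime] (h : ExpLE p 0 G) : ¬ p ∣ Nat.card G := by
  intro hd
  obtain ⟨g, hg⟩ := exists_prime_orderOf_dvd_card' p hd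
  have h1 := h g ⟨1, by rw [pow_one, ← hg, pow_orderOf_eq_one]⟩
  rw [pow_zero, pow_one] at h1
  rw [h1, orderOf_one] at hg
  exact (Fact.out : p.Prime).one_lt.ne hg

/-- The regular orbit condition on `O_p(K)/Φ(O_p(K))`. -/
def RegularCond (p n : ℕ) (K : Type*) [Group K] : Prop :=
  ∀ h : K, h ^ p ^ n ∈ pCore p K → h ^ p ^ (n - 1) ∉ pCore p K →
    ∃ v ∈ pCore p K, (v * h) ^ p ^ n * (h ^ p ^ n)⁻¹ ∉ (frattini (pCore p K)).map (pCore p K).subtype

/-- One step down. -/
theorem pow_mem_pCore_of_regular {K : Type*} [Group K] [Finite K] [Fact p.Prime] {n : ℕ} (hn : 1 ≤ n)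
    (hexp : ExpLE p n K) (hreg : RegularCond p n K) {h : K} (hh : ∃ k, h ^ p ^ k = 1) :
    h ^ p ^ (n - 1) ∈ pCore p K := by
  by_contra hne
  set P₀ := pCore p K
  obtain ⟨v, hv, hvne⟩ := hreg h (by rw [hexp h hh]; exact one_mem _) hne
  have hP₀ : P₀.Normal := CfsgLib.Solvable.pCore_normal (p := p) K
  have hp2 : IsPGroup p ↥(P₀ ⊔ Subgroup.zpowers h) := by
    refine IsPGroup.to_sup_of_normal_left (CfsgLib.Solvable.pCore_isPGroup (p := p) K) ?_
    obtain ⟨k, hk⟩ := hh
    rintro ⟨_, i, rfl⟩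
    refine ⟨k, Subtype.ext ?_⟩
    show (h ^ i) ^ p ^ k = 1
    rw [← zpow_natCast, ← zpow_mul, mul_comm, zpow_mul, zpow_natCast, hk, one_zpow]
  obtain ⟨k, hk⟩ := hp2 ⟨v * h, mul_mem (Subgroup.mem_sup_left hv) (Subgroup.mem_sup_right (Subgroup.mem_zpowers h))⟩
  have h1 : (v * h) ^ p ^ n = 1 := hexp _ ⟨k, congrArg Subtype.val hk⟩
  rw [h1, hexp h hh, inv_one, mul_one] at hvne
  exact hvne (one_mem _)

/-- The exponent drops in `G / O_{p',p}(G)`. -/
theorem expLE_pred [Finite G] [Fact p.Prime] [(pPrimePCore p G).Normal] {n : ℕ} (hn : 1 ≤ n)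
    (hexp : ExpLE p n G) (hreg : RegularCond p n (G ⧸ pPrimeCore p G)) :
    ExpLE p (n - 1) (G ⧸ pPrimePCore p G) := by
  intro y hy
  obtain ⟨g, hg, rfl⟩ := exists_pElement_lift (QuotientGroup.mk' _) (QuotientGroup.mk'_surjective _) hy
  haveI : (pPrimeCore p G).Normal := CfsgLib.Solvable.pPrimeCore_normal p G
  have hg' : ∃ k, (QuotientGroup.mk' (pPrimeCore p G) g) ^ p ^ k = 1 :=
    hg.imp fun k hk => by rw [← map_pow, hk, map_one]
  have h := pow_mem_pCore_of_regular hn (hexp.of_surjective (QuotientGroup.mk'_surjective _)) hreg hg'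
  rw [← map_pow] at h ⊢
  exact (QuotientGroup.eq_one_iff _).2 h

/-- The regular orbit condition holds if all Sylow subgroups for other primes are abelian. -/
theorem regularCond_of_abelian {K : Type*} [Group K] [Finite K] [hp : Fact p.Prime]
    (hsol : IsPSolvable p K) (hO : pPrimeCore p K = ⊥)
    (hab : ∀ (q : ℕ) [Fact q.Prime], q ≠ p → ∀ Q : Sylow q K, IsMulCommutative (Q : Subgroup K))
    (n : ℕ) (hn : 1 ≤ n) : RegularCond p n K := by
  classical
  intro h hh hh'
  by_contra hno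
  push Not at hno
  have hP₀ : (pCore p K).Normal := CfsgLib.Solvable.pCore_normal (p := p) K
  set P₀ := pCore p K
  have hP₀p : IsPGroup p P₀ := CfsgLib.Solvable.pCore_isPGroup (p := p) K
  haveI := hP₀p.isNilpotent
  letI : CommGroup (↥P₀ ⧸ frattini ↥P₀) :=
    { (inferInstance : Group (↥P₀ ⧸ frattini ↥P₀)) with
      mul_comm := fun a b => by
        induction a using QuotientGroup.induction_on with | _ u => ?_
        induction b using QuotientGroup.induction_on with | _ v => ?_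
        rw [← QuotientGroup.mk_mul, ← QuotientGroup.mk_mul, QuotientGroup.eq]
        have : (u * v)⁻¹ * (v * u) = ⁅v⁻¹, u⁻¹⁆ := by simp [commutatorElement_def, mul_assoc]
        rw [this]
        exact CfsgLib.Transfer.commutator_le_frattini
          (Subgroup.commutator_mem_commutator (Subgroup.mem_top _) (Subgroup.mem_top _)) }
  let c := CfsgLib.StdForm.conjQuot P₀ (frattini ↥P₀)
  let ρ₀ : K →* (AddMonoid.End (Additive (↥P₀ ⧸ frattini ↥P₀))) :=
    { toFun := fun x => MonoidHom.toAdditive (c x).toMonoidHom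
      map_one' := by rw [map_one]; rfl
      map_mul' := fun a b => by rw [map_mul]; rfl }
  let U : K →* (AddMonoid.End (Additive (↥P₀ ⧸ frattini ↥P₀)))ˣ := ρ₀.toHomUnits
  have hUv : ∀ (g : K) (v : P₀), (U g : (AddMonoid.End (Additive (↥P₀ ⧸ frattini ↥P₀)))) (Additive.ofMul (v : ↥P₀ ⧸ frattini ↥P₀)) =
      Additive.ofMul ((MulAut.conjNormal g v : P₀) : ↥P₀ ⧸ frattini ↥P₀) := fun _ _ => rfl
  have hker : ∀ g, U g = 1 ↔ ∀ v : P₀, MulAut.conjNormal g v * v⁻¹ ∈ frattini ↥P₀ := by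
    intro g
    rw [← CfsgLib.StdForm.mem_ker_conjQuot, MonoidHom.mem_ker]
    constructor
    · intro hg
      refine MulEquiv.ext fun w => ?_
      exact congrArg (fun t : (AddMonoid.End (Additive (↥P₀ ⧸ frattini ↥P₀)))ˣ => (t : (AddMonoid.End (Additive (↥P₀ ⧸ frattini ↥P₀)))) (Additive.ofMul w)) hg
    · intro hg
      apply Units.ext
      show (MonoidHom.toAdditive (c g).toMonoidHom : AddMonoid.End (Additive (↥P₀ ⧸ frattini ↥P₀))) = (1 : AddMonoid.End (Additive (↥P₀ ⧸ frattini ↥P₀)))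
      rw [show c g = 1 from hg]
      rfl
  have hkerP : U.ker = P₀ := by
    refine le_antisymm ?_ fun x hx => ?_
    · refine CfsgLib.Solvable.le_pCore inferInstance ?_
      rw [IsPGroup.iff_orderOf]
      intro g
      obtain ⟨a, m, hm, ham⟩ := Nat.exists_eq_pow_mul_and_not_dvd (orderOf_pos (g : K)).ne' p hp.out.ne_one
      suffices h0 : (g : K) ^ p ^ a = 1 by
        obtain ⟨b, -, hb⟩ := (Nat.dvd_prime_pow hp.out).1 (orderOf_dvd_of_pow_eq_one h0)
        exact ⟨b, by rw [← Subgroup.orderOf_coe, hb]⟩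
      set g' := (g : K) ^ p ^ a
      have hg' : orderOf g' ∣ m := orderOf_dvd_of_pow_eq_one (by rw [← pow_mul, ← ham, pow_orderOf_eq_one])
      obtain ⟨b, hb⟩ := (hP₀p.to_subgroup (frattini ↥P₀)).exists_card_eq
      have hcm : (orderOf g').Coprime (p ^ b) :=
        Nat.Coprime.coprime_dvd_left hg' (Nat.Coprime.pow_right b (hp.out.coprime_iff_not_dvd.2 hm).symm)
      have hcent := CfsgLib.Solvable.le_centralizer_of_trivial_on_frattini_quotient
        (A := Subgroup.zpowers g') (K := P₀) (by rw [Nat.card_zpowers, hb]; exact hcm)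
        (fun x hx k hk => by
          have hx' : U x = 1 := by
            obtain ⟨i, rfl⟩ := hx
            rw [map_zpow, map_pow, (MonoidHom.mem_ker).1 g.2, one_pow, one_zpow]
          exact ⟨_, (hker x).1 hx' ⟨k, hk⟩, rfl⟩) (Subgroup.mem_zpowers g')
      have hgP : g' ∈ P₀ := CfsgLib.PLoc.centralizer_pCore_le_self hsol hO hcent
      obtain ⟨e, he⟩ := IsPGroup.iff_orderOf.1 hP₀p ⟨g', hgP⟩
      rw [Subgroup.orderOf_mk] at he
      rw [← orderOf_eq_one_iff]
      exact Nat.eq_one_of_dvd_coprimes (Nat.Coprime.pow_left e (hp.out.coprime_iff_not_dvd.2 hm))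
        he.dvd hg'
    · rw [MonoidHom.mem_ker, hker]
      intro v
      have e : MulAut.conjNormal x v * v⁻¹ = ⁅(⟨x, hx⟩ : P₀), v⁆ := by
        apply Subtype.ext
        simp [commutatorElement_def, mul_assoc]
      rw [e]
      exact CfsgLib.Transfer.commutator_le_frattini
        (Subgroup.commutator_mem_commutator (Subgroup.mem_top _) (Subgroup.mem_top _))
  -- `K / P₀`
  set H := K ⧸ P₀
  set π := QuotientGroup.mk' P₀
  have hπ : Function.Surjective π := QuotientGroup.mk'_surjective P₀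
  let Ū : H →* (AddMonoid.End (Additive (↥P₀ ⧸ frattini ↥P₀)))ˣ := QuotientGroup.lift P₀ U hkerP.ge
  have hŪinj : Function.Injective Ū := by
    refine (injective_iff_map_eq_one Ū).2 fun a ha => ?_
    obtain ⟨g, rfl⟩ := hπ a
    exact (QuotientGroup.eq_one_iff g).2 (hkerP ▸ ha)
  have hOH : pCore p H = ⊥ := by
    rw [eq_bot_iff]
    intro a ha
    obtain ⟨g, rfl⟩ := hπ a
    have hle : (pCore p H).comap π ≤ P₀ := CfsgLib.Solvable.le_pCore
      ((CfsgLib.Solvable.pCore_normal (p := p) H).comap π)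
      ((CfsgLib.Solvable.pCore_isPGroup (p := p) H).comap_of_ker_isPGroup π (by
        rw [QuotientGroup.ker_mk']; exact hP₀p))
    exact Subgroup.mem_bot.2 ((QuotientGroup.eq_one_iff g).2 (hle ha))
  set x := π h
  set y := x ^ p ^ (n - 1)
  have hy1 : y ≠ 1 := fun e => hh' ((QuotientGroup.eq_one_iff _).1 (by rw [← e]; rfl))
  have hxn : x ^ p ^ n = 1 := by
    rw [← map_pow]; exact (QuotientGroup.eq_one_iff _).2 hh
  set M := pPrimeCore p H
  haveI hMn : M.Normal := CfsgLib.Solvable.pPrimeCore_normal p H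
  have hMcop : (Nat.card M).Coprime p := CfsgLib.PLoc.pPrimeCore_coprime p
  have hxord : orderOf x ∣ p ^ n := orderOf_dvd_of_pow_eq_one hxn
  have hyM : y ∉ Subgroup.centralizer (M : Set H) := by
    intro hy
    have hyM : y ∈ M := CfsgLib.PLocal.centralizer_pPrimeCore_le_self
      (CfsgLib.PLoc.isPSolvable_of_surjective hπ hsol) hOH hy
    exact hy1 (orderOf_eq_one_iff.1 (Nat.eq_one_of_dvd_coprimes (hMcop.pow_right n)
      (Subgroup.orderOf_dvd_natCard M hyM) ((orderOf_pow_dvd _).trans hxord)))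
  have hcopA : (Nat.card (Subgroup.zpowers x)).Coprime (Nat.card M) := by
    rw [Nat.card_zpowers]
    exact Nat.Coprime.coprime_dvd_left hxord (hMcop.pow_right n).symm
  obtain ⟨q, hq, Q, hQx, hQy⟩ : ∃ q, q.Prime ∧ ∃ Q : Subgroup H, (Q ≤ M ∧ IsPGroup q Q ∧
      Subgroup.zpowers x ≤ Subgroup.normalizer (Q : Set H)) ∧ ¬ ∀ a ∈ Q, Commute y a := by
    by_contra hnone
    push Not at hnone
    apply hyM
    set C := (M ⊓ Subgroup.centralizer {y}).subgroupOf M
    have hC : C = ⊤ := by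
      rw [← Subgroup.index_eq_one]
      by_contra hne
      obtain ⟨q, hq, hqd⟩ := Nat.exists_prime_and_dvd hne
      haveI := Fact.mk hq
      obtain ⟨S, hS⟩ := CfsgLib.Solvable.exists_invariant_sylow (A := Subgroup.zpowers x) (K := M)
        Subgroup.le_normalizer_of_normal hcopA (Or.inl inferInstance) q
      have hall := hnone q hq ((S : Subgroup M).map M.subtype)
        ⟨Subgroup.map_subtype_le _, S.isPGroup'.map _, hS⟩
      have hle : (S : Subgroup M) ≤ C := fun s hs =>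
        ⟨s.2, Subgroup.mem_centralizer_singleton_iff.2 (hall _ ⟨s, hs, rfl⟩).eq.symm⟩
      exact S.not_dvd_index (hqd.trans (Subgroup.index_dvd_of_le hle))
    refine Subgroup.mem_centralizer_iff.2 fun a ha => ?_
    have : (⟨a, ha⟩ : M) ∈ C := hC ▸ Subgroup.mem_top _
    exact Subgroup.mem_centralizer_singleton_iff.1 this.2
  obtain ⟨hQM, hQq, hQn⟩ := hQx
  haveI := Fact.mk hq
  have hqp : q ≠ p := by
    rintro rfl
    refine hQy fun a ha => ?_
    have h1 : a = 1 := by
      obtain ⟨b, hb⟩ := IsPGroup.iff_orderOf.1 hQq ⟨a, ha⟩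
      rw [Subgroup.orderOf_mk] at hb
      exact orderOf_eq_one_iff.1 (Nat.eq_one_of_dvd_coprimes (hMcop.pow_right b)
        (Subgroup.orderOf_dvd_natCard M (hQM ha)) hb.dvd)
    rw [h1]; exact Commute.one_right _
  obtain ⟨S, hS⟩ := hQq.exists_le_sylow
  obtain ⟨S₀, rfl⟩ := Sylow.mapSurjective_surjective hπ q S
  haveI := hab q hqp S₀
  have hQab : ∀ a ∈ Q, ∀ b ∈ Q, a * b = b * a := by
    intro a ha b hb
    have h1 := hS ha
    have h2 := hS hb
    rw [Sylow.coe_mapSurjective] at h1 h2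
    obtain ⟨a', ha', rfl⟩ := h1
    obtain ⟨b', hb', rfl⟩ := h2
    rw [← map_mul, ← map_mul]
    exact congrArg π (congrArg Subtype.val (mul_comm' (⟨a', ha'⟩ : (S₀ : Subgroup K)) ⟨b', hb'⟩))
  have hpA : ((p : ℕ) : (AddMonoid.End (Additive (↥P₀ ⧸ frattini ↥P₀)))) = 0 := by
    refine DFunLike.ext _ _ fun w => ?_
    obtain ⟨w, rfl⟩ := Additive.ofMul.surjective w
    induction w using QuotientGroup.induction_on with | _ v => ?_
    show Additive.ofMul ((v : ↥P₀ ⧸ frattini ↥P₀) ^ p) = 0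
    rw [← QuotientGroup.mk_pow, (QuotientGroup.eq_one_iff _).2 (CfsgLib.Transfer.pow_mem_frattini hP₀p v)]
    rfl
  have hQcop : (Nat.card (Q.map Ū)).Coprime p := by
    refine Nat.Coprime.coprime_dvd_left (Subgroup.card_map_dvd Q Ū) ?_
    exact hMcop.coprime_dvd_left (Subgroup.card_dvd_of_le hQM)
  haveI : Finite (Q.map Ū) := Finite.of_surjective (Ū.subgroupMap Q) (MonoidHom.subgroupMap_surjective _ _)
  have hne : (∑ i ∈ Finset.range (p ^ n), ((Ū x : (AddMonoid.End (Additive (↥P₀ ⧸ frattini ↥P₀)))ˣ) : (AddMonoid.End (Additive (↥P₀ ⧸ frattini ↥P₀)))) ^ i) ≠ 0 := by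
    refine geom_sum_ne_zero hpA (Q.map Ū) ?_ hQcop (Ū x) n hn (by rw [← map_pow, hxn, map_one]) ?_ ?_
    · rintro _ ⟨a, ha, rfl⟩ _ ⟨b, hb, rfl⟩
      rw [← map_mul, ← map_mul, hQab a ha b hb]
    · rintro _ ⟨a, ha, rfl⟩
      exact ⟨x * a * x⁻¹, (Subgroup.mem_normalizer_iff.1 (hQn (Subgroup.mem_zpowers x)) a).1 ha, by simp⟩
    · by_contra hcomm
      push Not at hcomm
      refine hQy fun a ha => hŪinj ?_
      rw [map_mul, map_mul, map_pow]
      exact hcomm _ ⟨a, ha, rfl⟩
  apply hne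
  refine DFunLike.ext _ _ fun w => ?_
  obtain ⟨w, rfl⟩ := Additive.ofMul.surjective w
  induction w using QuotientGroup.induction_on with | _ v => ?_
  have key : ∀ N : ℕ, ∀ hm : ((v : K) * h) ^ N * (h ^ N)⁻¹ ∈ P₀,
      (∑ i ∈ Finset.range N, ((Ū x : (AddMonoid.End (Additive (↥P₀ ⧸ frattini ↥P₀)))ˣ) : (AddMonoid.End (Additive (↥P₀ ⧸ frattini ↥P₀)))) ^ i : (AddMonoid.End (Additive (↥P₀ ⧸ frattini ↥P₀)))) (Additive.ofMul (v : ↥P₀ ⧸ frattini ↥P₀)) =
        Additive.ofMul ((⟨_, hm⟩ : P₀) : ↥P₀ ⧸ frattini ↥P₀) := by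
    intro N
    induction N with
    | zero =>
      intro hm
      rw [show (⟨_, hm⟩ : P₀) = 1 from Subtype.ext (by simp)]
      simp
    | succ N ih =>
      intro hm
      have hconj : h ^ N * (v : K) * (h ^ N)⁻¹ ∈ P₀ := hP₀.conj_mem _ v.2 _
      have hprev : ((v : K) * h) ^ N * (h ^ N)⁻¹ ∈ P₀ := by
        have e : ((v : K) * h) ^ (N + 1) * (h ^ (N + 1))⁻¹ * (h ^ N * (v : K) * (h ^ N)⁻¹)⁻¹ =
            ((v : K) * h) ^ N * (h ^ N)⁻¹ := by
          rw [pow_succ, pow_succ]; simp [mul_assoc]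
        rw [← e]
        exact mul_mem hm (inv_mem hconj)
      have e2 : (⟨_, hm⟩ : P₀) = ⟨_, hprev⟩ * MulAut.conjNormal (h ^ N) v := by
        apply Subtype.ext
        rw [Subgroup.coe_mul, MulAut.conjNormal_apply]
        show ((v : K) * h) ^ (N + 1) * (h ^ (N + 1))⁻¹ = _
        rw [pow_succ, pow_succ]
        simp [mul_assoc]
      rw [Finset.sum_range_succ]
      show (∑ i ∈ Finset.range N, ((Ū x : (AddMonoid.End (Additive (↥P₀ ⧸ frattini ↥P₀)))ˣ) : (AddMonoid.End (Additive (↥P₀ ⧸ frattini ↥P₀)))) ^ i : (AddMonoid.End (Additive (↥P₀ ⧸ frattini ↥P₀)))) _ + (((Ū x : (AddMonoid.End (Additive (↥P₀ ⧸ frattini ↥P₀)))ˣ) : (AddMonoid.End (Additive (↥P₀ ⧸ frattini ↥P₀)))) ^ N) _ = _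
      rw [ih hprev, e2, QuotientGroup.mk_mul, ofMul_mul, ← Units.val_pow_eq_pow_val, ← map_pow]
      rfl
  obtain ⟨t, ht, hte⟩ := hno v v.2
  have hm : ((v : K) * h) ^ p ^ n * (h ^ p ^ n)⁻¹ ∈ P₀ := hte ▸ t.2
  rw [key _ hm, show (⟨_, hm⟩ : P₀) = t from Subtype.ext hte.symm, (QuotientGroup.eq_one_iff t).2 ht]
  rfl

end CfsgLib.FGS68
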