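import Cfsg.Agent.Lib.FGS68.FourFreeBase
import Cfsg.Agent.Lib.LocalStr.Basic
import Cfsg.Agent.Lib.PLocal.ActionStable
import Mathlib

/-!
Primitive pairs of characteristic `p` whose members have abelian Sylow 2-subgroups do not exist:
an amalgam argument on the graph of cosets.
-/

set_option autoImplicit false
set_option linter.style.haveILetI false
set_option linter.unusedSectionVars false

open Cfsg
open scoped commutatorElement
open CfsgLib.PLocal (StableCond)

namespace CfsgLib.FGS68.PrimPair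

variable {G : Type*} [Group G] [Finite G] {p : ℕ} [Fact p.Prime]

/-- Action on an arbitrary normal `p`-subgroup: reduction to the Frattini quotient. -/
theorem isPStableOn_of_cond_any (hp2 : p ≠ 2) {H : Type*} [Group H] [Finite H]
    (hc : StableCond p H) (P : Subgroup H) [P.Normal] (hP : IsPGroup p P) :
    Cfsg.IsPStableOn p P := by
  intro a ha
  haveI := hP.isNilpotent
  set N := (frattini P).map P.subtype with hN
  haveI hNn : N.Normal := inferInstance
  set π := QuotientGroup.mk' N with hπ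
  have hV : Cfsg.IsElementaryAbelian p (P.map π) := by
    refine ⟨Subgroup.le_centralizer_iff_isMulCommutative.mp ?_, ?_⟩
    · rintro _ ⟨x, hx, rfl⟩ _ ⟨y, hy, rfl⟩
      rw [← commutatorElement_eq_one_iff_mul_comm, ← map_commutatorElement, ← MonoidHom.mem_ker,
        hπ, QuotientGroup.ker_mk']
      exact ⟨⁅(⟨y, hy⟩ : P), (⟨x, hx⟩ : P)⁆, CfsgLib.Transfer.commutator_le_frattini
        (Subgroup.commutator_mem_commutator (Subgroup.mem_top _) (Subgroup.mem_top _)), rfl⟩
    · rintro _ ⟨x, hx, rfl⟩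
      rw [← map_pow, ← MonoidHom.mem_ker, hπ, QuotientGroup.ker_mk']
      exact ⟨(⟨x, hx⟩ : P) ^ p, CfsgLib.Transfer.pow_mem_frattini hP _, rfl⟩
  haveI : (P.map π).Normal := Subgroup.Normal.map inferInstance _ (QuotientGroup.mk'_surjective N)
  set C := Subgroup.centralizer (P.map π : Set (H ⧸ N)) with hC
  set W := (Cfsg.pCore p ((H ⧸ N) ⧸ C)).comap (QuotientGroup.mk' C) with hW
  have haW : π a ∈ W := by
    refine CfsgLib.PLocal.isPStableOn_of_cond hp2
      (CfsgLib.PLocal.stableCond_of_surjective (QuotientGroup.mk'_surjective N) hc) (P.map π) hV (π a) ?_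
    rw [← MonoidHom.map_zpowers, ← Subgroup.map_commutator, ← Subgroup.map_commutator, ha,
      Subgroup.map_bot]
  haveI : W.Normal := (CfsgLib.Solvable.pCore_normal p _).comap _
  set D := W.comap π with hD
  haveI hDn : D.Normal := Subgroup.Normal.comap inferInstance _
  set C₀ := Subgroup.centralizer (P : Set H) with hC₀
  suffices h : D.map (QuotientGroup.mk' C₀) ≤ Cfsg.pCore p (H ⧸ C₀) from h ⟨a, haW, rfl⟩
  refine CfsgLib.Solvable.le_pCore (hDn.map _ (QuotientGroup.mk'_surjective _)) ?_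
  rintro ⟨_, x, hx, rfl⟩
  obtain ⟨j, hj⟩ := CfsgLib.Solvable.pCore_isPGroup p ((H ⧸ N) ⧸ C) ⟨_, Subgroup.mem_comap.mp hx⟩
  have hy : π (x ^ p ^ j) ∈ C := by
    rw [← QuotientGroup.eq_one_iff, map_pow, QuotientGroup.mk_pow]
    exact congrArg Subtype.val hj
  set y := x ^ p ^ j with hy0
  have hp := (Fact.out : p.Prime)
  obtain ⟨i, m, hm, he⟩ := Nat.exists_eq_pow_mul_and_not_dvd (orderOf_pos y).ne' p hp.ne_one
  have hz : y ^ p ^ i ∈ C₀ := by
    set z := y ^ p ^ i with hz0
    have hzo : (orderOf z).Coprime p := by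
      rw [hz0, orderOf_pow, he, Nat.gcd_mul_right_left, Nat.mul_div_cancel_left _
        (Nat.pos_of_ne_zero (pow_ne_zero _ hp.ne_zero))]
      exact ((Nat.Prime.coprime_iff_not_dvd hp).mpr hm).symm
    refine (CfsgLib.Solvable.le_centralizer_of_trivial_on_frattini_quotient
      (A := Subgroup.zpowers z) (K := P) ?_ ?_) (Subgroup.mem_zpowers z)
    · obtain ⟨n, hn⟩ := (IsPGroup.iff_card).mp (hP.to_subgroup (frattini P))
      rw [Nat.card_zpowers, hn]
      exact hzo.pow_right n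
    · intro b hb k hk
      have hbc : π b ∈ C := by
        have hle : Subgroup.zpowers (π z) ≤ C :=
          Subgroup.zpowers_le.mpr (by rw [hz0, map_pow]; exact Subgroup.pow_mem _ hy _)
        apply hle
        rw [← MonoidHom.map_zpowers]
        exact Subgroup.mem_map_of_mem π hb
      have h1 : π (b * k * b⁻¹ * k⁻¹) = 1 := by
        simp only [map_mul, map_inv]
        rw [← hbc (π k) (Subgroup.mem_map_of_mem π hk)]
        group
      rwa [← MonoidHom.mem_ker, hπ, QuotientGroup.ker_mk'] at h1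
  refine ⟨j + i, Subtype.ext ?_⟩
  rw [SubgroupClass.coe_pow, ← map_pow, OneMemClass.coe_one, pow_add, pow_mul]
  exact (QuotientGroup.eq_one_iff _).mpr hz

/-- Consequence of stability, stated inside the ambient group. -/
theorem quad_of_cond (hp2 : p ≠ 2) {M V X : Subgroup G} (hc : StableCond p M) (hVM : V ≤ M)
    (hV : IsPGroup p V) (hVn : M ≤ Subgroup.normalizer (V : Set G)) (hXM : X ≤ M)
    (hXc : ∀ x ∈ X, ∀ y ∈ X, Commute x y) (hVX : V ≤ Subgroup.normalizer (X : Set G)) :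
    ∃ D : Subgroup G, D ≤ M ∧ M ≤ Subgroup.normalizer (D : Set G) ∧
      (∀ d ∈ D, ∃ k : ℕ, d ^ (p ^ k) ∈ Subgroup.centralizer (V : Set G)) ∧ X ≤ D := by
  set V' := V.subgroupOf M with hV'
  haveI : V'.Normal := Subgroup.normal_subgroupOf_of_le_normalizer hVn
  have hV'p : IsPGroup p V' := hV.comap_subtype
  set C' := Subgroup.centralizer (V' : Set M) with hC'
  set D' := (Cfsg.pCore p (M ⧸ C')).comap (QuotientGroup.mk' C') with hD'
  haveI : D'.Normal := (CfsgLib.Solvable.pCore_normal p _).comap _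
  have hCC : ∀ x : M, x ∈ C' → (x : G) ∈ Subgroup.centralizer (V : Set G) := fun x hx v hv =>
    congrArg Subtype.val (hx ⟨v, hVM hv⟩ (Subgroup.mem_subgroupOf.mpr hv))
  refine ⟨D'.map M.subtype, Subgroup.map_subtype_le _, ?_, ?_, ?_⟩
  · intro m hm
    refine mem_normalizer_of_cnj_le ?_
    rintro _ ⟨_, ⟨d, hd, rfl⟩, rfl⟩
    exact ⟨_, ‹D'.Normal›.conj_mem d hd ⟨m, hm⟩, by simp⟩
  · rintro _ ⟨d, hd, rfl⟩
    obtain ⟨k, hk⟩ := CfsgLib.Solvable.pCore_isPGroup p (M ⧸ C') ⟨_, Subgroup.mem_comap.mp hd⟩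
    refine ⟨k, hCC (d ^ (p ^ k)) ?_⟩
    rw [← QuotientGroup.eq_one_iff, QuotientGroup.mk_pow]
    exact congrArg Subtype.val hk
  · intro x hx
    refine ⟨⟨x, hXM hx⟩, ?_, rfl⟩
    apply isPStableOn_of_cond_any hp2 hc V' hV'p
    set a : M := ⟨x, hXM hx⟩
    have haX : Subgroup.zpowers a ≤ X.subgroupOf M := Subgroup.zpowers_le.mpr hx
    have h1 : ⁅V', Subgroup.zpowers a⁆ ≤ X.subgroupOf M := by
      rw [Subgroup.commutator_le]
      intro v hv b hb
      have hb' : (b : G) ∈ X := haX hb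
      show (v : G) * b * (v : G)⁻¹ * (b : G)⁻¹ ∈ X
      exact mul_mem ((Subgroup.mem_normalizer_iff.mp (hVX hv) b).mp hb') (inv_mem hb')
    rw [Subgroup.commutator_eq_bot_iff_le_centralizer]
    intro y hy z hz
    exact Subtype.ext (hXc z (haX hz) y (h1 hy)).eq

/-- Data attached to one member of the pair (and its conjugates). -/
structure Good (p : ℕ) (M Z : Subgroup G) : Prop where
  cen : ∀ x ∈ M, (∀ y ∈ pCoreOf p M, Commute y x) → x ∈ pCoreOf p M
  cond : StableCond p M
  Z_le : Z ≤ pCoreOf p M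
  Z_comm : ∀ x ∈ Z, ∀ y ∈ Z, Commute x y
  Z_norm : M ≤ Subgroup.normalizer (Z : Set G)
  red : ∀ D : Subgroup G, D ≤ M → M ≤ Subgroup.normalizer (D : Set G) →
    (∀ d ∈ D, ∃ k : ℕ, d ^ (p ^ k) ∈ Subgroup.centralizer (Z : Set G)) →
      D ≤ Subgroup.centralizer (Z : Set G)

theorem pCoreOf_cnj (g : G) (M : Subgroup G) : pCoreOf p (cnj g M) = cnj g (pCoreOf p M) :=
  (CfsgLib.LocalStr.pCoreOf_map_conj g M).symm

theorem commute_cnj {g x y : G} (h : Commute x y) : Commute (g * x * g⁻¹) (g * y * g⁻¹) := by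
  simpa using h.map (MulAut.conj g).toMonoidHom

theorem Good.cnj {M Z : Subgroup G} (h : Good p M Z) (g : G) :
    Good p (FGS68.cnj g M) (FGS68.cnj g Z) where
  cen := by
    rintro _ ⟨x, hx, rfl⟩ hc
    rw [pCoreOf_cnj] at hc ⊢
    refine ⟨x, h.cen x hx fun y hy => ?_, rfl⟩
    have := commute_cnj (g := g⁻¹) (hc _ (conj_mem_cnj hy))
    simpa [mul_assoc] using this
  cond := CfsgLib.PLocal.stableCond_of_surjective
    (f := (M.equivMapOfInjective _ (MulAut.conj g).injective).toMonoidHom)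
    (M.equivMapOfInjective _ (MulAut.conj g).injective).surjective h.cond
  Z_le := by rw [pCoreOf_cnj]; exact cnj_mono h.Z_le
  Z_comm := by
    rintro _ ⟨x, hx, rfl⟩ _ ⟨y, hy, rfl⟩
    exact (h.Z_comm x hx y hy).map _
  Z_norm := le_normalizer_cnj h.Z_norm
  red := by
    intro D hD hDn hDp d hd
    have e : FGS68.cnj g⁻¹ (FGS68.cnj g M) = M := by rw [cnj_cnj, inv_mul_cancel, cnj_one]
    have h1 : FGS68.cnj g⁻¹ D ≤ Subgroup.centralizer (Z : Set G) := by
      refine h.red _ ?_ ?_ ?_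
      · exact e ▸ cnj_mono hD
      · exact e ▸ le_normalizer_cnj hDn
      · rintro _ ⟨d', hd', rfl⟩
        obtain ⟨k, hk⟩ := hDp d' hd'
        refine ⟨k, ?_⟩
        rw [← map_pow]
        intro z hz
        have := commute_cnj (g := g⁻¹) (hk (g * z * g⁻¹) (conj_mem_cnj hz))
        simpa [mul_assoc] using this.eq
    have h2 := h1 (conj_mem_cnj (g := g⁻¹) hd)
    rintro _ ⟨z, hz, rfl⟩
    have := commute_cnj (g := g) (h2 z hz)
    simpa [mul_assoc] using this.eq

/-- An abelian subgroup normalised by `O_p(M)` lies in it. -/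
theorem Good.le_core {M Z X : Subgroup G} (hp2 : p ≠ 2) (h : Good p M Z) (hXM : X ≤ M)
    (hXc : ∀ x ∈ X, ∀ y ∈ X, Commute x y)
    (hX : pCoreOf p M ≤ Subgroup.normalizer (X : Set G)) : X ≤ pCoreOf p M := by
  have hQp := CfsgLib.LocalStr.isPGroup_pCoreOf (p := p) M
  have hQM : pCoreOf p M ≤ M := Subgroup.map_subtype_le _
  obtain ⟨D, hDM, hDn, hDp, hXD⟩ := quad_of_cond hp2 h.cond hQM hQp
    (CfsgLib.LocalStr.le_normalizer_pCoreOf M) hXM hXc hX
  refine hXD.trans (CfsgLib.LocalStr.le_pCoreOf hDM hDn ?_)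
  rintro ⟨d, hd⟩
  obtain ⟨k, hk⟩ := hDp d hd
  obtain ⟨j, hj⟩ := hQp ⟨_, h.cen _ (pow_mem (hDM hd) _) fun y hy => hk y hy⟩
  refine ⟨k + j, Subtype.ext ?_⟩
  rw [SubgroupClass.coe_pow, pow_add, pow_mul]
  exact congrArg Subtype.val hj

/-- An abelian subgroup normalised by `Z` centralises it. -/
theorem Good.commute_Z {M Z X : Subgroup G} (hp2 : p ≠ 2) (h : Good p M Z) (hXM : X ≤ M)
    (hXc : ∀ x ∈ X, ∀ y ∈ X, Commute x y)
    (hX : Z ≤ Subgroup.normalizer (X : Set G)) : ∀ x ∈ X, ∀ z ∈ Z, Commute z x := by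
  obtain ⟨D, hDM, hDn, hDp, hXD⟩ := quad_of_cond hp2 h.cond
    (h.Z_le.trans (Subgroup.map_subtype_le _))
    ((CfsgLib.LocalStr.isPGroup_pCoreOf (p := p) M).to_le h.Z_le) h.Z_norm hXM hXc hX
  exact fun x hx z hz => h.red D hDM hDn hDp (hXD hx) z hz

/-- The crucial lemma: an abelian subgroup of the core of a neighbour. -/
theorem le_core_of_neighbour (hp2 : p ≠ 2) {M M₂ V X Z : Subgroup G} (h : Good p M Z)
    (hVQ : V ≤ pCoreOf p M) (hVn : M ≤ Subgroup.normalizer (V : Set G))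
    (hC : M ⊓ Subgroup.centralizer (V : Set G) ≤ M₂)
    (hQ₂ : pCoreOf p M₂ ≤ M) (hXQ : X ≤ pCoreOf p M₂)
    (hXc : ∀ x ∈ X, ∀ y ∈ X, Commute x y) (hVX : V ≤ Subgroup.normalizer (X : Set G)) :
    X ≤ pCoreOf p M := by
  classical
  have hQp := CfsgLib.LocalStr.isPGroup_pCoreOf (p := p) M
  have hQ₂p := CfsgLib.LocalStr.isPGroup_pCoreOf (p := p) M₂
  have hQM : pCoreOf p M ≤ M := Subgroup.map_subtype_le _
  obtain ⟨D, hDM, hDn, hDp, hXD⟩ := quad_of_cond hp2 h.cond (hVQ.trans hQM) (hQp.to_le hVQ) hVn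
    (hXQ.trans hQ₂) hXc hVX
  set C := M ⊓ Subgroup.centralizer (V : Set G) with hCdef
  have hCn : M ≤ Subgroup.normalizer (C : Set G) := by
    intro m hm
    refine mem_normalizer_of_cnj_le ?_
    rw [hCdef, cnj_inf, cnj_centralizer, cnj_eq_of_mem (hVn hm), cnj_eq_of_mem_self hm]
  -- commutators of `O_p` of the neighbour with `C`
  have hcomm : ∀ q ∈ pCoreOf p M₂, ∀ c ∈ C, q * c * q⁻¹ * c⁻¹ ∈ pCoreOf p M := by
    intro q hq c hc
    refine CfsgLib.LocalStr.pCoreOf_le_pCoreOf_of_normal inf_le_left hCn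
      (CfsgLib.LocalStr.le_pCoreOf (N := pCoreOf p M₂ ⊓ C) inf_le_right ?_
        (hQ₂p.to_le inf_le_left) (Subgroup.mem_inf.mpr ⟨?_, ?_⟩))
    · intro c' hc'
      refine mem_normalizer_of_cnj_le ?_
      rw [cnj_inf, cnj_eq_of_mem (CfsgLib.LocalStr.le_normalizer_pCoreOf M₂ (hC hc')),
        cnj_eq_of_mem_self hc']
    · rw [mul_assoc, mul_assoc, ← mul_assoc c]
      exact mul_mem hq ((Subgroup.mem_normalizer_iff.mp
        (CfsgLib.LocalStr.le_normalizer_pCoreOf M₂ (hC hc)) _).mp (inv_mem hq))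
    · exact mul_mem ((Subgroup.mem_normalizer_iff.mp (hCn (hQ₂ hq)) c).mp hc) (inv_mem hc)
  -- the quotient by the core
  set Q' := Cfsg.pCore p M with hQ'
  haveI : Q'.Normal := CfsgLib.Solvable.pCore_normal p M
  set π := QuotientGroup.mk' Q' with hπ
  have hπs : Function.Surjective π := QuotientGroup.mk'_surjective _
  haveI hD'n : (D.subgroupOf M).Normal := Subgroup.normal_subgroupOf_of_le_normalizer hDn
  haveI hC'n : (C.subgroupOf M).Normal := Subgroup.normal_subgroupOf_of_le_normalizer hCn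
  haveI : ((D.subgroupOf M).map π).Normal := hD'n.map _ hπs
  haveI : ((C.subgroupOf M).map π).Normal := hC'n.map _ hπs
  set Y := (D.subgroupOf M).map π ⊓
    Subgroup.centralizer ((C.subgroupOf M).map π : Set (M ⧸ Q')) with hY
  haveI : Y.Normal := by rw [hY]; infer_instance
  have hYnil : Group.IsNilpotent Y := by
    refine Group.of_quotient_center_nilpotent ?_
    refine IsPGroup.isNilpotent (p := p) ?_
    intro w
    obtain ⟨⟨w₀, hw₀⟩, rfl⟩ := QuotientGroup.mk'_surjective _ w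
    obtain ⟨d, hd, rfl⟩ := hw₀.1
    obtain ⟨k, hk⟩ := hDp d hd
    refine ⟨k, ?_⟩
    rw [← map_pow]
    refine (QuotientGroup.eq_one_iff _).2 (Subgroup.mem_center_iff.2 fun y => Subtype.ext ?_)
    have h1 : π d ^ p ^ k ∈ (C.subgroupOf M).map π :=
      ⟨d ^ p ^ k, ⟨pow_mem d.2 _, hk⟩, map_pow π d _⟩
    exact (y.2.2 _ h1).symm
  have hnorm : Y.Normal := inferInstance
  intro x hx
  set a : M := ⟨x, hQ₂ (hXQ hx)⟩ with ha
  have haY : π a ∈ Y := by
    refine ⟨⟨a, hXD hx, rfl⟩, ?_⟩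
    rintro _ ⟨c, hc, rfl⟩
    have h1 : π (a * c * a⁻¹ * c⁻¹) = 1 := by
      rw [hπ, QuotientGroup.mk'_apply, QuotientGroup.eq_one_iff]
      exact (CfsgLib.LocalStr.mem_pCoreOf _).1 (hcomm x (hXQ hx) c hc)
    rw [← commutatorElement_def, map_commutatorElement,
      commutatorElement_eq_one_iff_mul_comm] at h1
    exact h1.symm
  have hT : ∀ T : Sylow p Y, (⟨π a, haY⟩ : Y) ∈ (T : Subgroup Y) := by
    intro T
    haveI : (T : Subgroup Y).Normal :=
      Sylow.normal_of_normalizerCondition Group.normalizerCondition_of_isNilpotent T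
    obtain ⟨j, hj⟩ := hQ₂p ⟨x, hXQ hx⟩
    have hz : IsPGroup p (Subgroup.zpowers (⟨π a, haY⟩ : Y)) := by
      refine IsPGroup.of_card (n := (Nat.card (Subgroup.zpowers (⟨π a, haY⟩ : Y))).factorization p) ?_
      have hdvd : orderOf (⟨π a, haY⟩ : Y) ∣ p ^ j := by
        refine orderOf_dvd_of_pow_eq_one (Subtype.ext ?_)
        rw [SubgroupClass.coe_pow, OneMemClass.coe_one, ← map_pow]
        have : a ^ p ^ j = 1 := Subtype.ext (by
          rw [SubgroupClass.coe_pow]; exact congrArg Subtype.val hj)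
        rw [this, map_one]
      obtain ⟨i, -, hi⟩ := (Nat.dvd_prime_pow (Fact.out : p.Prime)).1 hdvd
      rw [Nat.card_zpowers, hi, Nat.factorization_pow, Finsupp.smul_apply,
        (Fact.out : p.Prime).factorization_self, smul_eq_mul, mul_one]
    exact (T.is_maximal' (hz.to_sup_of_normal_right T.2) le_sup_right).le
      (Subgroup.mem_sup_left (Subgroup.mem_zpowers _))
  obtain ⟨T⟩ : Nonempty (Sylow p Y) := inferInstance
  haveI : (T : Subgroup Y).Normal :=
    Sylow.normal_of_normalizerCondition Group.normalizerCondition_of_isNilpotent T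
  haveI := Sylow.characteristic_of_normal T ‹_›
  have hbot : (T : Subgroup Y).map Y.subtype ≤ Cfsg.pCore p (M ⧸ Q') :=
    CfsgLib.Solvable.le_pCore inferInstance (T.2.map _)
  rw [CfsgLib.Solvable.pCore_quotient_eq_bot Q' rfl] at hbot
  have h1 : π a = 1 := hbot ⟨_, hT T, rfl⟩
  rw [hπ, QuotientGroup.mk'_apply, QuotientGroup.eq_one_iff] at h1
  exact ⟨a, h1, rfl⟩

/-- A primitive pair with the derived data. -/
structure Data (p : ℕ) (M Z : Bool → Subgroup G) : Prop where
  good : ∀ i, Good p (M i) (Z i)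
  core_le : ∀ i, pCoreOf p (M i) ≤ M (!i)
  prim : ∀ i, ∀ A : Subgroup G, A ≠ ⊥ → A ≤ M i ⊓ M (!i) →
    M i ≤ Subgroup.normalizer (A : Set G) → M (!i) ⊓ Subgroup.normalizer (A : Set G) ≤ M i
  Z_ne : ∀ i, Z i ≠ ⊥
  not_le : ¬ ∀ i, M i ≤ M (!i)

section Graph

variable (p) (M Z : Bool → Subgroup G)

/-- The member attached to a vertex. -/
abbrev Mv (v : Bool × G) : Subgroup G := cnj v.2 (M v.1)

/-- The abelian subgroup attached to a vertex. -/
abbrev Zv (v : Bool × G) : Subgroup G := cnj v.2 (Z v.1)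

/-- Two cosets meet. -/
def Adj (v w : Bool × G) : Prop :=
  w.1 = !v.1 ∧ ∃ a ∈ M v.1, ∃ b ∈ M w.1, w.2 = v.2 * a * b

/-- The subgroup generated by the `Z` of the neighbours. -/
def nbr (u : Bool × G) : Subgroup G :=
  Subgroup.closure {x | ∃ v, Adj M u v ∧ x ∈ Zv Z v}

/-- A path in the coset graph. -/
def Path (n : ℕ) (f : ℕ → Bool × G) : Prop := ∀ k, k < n → Adj M (f k) (f (k + 1))

variable {p M Z}

theorem Adj.symm {v w : Bool × G} (h : Adj M v w) : Adj M w v := by
  obtain ⟨h1, a, ha, b, hb, h2⟩ := h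
  exact ⟨by rw [h1, Bool.not_not], b⁻¹, inv_mem hb, a⁻¹, inv_mem ha, by rw [h2]; group⟩

theorem Adj.act {v w : Bool × G} (h : Adj M v w) (g : G) :
    Adj M (v.1, g * v.2) (w.1, g * w.2) := by
  obtain ⟨h1, a, ha, b, hb, h2⟩ := h
  exact ⟨h1, a, ha, b, hb, by simp only [h2, mul_assoc]⟩

theorem Adj.exists_conj (D : Data p M Z) {v w : Bool × G} (h : Adj M v w) :
    ∃ i k, Mv M v = cnj k (M i) ∧ Mv M w = cnj k (M (!i)) ∧ Zv Z v = cnj k (Z i) ∧
      Zv Z w = cnj k (Z (!i)) := by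
  obtain ⟨h1, a, ha, b, hb, h2⟩ := h
  rw [h1] at hb
  refine ⟨v.1, v.2 * a, ?_, ?_, ?_, ?_⟩ <;> dsimp only [Mv, Zv] <;> rw [← cnj_cnj]
  · rw [cnj_eq_of_mem_self ha]
  · rw [h1, h2, cnj_cnj, ← cnj_cnj (v.2 * a) b, cnj_eq_of_mem_self hb]
  · rw [cnj_eq_of_mem ((D.good v.1).Z_norm ha)]
  · rw [h1, h2, cnj_cnj, ← cnj_cnj (v.2 * a) b, cnj_eq_of_mem ((D.good _).Z_norm hb)]

theorem goodv (D : Data p M Z) (v : Bool × G) : Good p (Mv M v) (Zv Z v) := (D.good v.1).cnj v.2

theorem core_le_of_adj (D : Data p M Z) {v w : Bool × G} (h : Adj M v w) :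
    pCoreOf p (Mv M v) ≤ Mv M w := by
  obtain ⟨i, k, e1, e2, -, -⟩ := h.exists_conj D
  rw [e1, e2, pCoreOf_cnj]
  exact cnj_mono (D.core_le i)

theorem inf_normalizer_le (D : Data p M Z) {v w : Bool × G} (h : Adj M v w) :
    Mv M v ⊓ Subgroup.normalizer (Zv Z w : Set G) ≤ Mv M w := by
  obtain ⟨i, k, e1, e2, -, e4⟩ := h.exists_conj D
  rw [e1, e2, e4]
  have hb : M i ⊓ Subgroup.normalizer (Z (!i) : Set G) ≤ M (!i) := by
    have h1 := D.prim (!i) (Z (!i)) (D.Z_ne _)
      (le_inf ((D.good _).Z_le.trans (Subgroup.map_subtype_le _))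
        ((D.good _).Z_le.trans (D.core_le _)))
      (D.good _).Z_norm
    rwa [Bool.not_not] at h1
  rintro x ⟨⟨y, hy, rfl⟩, hx2⟩
  refine ⟨y, hb ⟨hy, ?_⟩, rfl⟩
  refine mem_normalizer_of_cnj_le ?_
  have hx3 := cnj_eq_of_mem hx2
  rw [cnj_cnj] at hx3
  have := congrArg (cnj k⁻¹) hx3
  rw [cnj_cnj, cnj_cnj, inv_mul_cancel, cnj_one] at this
  refine le_of_eq ?_
  convert this using 2
  simp [mul_assoc]

theorem Z_le_core (hp2 : p ≠ 2) (D : Data p M Z) {u v : Bool × G} (h : Adj M u v) :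
    Zv Z v ≤ pCoreOf p (Mv M u) :=
  (goodv D u).le_core hp2 ((goodv D v).Z_le.trans (core_le_of_adj D h.symm)) (goodv D v).Z_comm
    ((core_le_of_adj D h).trans (goodv D v).Z_norm)

theorem Zv_commute (hp2 : p ≠ 2) (D : Data p M Z) {u v v' : Bool × G} (h : Adj M u v)
    (h' : Adj M u v') : ∀ x ∈ Zv Z v, ∀ y ∈ Zv Z v', Commute x y := fun x hx y hy =>
  ((goodv D v').commute_Z hp2 ((Z_le_core hp2 D h).trans (core_le_of_adj D h'))
    (goodv D v).Z_comm
    ((Z_le_core hp2 D h').trans ((core_le_of_adj D h).trans (goodv D v).Z_norm)) x hx y hy).symm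

theorem nbr_comm (hp2 : p ≠ 2) (D : Data p M Z) (u : Bool × G) :
    ∀ x ∈ nbr M Z u, ∀ y ∈ nbr M Z u, Commute x y := by
  have h1 : nbr M Z u ≤ Subgroup.centralizer {x | ∃ v, Adj M u v ∧ x ∈ Zv Z v} := by
    rw [nbr, Subgroup.closure_le]
    rintro x ⟨v, hv, hx⟩ y ⟨w, hw, hy⟩
    exact Zv_commute hp2 D hw hv y hy x hx
  intro x hx y hy
  rw [← Subgroup.centralizer_closure] at h1
  exact (h1 hx y hy).symm

theorem nbr_le_core (hp2 : p ≠ 2) (D : Data p M Z) (u : Bool × G) :
    nbr M Z u ≤ pCoreOf p (Mv M u) := by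
  rw [nbr, Subgroup.closure_le]
  rintro x ⟨v, hv, hx⟩
  exact Z_le_core hp2 D hv hx

theorem nbr_norm (u : Bool × G) : Mv M u ≤ Subgroup.normalizer (nbr M Z u : Set G) := by
  intro m hm
  refine mem_normalizer_of_cnj_le ?_
  rw [nbr, cnj, MonoidHom.map_closure, Subgroup.closure_le]
  rintro _ ⟨x, ⟨v, hv, hx⟩, rfl⟩
  refine Subgroup.subset_closure ⟨(v.1, m * v.2), ?_, ?_⟩
  · obtain ⟨h1, a, ha, b, hb, h2⟩ := hv
    obtain ⟨n, hn, rfl⟩ := hm
    exact ⟨h1, n * a, mul_mem hn ha, b, hb, by simp [h2, mul_assoc]⟩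
  · show _ ∈ cnj (m * v.2) (Z v.1)
    rw [← cnj_cnj]
    exact conj_mem_cnj hx

theorem nbr_centralizer_le (D : Data p M Z) {u v : Bool × G} (h : Adj M u v) :
    Mv M u ⊓ Subgroup.centralizer (nbr M Z u : Set G) ≤ Mv M v := by
  refine le_trans (inf_le_inf_left _ ?_) (inf_normalizer_le D h)
  refine le_trans (Subgroup.centralizer_le ?_) (Subgroup.centralizer_le_normalizer _)
  exact fun x hx => Subgroup.subset_closure ⟨v, h, hx⟩

theorem path_Z_le (hp2 : p ≠ 2) (D : Data p M Z) : ∀ (n : ℕ) (f : ℕ → Bool × G),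
    Path M n f → Zv Z (f 0) ≤ pCoreOf p (Mv M (f n)) := by
  intro n
  induction n with
  | zero => intro f _; exact (goodv D _).Z_le
  | succ n IH =>
    intro f hf
    rcases Nat.eq_zero_or_pos n with hn | hn
    · subst hn
      exact Z_le_core hp2 D (hf 0 zero_lt_one).symm
    have hβθ : nbr M Z (f 1) ≤ pCoreOf p (Mv M (f (n + 1))) := by
      have hadj : Adj M (f (n + 1)) (f n) := (hf n (by omega)).symm
      have hβ : nbr M Z (f 1) ≤ pCoreOf p (Mv M (f n)) := by
        rw [nbr, Subgroup.closure_le]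
        rintro x ⟨v, hv, hx⟩
        have h1 := IH (fun k => if k = 0 then v else f k) ?_
        · simp only [if_neg hn.ne', if_pos rfl] at h1
          exact h1 (by simpa using hx)
        · intro k hk
          rcases Nat.eq_zero_or_pos k with hk0 | hk0
          · subst hk0; simpa using hv.symm
          · simpa [hk0.ne'] using hf k (by omega)
      have hθ : nbr M Z (f (n + 1)) ≤ pCoreOf p (Mv M (f 2)) := by
        rw [nbr, Subgroup.closure_le]
        rintro x ⟨v, hv, hx⟩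
        have h1 := IH (fun k => if k = 0 then v else f (n + 2 - k)) ?_
        · simp only [if_neg hn.ne', if_pos rfl, show n + 2 - n = 2 by omega] at h1
          exact h1 (by simpa using hx)
        · intro k hk
          rcases Nat.eq_zero_or_pos k with hk0 | hk0
          · subst hk0; simpa using hv.symm
          · have h2 := (hf (n + 1 - k) (by omega)).symm
            simpa [hk0.ne', show n + 1 - k + 1 = n + 2 - k by omega,
              show n + 2 - (k + 1) = n + 1 - k by omega] using h2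
      exact le_core_of_neighbour hp2 (goodv D _) (nbr_le_core hp2 D _) (nbr_norm _)
        (nbr_centralizer_le D hadj) (core_le_of_adj D hadj.symm) hβ (nbr_comm hp2 D _)
        (hθ.trans ((core_le_of_adj D (hf 1 (by omega)).symm).trans (nbr_norm _)))
    exact fun x hx => hβθ (Subgroup.subset_closure ⟨f 0, (hf 0 (by omega)).symm, hx⟩)

theorem Data.false_of_odd (hp2 : p ≠ 2) (D : Data p M Z) : False := by
  classical
  set base : Bool × G := (true, 1) with hbase
  set S : Set G := {x | ∃ n f, Path M n f ∧ f n = base ∧ x ∈ Zv Z (f 0)} with hS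
  set W := Subgroup.closure S with hW
  have hbM : ∀ i : Bool, Mv M (i, 1) = M i := fun i => cnj_one _
  have hbadj : Adj M base (false, 1) := ⟨rfl, 1, one_mem _, 1, one_mem _, by simp [hbase]⟩
  have hW1 : W ≤ pCoreOf p (M true) := by
    rw [hW, Subgroup.closure_le]
    rintro x ⟨n, f, hf, hfn, hx⟩
    have := path_Z_le hp2 D n f hf hx
    rwa [hfn, hbase, hbM] at this
  have hW2 : W ≤ pCoreOf p (M false) := by
    rw [hW, Subgroup.closure_le]
    rintro x ⟨n, f, hf, hfn, hx⟩
    have h1 := path_Z_le hp2 D (n + 1) (fun k => if k ≤ n then f k else (false, 1)) ?_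
    · simp only [Nat.zero_le, if_true, if_neg (show ¬ n + 1 ≤ n by omega), hbM] at h1
      exact h1 hx
    · intro k hk
      rcases Nat.lt_or_ge k n with h | h
      · simpa [h.le, Nat.succ_le_of_lt h] using hf k h
      · obtain rfl : k = n := by omega
        simpa [hfn] using hbadj
  have hB : ∀ i, W ≤ M i ⊓ M (!i) := by
    intro i
    cases i
    · exact le_inf (hW2.trans (Subgroup.map_subtype_le _)) (hW1.trans (Subgroup.map_subtype_le _))
    · exact le_inf (hW1.trans (Subgroup.map_subtype_le _)) (hW2.trans (Subgroup.map_subtype_le _))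
  have hne : W ≠ ⊥ := by
    intro h
    apply D.Z_ne true
    rw [eq_bot_iff, ← h]
    intro x hx
    exact Subgroup.subset_closure ⟨0, fun _ => base, fun k hk => absurd hk (Nat.not_lt_zero k),
      rfl, by rwa [hbase, Zv, cnj_one]⟩
  have hinv : ∀ i, M i ≤ Subgroup.normalizer (W : Set G) := by
    intro i g hg
    refine mem_normalizer_of_cnj_le ?_
    rw [hW, cnj, MonoidHom.map_closure, Subgroup.closure_le]
    rintro _ ⟨x, ⟨n, f, hf, hfn, hx⟩, rfl⟩
    have hx' : MulAut.conj g x ∈ Zv Z ((f 0).1, g * (f 0).2) := by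
      show _ ∈ cnj (g * (f 0).2) (Z (f 0).1)
      rw [← cnj_cnj]
      exact conj_mem_cnj hx
    refine Subgroup.subset_closure ?_
    cases i
    · refine ⟨n + 2, fun k => if k ≤ n then ((f k).1, g * (f k).2)
        else if k = n + 1 then (false, 1) else base, ?_, by simp, by simpa using hx'⟩
      intro k hk
      rcases Nat.lt_or_ge k n with h | h
      · simpa [h.le, Nat.succ_le_of_lt h] using (hf k h).act g
      rcases h.lt_or_eq with h | h
      · obtain rfl : k = n + 1 := by omega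
        simpa using hbadj.symm
      · subst h
        simp only [le_refl, if_true, if_neg (show ¬ n + 1 ≤ n by omega), hfn, hbase]
        exact ⟨rfl, 1, one_mem _, g⁻¹, inv_mem hg, by simp⟩
    · rcases Nat.eq_zero_or_pos n with hn | hn
      · subst hn
        refine ⟨0, fun _ => base, fun k hk => absurd hk (Nat.not_lt_zero k), rfl, ?_⟩
        rw [hfn, hbase, mul_one] at hx'
        simpa [hbase, Zv, cnj_one, cnj_eq_of_mem ((D.good true).Z_norm hg)] using hx'
      refine ⟨n, fun k => if k < n then ((f k).1, g * (f k).2) else base, ?_, by simp,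
        by simpa [hn] using hx'⟩
      intro k hk
      have h1 := (hf k hk).act g
      rcases Nat.lt_or_ge (k + 1) n with h | h
      · simpa [hk, h] using h1
      · obtain rfl : k + 1 = n := by omega
        rw [hfn, hbase, mul_one] at h1
        obtain ⟨e1, a, ha, b, hb, e2⟩ := h1
        simp only [hk, if_true, lt_irrefl, if_false, hbase]
        exact ⟨e1, a, ha, b * g⁻¹, mul_mem hb (inv_mem hg), by
          rw [← mul_assoc, ← e2, mul_inv_cancel]⟩
  exact D.not_le fun i => by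
    have h1 := D.prim (!i) W hne (hB _) (hinv _)
    rw [Bool.not_not] at h1
    exact (le_inf le_rfl (hinv i)).trans h1

end Graph

/-- Existence of the data. -/
theorem good_exists {M : Subgroup G} (hM : M ≠ ⊥) (hcond : StableCond p M)
    (hcen : Subgroup.centralizer (Cfsg.pCore p M : Set M) ≤ Cfsg.pCore p M) :
    ∃ Z : Subgroup G, Good p M Z ∧ Z ≠ ⊥ := by
  classical
  obtain ⟨S⟩ : Nonempty (Sylow p M) := inferInstance
  set Q := Cfsg.pCore p M with hQ
  haveI : Q.Normal := CfsgLib.Solvable.pCore_normal p M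
  set A : Subgroup M := (S : Subgroup M) ⊓ Subgroup.centralizer ((S : Subgroup M) : Set M) with hA
  set Z₀ : Subgroup M := Subgroup.normalClosure (A : Set M) with hZ₀
  have hAQ : A ≤ Q := fun a ha => hcen fun y hy =>
    (ha.2 y (CfsgLib.Solvable.pCore_le_sylow S hy))
  have hAC : A ≤ Subgroup.centralizer (Q : Set M) := fun a ha y hy =>
    ha.2 y (CfsgLib.Solvable.pCore_le_sylow S hy)
  have hZQ : Z₀ ≤ Q := Subgroup.normalClosure_le_normal hAQ
  have hZC : Z₀ ≤ Subgroup.centralizer (Q : Set M) := Subgroup.normalClosure_le_normal hAC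
  have hA1 : A ≠ ⊥ := by
    have hQ1 : Q ≠ ⊥ := by
      intro h
      apply hM
      rw [eq_bot_iff]
      intro x hx
      have h1 : (⟨x, hx⟩ : M) ∈ Q := hcen fun y hy => by
        rw [h] at hy
        rw [Subgroup.mem_bot.1 hy, one_mul, mul_one]
      rw [h, Subgroup.mem_bot] at h1
      exact congrArg Subtype.val h1
    haveI : Nontrivial (S : Subgroup M) := by
      rw [Subgroup.nontrivial_iff_ne_bot]
      exact fun h => hQ1 (le_bot_iff.1 (h ▸ CfsgLib.Solvable.pCore_le_sylow S))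
    obtain ⟨⟨c, hc⟩, hc1⟩ := Subgroup.ne_bot_iff_exists_ne_one.1
      (S.2.bot_lt_center).ne'
    intro h
    have : (c : M) ∈ A := ⟨c.2, fun y hy => congrArg Subtype.val
      (Subgroup.mem_center_iff.1 hc ⟨y, hy⟩)⟩
    rw [h, Subgroup.mem_bot] at this
    exact hc1 (Subtype.ext (Subtype.ext this))
  refine ⟨Z₀.map M.subtype, ⟨?_, hcond, Subgroup.map_mono hZQ, ?_, ?_, ?_⟩, ?_⟩
  · intro x hx hc
    refine ⟨⟨x, hx⟩, hcen fun y hy => Subtype.ext (hc y ⟨y, hy, rfl⟩).eq, rfl⟩
  · rintro _ ⟨x, hx, rfl⟩ _ ⟨y, hy, rfl⟩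
    exact Commute.map ((hZC hy x (hZQ hx))) M.subtype
  · intro m hm
    refine mem_normalizer_of_cnj_le ?_
    rintro _ ⟨_, ⟨d, hd, rfl⟩, rfl⟩
    exact ⟨_, (Subgroup.normalClosure_normal : Z₀.Normal).conj_mem d hd ⟨m, hm⟩, by simp⟩
  · intro D hDM hDn hDp
    haveI : (D.subgroupOf M).Normal := Subgroup.normal_subgroupOf_of_le_normalizer hDn
    set C' := Subgroup.centralizer (Z₀ : Set M) with hC'
    haveI : C'.Normal := inferInstance
    set π := QuotientGroup.mk' C' with hπ
    have hπs : Function.Surjective π := QuotientGroup.mk'_surjective _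
    haveI : ((D.subgroupOf M).map π).Normal := Subgroup.Normal.map inferInstance _ hπs
    have hpg : IsPGroup p ((D.subgroupOf M).map π) := by
      rintro ⟨_, d, hd, rfl⟩
      obtain ⟨k, hk⟩ := hDp d hd
      refine ⟨k, Subtype.ext ?_⟩
      rw [SubgroupClass.coe_pow, ← map_pow, hπ, QuotientGroup.mk'_apply, OneMemClass.coe_one,
        QuotientGroup.eq_one_iff]
      exact fun z hz => Subtype.ext (hk z ⟨z, hz, rfl⟩)
    have hle := hpg.le_sylow_of_normal (S.mapSurjective hπs)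
    rw [Sylow.coe_mapSurjective] at hle
    have hDA : D.subgroupOf M ≤ Subgroup.centralizer (A : Set M) := by
      intro d hd
      obtain ⟨s, hs, hsd⟩ := hle ⟨d, hd, rfl⟩
      have h1 : s⁻¹ * d ∈ C' := QuotientGroup.eq.1 hsd
      have h2 : C' ≤ Subgroup.centralizer (A : Set M) :=
        Subgroup.centralizer_le Subgroup.le_normalClosure
      have h3 : s ∈ Subgroup.centralizer (A : Set M) := fun a ha => (ha.2 s hs).symm
      simpa using mul_mem h3 (h2 h1)
    have hAD : A ≤ Subgroup.centralizer (D.subgroupOf M : Set M) := Subgroup.le_centralizer_iff.1 hDA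
    have hZD : Z₀ ≤ Subgroup.centralizer (D.subgroupOf M : Set M) :=
      Subgroup.normalClosure_le_normal hAD
    rintro d hd _ ⟨z, hz, rfl⟩
    exact (congrArg Subtype.val (hZD hz ⟨d, hDM hd⟩ hd)).symm
  · intro h
    rw [Subgroup.map_eq_bot_iff_of_injective _ M.subtype_injective] at h
    exact hA1 (le_bot_iff.1 (h ▸ Subgroup.le_normalClosure))

/-- No primitive pair of characteristic `p` with abelian Sylow 2-subgroups. -/
theorem main (M : Bool → Subgroup G) (hne : M true ≠ M false)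
    (hprim : ∀ i, ∀ A : Subgroup G, A ≠ ⊥ → A ≤ M i ⊓ M (!i) →
      M i ≤ Subgroup.normalizer (A : Set G) → M (!i) ⊓ Subgroup.normalizer (A : Set G) ≤ M i)
    (hcen : ∀ i, Subgroup.centralizer (Cfsg.pCore p (M i) : Set (M i)) ≤ Cfsg.pCore p (M i))
    (hcore : ∀ i, pCoreOf p (M i) ≤ M (!i))
    (hab : ∀ i, ∀ T : Sylow 2 (M i), IsMulCommutative (T : Subgroup (M i))) : False := by
  classical
  have hcen' : ∀ i, ∀ x ∈ M i, (∀ y ∈ pCoreOf p (M i), Commute y x) → x ∈ pCoreOf p (M i) :=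
    fun i x hx hc => ⟨⟨x, hx⟩, hcen i fun y hy => Subtype.ext (hc y ⟨y, hy, rfl⟩).eq, rfl⟩
  have hbot : ∀ i, M i ≠ ⊥ := by
    intro i h
    have h0 : M (!i) = ⊥ := by
      rw [eq_bot_iff]
      intro x hx
      have hQ : pCoreOf p (M (!i)) = ⊥ := by
        have h2 := hcore (!i)
        rw [Bool.not_not, h] at h2
        exact le_bot_iff.1 h2
      have := hcen' (!i) x hx fun y hy => by
        rw [hQ, Subgroup.mem_bot] at hy
        rw [hy]; exact Commute.one_left x
      rwa [hQ] at this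
    cases i
    · exact hne (h0.trans h.symm)
    · exact hne (h.trans h0.symm)
  have hnot : ¬ ∀ i, M i ≤ M (!i) := fun h => hne (le_antisymm (h true) (h false))
  by_cases hp2 : p = 2
  · subst hp2
    have key : ∀ i, pCoreOf 2 (M (!i)) ≤ pCoreOf 2 (M i) := by
      intro i
      have hQ : pCoreOf 2 (M (!i)) ≤ M i := by
        have h1 := hcore (!i)
        rwa [Bool.not_not] at h1
      intro x hx
      refine hcen' i x (hQ hx) fun y hy => ?_
      haveI : (Cfsg.pCore 2 (M i)).Normal := CfsgLib.Solvable.pCore_normal 2 (M i)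
      have hR : IsPGroup 2 ((pCoreOf 2 (M (!i))).subgroupOf (M i) ⊔ Cfsg.pCore 2 (M i) : Subgroup (M i)) :=
        ((CfsgLib.LocalStr.isPGroup_pCoreOf (p := 2) (M (!i))).comap_subtype).to_sup_of_normal_right
          (CfsgLib.Solvable.pCore_isPGroup 2 (M i))
      obtain ⟨T, hT⟩ := hR.exists_le_sylow
      obtain ⟨y', hy', rfl⟩ := hy
      have := Subgroup.le_centralizer_iff_isMulCommutative.2 (hab i T)
        (hT (Subgroup.mem_sup_left (show (⟨x, hQ hx⟩ : M i) ∈
          (pCoreOf 2 (M (!i))).subgroupOf (M i) from hx))) y' (hT (Subgroup.mem_sup_right hy'))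
      exact congrArg Subtype.val this
    have heq : ∀ i, pCoreOf 2 (M (!i)) = pCoreOf 2 (M i) := fun i =>
      le_antisymm (key i) (by have h1 := key (!i); rwa [Bool.not_not] at h1)
    refine hnot fun i => ?_
    have hne' : pCoreOf 2 (M (!i)) ≠ ⊥ := by
      intro h
      apply hbot (!i)
      rw [eq_bot_iff]
      intro x hx
      have := hcen' (!i) x hx fun y hy => by
        rw [h, Subgroup.mem_bot] at hy
        rw [hy]; exact Commute.one_left x
      rwa [h] at this
    have h1 := hprim (!i) (pCoreOf 2 (M (!i))) hne'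
      (le_inf (Subgroup.map_subtype_le _) (hcore _)) (CfsgLib.LocalStr.le_normalizer_pCoreOf _)
    rw [Bool.not_not] at h1
    exact (le_inf le_rfl (by rw [heq i]; exact CfsgLib.LocalStr.le_normalizer_pCoreOf _)).trans h1
  · choose Z hZ hZne using fun i => good_exists (p := p) (hbot i) (Or.inl (hab i)) (hcen i)
    exact Data.false_of_odd hp2 (M := M) (Z := Z) ⟨hZ, hcore, hprim, hZne, hnot⟩

end CfsgLib.FGS68.PrimPair
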