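import Cfsg.Agent.S3736
import Cfsg.Agent.Lib.FGS68.F2Quad
import Cfsg.Agent.Lib.Transfer.ClassTwo
import Mathlib

/-!
Abelian 3-groups of order divisible by 9 acting on 2-groups with three involutions.
-/

set_option autoImplicit false

namespace CfsgLib.FGS68

open scoped commutatorElement Pointwise

variable {X : Type*} [Group X] [Finite X]

theorem card_subgroup_of_four {V : Subgroup X} (hV : Nat.card V = 4) (U : Subgroup X) (hUV : U ≤ V) :
    Nat.card U = 1 ∨ Nat.card U = 2 ∨ Nat.card U = 4 := by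
  have h := Subgroup.card_dvd_of_le hUV
  rw [hV] at h
  have := Nat.le_of_dvd (by norm_num) h
  interval_cases hc : Nat.card U <;> simp_all

/-- An invariant subgroup of the four-group is trivial or everything, if there are no fixed points. -/
theorem eq_of_le_four {W : Subgroup X} (hW : Nat.card W = 4) {B : Subgroup X}
    (hfix : ∀ w ∈ W, (∀ b ∈ B, Commute b w) → w = 1) (S : Subgroup X) (hSW : S ≤ W)
    (hBS : B ≤ Subgroup.normalizer (S : Set X)) (hS : S ≠ ⊥) : S = W := by
  rcases card_subgroup_of_four hW S hSW with h | h | h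
  · exact absurd (Subgroup.card_eq_one.1 h) hS
  · exfalso
    obtain ⟨s, hs, hs1⟩ := (Subgroup.bot_or_exists_ne_one S).resolve_left hS
    obtain ⟨a, c, -, huniv⟩ := Nat.card_eq_two_iff.1 h
    have hmem : ∀ v : S, v = a ∨ v = c := fun v => by
      have : v ∈ ({a, c} : Set S) := huniv ▸ Set.mem_univ v
      simpa using this
    refine hs1 (hfix s (hSW hs) fun b hb => ?_)
    have hbs : b * s * b⁻¹ ∈ S := (Subgroup.mem_normalizer_iff.1 (hBS hb) s).1 hs
    have hne : b * s * b⁻¹ ≠ 1 := fun e => hs1 (conj_eq_one_iff.1 e)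
    have : b * s * b⁻¹ = s := by
      rcases hmem ⟨s, hs⟩ with e1 | e1 <;> rcases hmem ⟨_, hbs⟩ with e2 | e2 <;>
        rcases hmem 1 with e3 | e3
      all_goals first
        | exact congrArg Subtype.val (e2.trans e1.symm)
        | exact absurd (congrArg Subtype.val (e1.trans e3.symm)) hs1
        | exact absurd (congrArg Subtype.val (e2.trans e3.symm)) hne
    exact mul_inv_eq_iff_eq_mul.1 this
  · exact Subgroup.eq_of_le_of_card_ge hSW (by omega)

/-- Conjugation action of a normalising subgroup on a difference set. -/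
theorem card_dvd_of_free (B U W : Subgroup X) (hBU : B ≤ Subgroup.normalizer (U : Set X))
    (hBW : B ≤ Subgroup.normalizer (W : Set X))
    (hfree : ∀ b ∈ B, b ≠ 1 → ∀ u ∈ U, u ∉ W → ¬ Commute b u) :
    Nat.card B ∣ Nat.card {x : X // x ∈ U ∧ x ∉ W} := by
  classical
  let _inst : MulAction B {x : X // x ∈ U ∧ x ∉ W} :=
    { smul := fun b x => ⟨(b : X) * x * (b : X)⁻¹,
        (Subgroup.mem_normalizer_iff.1 (hBU b.2) x).1 x.2.1,
        fun h => x.2.2 ((Subgroup.mem_normalizer_iff.1 (hBW b.2) x).2 h)⟩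
      one_smul := fun x => Subtype.ext (by
        show (1 : X) * x * (1 : X)⁻¹ = x
        simp)
      mul_smul := fun a b x => Subtype.ext (by
        show ((a * b : B) : X) * x * ((a * b : B) : X)⁻¹ = (a : X) * ((b : X) * x * (b : X)⁻¹) * (a : X)⁻¹
        simp [mul_assoc]) }
  have hst : ∀ x : {x : X // x ∈ U ∧ x ∉ W}, MulAction.stabilizer B x = ⊥ := by
    intro x
    rw [eq_bot_iff]
    intro b hb
    rw [MulAction.mem_stabilizer_iff] at hb
    by_contra hb1
    refine hfree b b.2 (fun e => hb1 (Subgroup.mem_bot.2 (Subtype.ext e))) x x.2.1 x.2.2 ?_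
    exact mul_inv_eq_iff_eq_mul.1 (congrArg Subtype.val hb)
  rw [Nat.card_congr (MulAction.selfEquivOrbitsQuotientProd hst), Nat.card_prod]
  exact Dvd.intro_left _ rfl

/-- The key lemma. -/
theorem false_of_nine_dvd {P B W : Subgroup X} {e : X} (hP : IsPGroup 2 P) (hWP : W ≤ P)
    (hW : Nat.card W = 4) (hW2 : ∀ w ∈ W, w ^ 2 = 1) (hinv : ∀ x ∈ P, x ^ 2 = 1 → x ∈ W)
    (hBab : ∀ a ∈ B, ∀ b ∈ B, Commute a b) (hBP : B ≤ Subgroup.normalizer (P : Set X))
    (hfix : ∀ w ∈ W, (∀ b ∈ B, Commute b w) → w = 1) (h9 : 9 ∣ Nat.card B)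
    (heB : e ∈ B) (he : orderOf e = 3) (heW : ∀ w ∈ W, Commute e w)
    (heP : ∃ x ∈ P, ¬ Commute e x)
    (hker : ∀ f ∈ B, f ≠ 1 → (∀ w ∈ W, Commute f w) → e ∈ Subgroup.zpowers f) : False := by
  classical
  haveI : Fact (Nat.Prime 2) := ⟨Nat.prime_two⟩
  set A := Subgroup.zpowers e
  have hA2 : (Nat.card A).Coprime 2 := by rw [Nat.card_zpowers, he]; norm_num
  have hAB : A ≤ B := Subgroup.zpowers_le.2 heB
  have hBA : B ≤ Subgroup.normalizer (A : Set X) := fun b hb => by
    refine Subgroup.centralizer_le_normalizer _ (Subgroup.mem_centralizer_iff.2 fun a ha => ?_)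
    exact (hBab a (hAB ha) b hb).eq
  have hcen : ∀ {U : Subgroup X}, ⁅U, A⁆ = ⊥ → ∀ u ∈ U, Commute e u := fun hU u hu =>
    (show Commute u e from commutatorElement_eq_one_iff_mul_comm.1 (Subgroup.mem_bot.1
      (hU ▸ Subgroup.commutator_mem_commutator hu (Subgroup.mem_zpowers e)))).symm
  have hPA : ⁅P, A⁆ ≠ ⊥ := fun h => by
    obtain ⟨x, hx, hxe⟩ := heP
    exact hxe (hcen h x hx)
  obtain ⟨U, ⟨hUP, hBU, hUA⟩, hUmin⟩ := Set.Finite.exists_minimal
    (s := {U : Subgroup X | U ≤ P ∧ B ≤ Subgroup.normalizer (U : Set X) ∧ ⁅U, A⁆ ≠ ⊥})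
    (Set.toFinite _) ⟨P, le_rfl, hBP, hPA⟩
  have hUp : IsPGroup 2 U := hP.to_le hUP
  obtain ⟨hUeq, htype, hirr, -⟩ := Cfsg.Agent.S3736.result B A U hUp hBU hAB hBA hA2 hUA
    (fun V hV hBV => by
      by_contra hne
      exact hV.not_ge (hUmin ⟨hV.le.trans hUP, hBV, hne⟩ hV.le))
  have hnotU : ¬ ∀ u ∈ U, Commute e u := fun h => hUA (by
    rw [Subgroup.commutator_eq_bot_iff_le_centralizer]
    intro u hu
    refine Subgroup.mem_centralizer_iff.2 ?_
    rintro _ ⟨i, rfl⟩
    exact ((h u hu).zpow_left i).eq)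
  rcases htype with ⟨-, hEA⟩ | hsp
  · exact hnotU fun u hu => heW u (hinv u (hUP hu) (hEA u hu))
  obtain ⟨-, hΦZ, hDZ⟩ := hsp
  set Φ := (frattini U).map U.subtype
  have hsqΦ : ∀ x : U, x ^ 2 ∈ Subgroup.center U := fun x =>
    hΦZ ▸ CfsgLib.Transfer.pow_mem_frattini hUp x
  have hΦW : Φ ≤ W := by
    rintro _ ⟨z, hz, rfl⟩
    rw [hΦZ, ← hDZ] at hz
    refine hinv _ (hUP z.2) ?_
    have hDc : commutator U ≤ Subgroup.center U := hDZ.le
    have hcom : ∀ a b : U, ⁅a, b⁆ ^ 2 = 1 := fun a b => by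
      rw [← CfsgLib.Transfer.commutatorElement_pow_left hDc,
        commutatorElement_eq_one_iff_mul_comm]
      exact (Subgroup.mem_center_iff.1 (hsqΦ a) b).symm
    have hz2 : z ^ 2 = 1 := by
      rw [commutator_eq_closure] at hz
      have hsub : Subgroup.closure (commutatorSet U) ≤ Subgroup.center U := by
        rw [← commutator_eq_closure]; exact hDc
      induction hz using Subgroup.closure_induction with
      | mem y hy => obtain ⟨a, b, rfl⟩ := hy; exact hcom a b
      | one => exact one_pow 2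
      | mul u v hu hv h1 h2 =>
        rw [(show Commute u v from (Subgroup.mem_center_iff.1 (hsub hu) v).symm).mul_pow, h1, h2, one_mul]
      | inv u _ h1 => rw [inv_pow, h1, inv_one]
    simpa using congrArg Subtype.val hz2
  have hΦne : Φ ≠ ⊥ := by
    intro h
    refine hnotU fun u hu => heW u (hinv u (hUP hu) ?_)
    have h1 : (⟨u, hu⟩ : U) ^ 2 ∈ frattini U := CfsgLib.Transfer.pow_mem_frattini hUp _
    rw [(Subgroup.map_eq_bot_iff_of_injective _ U.subtype_injective).1 h, Subgroup.mem_bot] at h1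
    exact congrArg Subtype.val h1
  have hBΦ : B ≤ Subgroup.normalizer (Φ : Set X) :=
    hBU.trans (CfsgLib.FGS68.normalizer_le_map_of_char U (frattini U))
  have hΦeq : Φ = W := eq_of_le_four hW hfix Φ hΦW hBΦ hΦne
  have hWU : W ≤ U := hΦeq ▸ Subgroup.map_subtype_le _
  have hWcen : ∀ w ∈ W, ∀ u ∈ U, Commute u w := by
    intro w hw u hu
    obtain ⟨z, hz, rfl⟩ := hΦeq.ge hw
    rw [hΦZ] at hz
    exact congrArg Subtype.val (Subgroup.mem_center_iff.1 hz ⟨u, hu⟩)
  have hsqU : ∀ u ∈ U, u ^ 2 ∈ W := fun u hu =>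
    hΦeq ▸ ⟨_, CfsgLib.Transfer.pow_mem_frattini hUp ⟨u, hu⟩, rfl⟩
  have hBW : B ≤ Subgroup.normalizer (W : Set X) := hΦeq ▸ hBΦ
  -- freeness
  have hfree : ∀ f ∈ B, f ≠ 1 → ∀ u ∈ U, u ∉ W → ¬ Commute f u := by
    intro f hf hf1 u hu huW hfu
    let S : Subgroup X := U ⊓ Subgroup.centralizer {f}
    have hBS : B ≤ Subgroup.normalizer (S : Set X) := by
      intro b hb
      refine Subgroup.mem_normalizer_iff.2 fun x => ?_
      have hiff := Subgroup.mem_normalizer_iff.1 (hBU hb) x
      have hbf : Commute b f := hBab b hb f hf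
      simp only [S, Subgroup.mem_inf, Subgroup.mem_centralizer_singleton_iff]
      refine and_congr hiff ⟨fun h => ?_, fun h => ?_⟩
      · exact ((hbf.mul_left h).mul_left hbf.inv_left).eq
      · have h2 := (hbf.inv_left.mul_left (show Commute _ f from h)).mul_left hbf
        simpa [mul_assoc] using h2.eq
    have hBSW : B ≤ Subgroup.normalizer ((S ⊔ W : Subgroup X) : Set X) := fun b hb => by
      rw [Subgroup.mem_normalizer_iff_map_conj_eq, Subgroup.map_sup,
        Subgroup.mem_normalizer_iff_map_conj_eq.1 (hBS hb),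
        Subgroup.mem_normalizer_iff_map_conj_eq.1 (hBW hb)]
    rcases hirr (S ⊔ W) (hΦeq.le.trans le_sup_right) (sup_le inf_le_left hWU) hBSW with h | h
    · have hm : u ∈ S ⊔ W :=
        Subgroup.mem_sup_left ⟨hu, Subgroup.mem_centralizer_singleton_iff.2 hfu.eq.symm⟩
      rw [h] at hm
      exact huW (hΦeq ▸ hm)
    have hSn : S ≤ Subgroup.normalizer (W : Set X) := fun s hs => by
      refine Subgroup.centralizer_le_normalizer _ (Subgroup.mem_centralizer_iff.2 fun w hw => ?_)
      exact ((hWcen w hw s hs.1).symm).eq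
    by_cases hfW : ∀ w ∈ W, Commute f w
    · have hfU : ∀ x ∈ U, Commute f x := by
        intro x hx
        rw [← h] at hx
        obtain ⟨s, hs, w, hw, rfl⟩ : x ∈ ((S : Set X) * (W : Set X)) := by
          rwa [← Subgroup.coe_mul_of_left_le_normalizer_right S W hSn]
        exact (show Commute s f from Subgroup.mem_centralizer_singleton_iff.1 hs.2).symm.mul_right (hfW w hw)
      refine hnotU fun x hx => ?_
      obtain ⟨i, hi⟩ := Subgroup.mem_zpowers_iff.1 (hker f hf hf1 hfW)
      rw [← hi]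
      exact (hfU x hx).zpow_left i
    · have hone : W ⊓ Subgroup.centralizer {f} = ⊥ := by
        by_contra hne
        have heq := eq_of_le_four hW hfix _ (inf_le_left : W ⊓ Subgroup.centralizer {f} ≤ W) (fun b hb => by
          refine Subgroup.mem_normalizer_iff.2 fun x => ?_
          have h1 := Subgroup.mem_normalizer_iff.1 (hBS hb) x
          have h2 := Subgroup.mem_normalizer_iff.1 (hBW hb) x
          constructor
          · exact fun hx => ⟨h2.1 hx.1, (h1.1 ⟨hWU hx.1, hx.2⟩).2⟩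
          · exact fun hx => ⟨h2.2 hx.1, (h1.2 ⟨hWU hx.1, hx.2⟩).2⟩) hne
        exact hfW fun w hw => (show Commute w f from
          Subgroup.mem_centralizer_singleton_iff.1 (heq.ge hw).2).symm
      refine hnotU fun x hx => heW x (hinv x (hUP hx) ?_)
      rw [← h] at hx
      obtain ⟨s, hs, w, hw, rfl⟩ : x ∈ ((S : Set X) * (W : Set X)) := by
          rwa [← Subgroup.coe_mul_of_left_le_normalizer_right S W hSn]
      have hs2 : s ^ 2 ∈ W ⊓ Subgroup.centralizer {f} := ⟨hsqU s hs.1, pow_mem hs.2 2⟩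
      rw [hone, Subgroup.mem_bot] at hs2
      rw [(hWcen w hw s hs.1).mul_pow, hs2, hW2 w hw, one_mul]
  -- counting
  have hdvd := card_dvd_of_free B U W hBU hBW hfree
  have hcard : Nat.card {x : X // x ∈ U ∧ x ∉ W} + Nat.card W = Nat.card U := by
    have h1 := Set.ncard_diff_add_ncard_of_subset (s := (W : Set X)) (t := (U : Set X)) hWU
    rw [← Nat.card_coe_set_eq, ← Nat.card_coe_set_eq, ← Nat.card_coe_set_eq] at h1
    exact h1
  set W' := W.subgroupOf U
  have hW' : Nat.card W' = 4 := by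
    rw [Nat.card_congr (Subgroup.subgroupOfEquivOfLe hWU).toEquiv, hW]
  have hbound : Nat.card U ≤ Nat.card W' * (⊥ : Subgroup U).relIndex W' ^ 2 := by
    refine card_le_of_sq_central W' ⊥ W' (fun w hw => Subgroup.mem_center_iff.2 fun u =>
      Subtype.ext (hWcen w hw u u.2)) (fun w hw => Subtype.ext (hW2 w hw))
      (fun x => hsqU x x.2) bot_le le_rfl fun x hx => ?_
    exact hinv x (hUP x.2) (congrArg Subtype.val (Subgroup.mem_bot.1 hx))
  rw [Subgroup.relIndex_bot_left, hW'] at hbound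
  obtain ⟨k, hk⟩ := hUp.exists_card_eq
  have h4 : Nat.card W < Nat.card U := by
    refine lt_of_le_of_ne (Subgroup.card_le_of_le hWU) fun h => hnotU fun u hu => heW u ?_
    rwa [Subgroup.eq_of_le_of_card_ge hWU h.ge]
  rw [hk] at hcard hbound h4
  rw [hW] at hcard h4
  have hk6 : k ≤ 6 := (Nat.pow_le_pow_iff_right (by norm_num : 1 < 2)).1 (hbound.trans (by norm_num))
  have h9' := h9.trans hdvd
  interval_cases k <;> omega

/-- A 2-group with a fixed-point-free 3-element has all involutions in an invariant four-group,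
if it has no elementary abelian subgroup of order eight. -/
theorem four_central {T W : Subgroup X} {e : X} (hT : IsPGroup 2 T) (hWT : W ≤ T) (hW : Nat.card W = 4)
    (hWab : IsMulCommutative W) (hW2 : ∀ w ∈ W, w ^ 2 = 1)
    (heT : e ∈ Subgroup.normalizer (T : Set X)) (hfix : W ⊓ Subgroup.centralizer {e} = ⊥)
    (hrk : ∀ E : Subgroup X, E ≤ T → IsMulCommutative E → (∀ x ∈ E, x ^ 2 = 1) → Nat.card E ≤ 4)
    (heW : e ∈ Subgroup.normalizer (W : Set X)) :
    (∀ w ∈ W, ∀ t ∈ T, Commute t w) ∧ ∀ x ∈ T, x ^ 2 = 1 → x ∈ W := by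
  classical
  haveI : Fact (Nat.Prime 2) := ⟨Nat.prime_two⟩
  haveI := hWab
  have key : ∀ t ∈ T, t ^ 2 = 1 → (∀ w ∈ W, Commute t w) → t ∈ W := by
    intro t ht ht2 htw
    set E := W ⊔ Subgroup.zpowers t
    have hgen : E = Subgroup.closure ((W : Set X) ∪ {t}) := by
      simp only [E, Subgroup.closure_union, Subgroup.closure_eq, Subgroup.zpowers_eq_closure]
    have hE : IsMulCommutative E := by
      rw [hgen]
      refine Subgroup.isMulCommutative_closure ?_
      rintro a (ha | rfl) b (hb | rfl)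
      · exact congrArg Subtype.val (mul_comm' (⟨a, ha⟩ : W) ⟨b, hb⟩)
      · exact (htw a ha).symm.eq
      · exact (htw b hb).eq
      · rfl
    have hc : ∀ u ∈ E, ∀ v ∈ E, Commute u v := fun u hu v hv =>
      congrArg Subtype.val (@mul_comm' _ _ hE (⟨u, hu⟩ : E) ⟨v, hv⟩)
    have hE2 : ∀ x ∈ E, x ^ 2 = 1 := by
      intro x hx
      rw [hgen] at hx hc
      induction hx using Subgroup.closure_induction with
      | mem y hy =>
        rcases hy with hy | rfl
        · exact hW2 y hy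
        · exact ht2
      | one => exact one_pow 2
      | mul u v hu hv h1 h2 => rw [(hc u hu v hv).mul_pow, h1, h2, one_mul]
      | inv u _ h1 => rw [inv_pow, h1, inv_one]
    have hET : E ≤ T := sup_le hWT (Subgroup.zpowers_le.2 ht)
    rw [Subgroup.eq_of_le_of_card_ge (le_sup_left : W ≤ E) (by rw [hW]; exact hrk E hET hE hE2)]
    exact Subgroup.mem_sup_right (Subgroup.mem_zpowers t)
  -- the involutions of the centre
  let Ω : Subgroup T :=
    { carrier := {x | x ∈ Subgroup.center T ∧ x ^ 2 = 1}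
      one_mem' := ⟨one_mem _, one_pow 2⟩
      mul_mem' := fun {a b} ha hb => ⟨mul_mem ha.1 hb.1, by
        rw [(show Commute a b from (Subgroup.mem_center_iff.1 ha.1 b).symm).mul_pow, ha.2, hb.2, one_mul]⟩
      inv_mem' := fun {a} ha => ⟨inv_mem ha.1, by rw [inv_pow, ha.2, inv_one]⟩ }
  haveI : Ω.Characteristic := Subgroup.characteristic_iff_le_map.2 fun φ x hx => by
    refine ⟨φ.symm x, ⟨Subgroup.mem_center_iff.2 fun g => φ.injective ?_, ?_⟩, φ.apply_symm_apply x⟩
    · rw [map_mul, map_mul, φ.apply_symm_apply]; exact Subgroup.mem_center_iff.1 hx.1 _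
    · rw [← map_pow, hx.2, map_one]
  set Z := Ω.map T.subtype
  have heZ : e ∈ Subgroup.normalizer (Z : Set X) :=
    CfsgLib.FGS68.normalizer_le_map_of_char T Ω heT
  have hZW : Z ≤ W := by
    rintro _ ⟨z, hz, rfl⟩
    exact key _ z.2 (congrArg Subtype.val hz.2) fun w hw =>
      (congrArg Subtype.val (Subgroup.mem_center_iff.1 hz.1 ⟨w, hWT hw⟩)).symm
  have hZne : Z ≠ ⊥ := by
    have hWne : Nontrivial T := by
      have h := Subgroup.card_le_of_le hWT
      exact Finite.one_lt_card_iff_nontrivial.1 (by omega)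
    have := hT.center_nontrivial
    obtain ⟨k, hk, hcard⟩ := (hT.to_subgroup (Subgroup.center T)).nontrivial_iff_card.1 this
    obtain ⟨z, hz⟩ := exists_prime_orderOf_dvd_card' (G := Subgroup.center T) 2
      (by rw [hcard]; exact dvd_pow_self _ (by omega))
    intro h
    have h0 : Ω = ⊥ := (Subgroup.map_eq_bot_iff_of_injective _ T.subtype_injective).1 h
    have hz2 : z ^ 2 = 1 := by rw [← hz]; exact pow_orderOf_eq_one z
    have hm : (z : T) ∈ Ω := ⟨z.2, by rw [← SubmonoidClass.coe_pow, hz2]; rfl⟩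
    rw [h0, Subgroup.mem_bot] at hm
    rw [orderOf_eq_one_iff.2 (Subtype.ext hm)] at hz
    omega
  have hZeq : Z = W := eq_of_le_four hW (B := Subgroup.zpowers e)
    (fun w hw h => by
      have : w ∈ W ⊓ Subgroup.centralizer {e} :=
        ⟨hw, Subgroup.mem_centralizer_singleton_iff.2 (h e (Subgroup.mem_zpowers e)).eq.symm⟩
      rwa [hfix, Subgroup.mem_bot] at this)
    Z hZW (Subgroup.zpowers_le.2 heZ) hZne
  have hcentral : ∀ w ∈ W, ∀ t ∈ T, Commute t w := by
    intro w hw t ht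
    obtain ⟨z, hz, rfl⟩ := hZeq.ge hw
    exact congrArg Subtype.val (Subgroup.mem_center_iff.1 hz.1 ⟨t, ht⟩)
  exact ⟨hcentral, fun x hx hx2 => key x hx hx2 fun w hw => hcentral w hw x hx⟩

end CfsgLib.FGS68
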