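import Mathlib

/-!
Congruences between sums of two powers of two modulo `(2 ^ n - 1) / m`, `m ∣ n`.
-/

set_option autoImplicit false
set_option synthInstance.maxSize 4000
set_option maxRecDepth 8000

namespace CfsgLib.FGS68.SuzukiGen

theorem gap_sorted {n g a b d e : ℕ} (hg : 4 * g ≤ n + 3) (hab : a ≤ b) (hbd : b ≤ d) (hde : d ≤ e)
    (he : e < n) : ∃ s, s < n ∧ ∀ x ∈ [a, b, d, e], (x + n - s) % n + g ≤ n := by
  have key : ∀ x s, x < n → s < n → (x + n - s) % n = if s ≤ x then x - s else x + n - s := by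
    intro x s hx hs
    split_ifs with h
    · rw [show x + n - s = (x - s) + n by omega, Nat.add_mod_right, Nat.mod_eq_of_lt (by omega)]
    · exact Nat.mod_eq_of_lt (by omega)
  by_cases c1 : g ≤ b - a
  · refine ⟨b, by omega, fun x hx => ?_⟩
    simp only [List.mem_cons, List.not_mem_nil, or_false] at hx
    rw [key x b (by omega) (by omega)]
    split_ifs <;> omega
  by_cases c2 : g ≤ d - b
  · refine ⟨d, by omega, fun x hx => ?_⟩
    simp only [List.mem_cons, List.not_mem_nil, or_false] at hx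
    rw [key x d (by omega) (by omega)]
    split_ifs <;> omega
  by_cases c3 : g ≤ e - d
  · refine ⟨e, by omega, fun x hx => ?_⟩
    simp only [List.mem_cons, List.not_mem_nil, or_false] at hx
    rw [key x e (by omega) (by omega)]
    split_ifs <;> omega
  refine ⟨a, by omega, fun x hx => ?_⟩
  simp only [List.mem_cons, List.not_mem_nil, or_false] at hx
  rw [key x a (by omega) (by omega)]
  split_ifs <;> omega

theorem gap {n g a b d e : ℕ} (hg : 4 * g ≤ n + 3) (ha : a < n) (hb : b < n) (hd : d < n) (he : e < n) :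
    ∃ s, s < n ∧ ∀ x ∈ [a, b, d, e], (x + n - s) % n + g ≤ n := by
  wlog h1 : a ≤ b generalizing a b
  · obtain ⟨s, hs, h⟩ := this hb ha (by omega)
    exact ⟨s, hs, fun x hx => h x (by simp at hx ⊢; tauto)⟩
  wlog h2 : d ≤ e generalizing d e
  · obtain ⟨s, hs, h⟩ := this he hd (by omega)
    exact ⟨s, hs, fun x hx => h x (by simp at hx ⊢; tauto)⟩
  wlog h3 : a ≤ d generalizing a b d e
  · obtain ⟨s, hs, h⟩ := this hd he h2 ha hb h1 (by omega)
    exact ⟨s, hs, fun x hx => h x (by simp at hx ⊢; tauto)⟩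
  rcases le_total b d with h | h
  · exact gap_sorted hg h1 h h2 he
  rcases le_total b e with h' | h'
  · obtain ⟨s, hs, hh⟩ := gap_sorted hg h3 h h' he
    exact ⟨s, hs, fun x hx => hh x (by simp at hx ⊢; tauto)⟩
  · obtain ⟨s, hs, hh⟩ := gap_sorted hg h3 h2 h' hb
    exact ⟨s, hs, fun x hx => hh x (by simp at hx ⊢; tauto)⟩

/-- Two powers of two determine their exponents. -/
theorem pow_pair_eq {a b d e : ℕ} (h : 2 ^ a + 2 ^ b = 2 ^ d + 2 ^ e) :
    (a = d ∧ b = e) ∨ (a = e ∧ b = d) := by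
  wlog hab : a ≤ b generalizing a b
  · rcases this (by omega : 2 ^ b + 2 ^ a = _) (by omega) with h' | h' <;> omega
  wlog hde : d ≤ e generalizing d e
  · rcases this (h.trans (add_comm _ _)) (by omega) with h' | h' <;> omega
  left
  have e1 : ∀ {x y : ℕ}, x ≤ y → 2 ^ x + 2 ^ y = 2 ^ x * (1 + 2 ^ (y - x)) := fun hxy => by
    rw [mul_add, mul_one, ← pow_add, Nat.add_sub_cancel' hxy]
  by_cases hb : b = e
  · subst hb
    exact ⟨Nat.pow_right_injective le_rfl (Nat.add_right_cancel h), rfl⟩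
  exfalso
  have key : ∀ {a b d e : ℕ}, a ≤ b → b < e → 2 ^ a + 2 ^ b = 2 ^ d + 2 ^ e → False := by
    intro a b d e hab hlt h
    have h1 : 2 ^ a ≤ 2 ^ b := Nat.pow_le_pow_right two_pos hab
    have h2 : 2 ^ (b + 1) ≤ 2 ^ e := Nat.pow_le_pow_right two_pos hlt
    have h3 : 0 < 2 ^ d := Nat.two_pow_pos d
    rw [pow_succ] at h2
    omega
  rcases Nat.lt_or_gt_of_ne hb with hlt | hlt
  · exact key hab hlt h
  · exact key hde hlt h.symm

theorem two_pow_mod {n c : ℕ} (h : c ∣ 2 ^ n - 1) (a : ℕ) : 2 ^ a ≡ 2 ^ (a % n) [MOD c] := by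
  have h1 : 2 ^ n ≡ 1 [MOD c] := ((Nat.modEq_iff_dvd' Nat.one_le_two_pow).2 h).symm
  conv_lhs => rw [← Nat.mod_add_div a n, pow_add, pow_mul]
  simpa using (h1.pow (a / n)).mul_left (2 ^ (a % n))

/-- The main congruence lemma. -/
theorem pair_modEq {n m c a b d e : ℕ} (hn : 2 ≤ n) (hm : m * c = 2 ^ n - 1) (hmn : m ≤ n)
    (hcase : m = 1 ∨ 21 ≤ n) (ha : a < n) (hb : b < n) (hd : d < n) (he : e < n)
    (h : 2 ^ a + 2 ^ b ≡ 2 ^ d + 2 ^ e [MOD c]) : (a = d ∧ b = e) ∨ (a = e ∧ b = d) := by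
  have hbnd : ∀ {x k : ℕ}, x ≤ k → 2 ^ x ≤ 2 ^ k := fun hx => Nat.pow_le_pow_right two_pos hx
  rcases hcase with rfl | hn21
  · rw [one_mul] at hm
    subst hm
    apply pow_pair_eq
    have hq : 2 ^ (n - 1) + 2 ^ (n - 1) = 2 ^ n := by rw [← two_mul, ← pow_succ', Nat.sub_add_cancel (by omega)]
    have := hbnd (show a ≤ n - 1 by omega)
    have := hbnd (show b ≤ n - 1 by omega)
    have := hbnd (show d ≤ n - 1 by omega)
    have := hbnd (show e ≤ n - 1 by omega)
    have := Nat.two_pow_pos a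
    have := Nat.two_pow_pos b
    have := Nat.two_pow_pos d
    have := Nat.two_pow_pos e
    rcases le_total (2 ^ a + 2 ^ b) (2 ^ d + 2 ^ e) with hle | hle
    · obtain ⟨t, ht⟩ := (Nat.modEq_iff_dvd' hle).1 h
      rcases t with _ | t
      · omega
      · rw [Nat.mul_succ] at ht; omega
    · obtain ⟨t, ht⟩ := (Nat.modEq_iff_dvd' hle).1 h.symm
      rcases t with _ | t
      · omega
      · rw [Nat.mul_succ] at ht; omega
  set g := (n + 3) / 4 with hg
  obtain ⟨s, hs, hgap⟩ := gap (g := g) (by omega) ha hb hd he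
  have hc : c ∣ 2 ^ n - 1 := hm ▸ dvd_mul_left c m
  have h' : 2 ^ ((a + n - s) % n) + 2 ^ ((b + n - s) % n) ≡
      2 ^ ((d + n - s) % n) + 2 ^ ((e + n - s) % n) [MOD c] := by
    refine ((two_pow_mod hc _).add (two_pow_mod hc _)).symm.trans
      ((?_ : Nat.ModEq c _ _).trans ((two_pow_mod hc _).add (two_pow_mod hc _)))
    have h2 := h.mul_left (2 ^ (n - s))
    simp only [mul_add, ← pow_add] at h2
    convert h2 using 3 <;> omega
  have hsmall : ∀ x ∈ [a, b, d, e], 2 ^ ((x + n - s) % n) ≤ 2 ^ (n - g) := fun x hx =>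
    hbnd (by have := hgap x hx; omega)
  have hmg : m * 2 ^ (n - g + 1) < 2 ^ n - 1 := by
    have h1 : m < 2 ^ (g - 1) := by
      have key : ∀ k, 6 ≤ k → 4 * k < 2 ^ (k - 1) := by
        intro k hk
        induction k, hk using Nat.le_induction with
        | base => norm_num
        | succ k hk ih =>
          rw [Nat.add_sub_cancel, show k = k - 1 + 1 by omega, pow_succ]
          omega
      have := key g (by omega)
      omega
    have h2 : 2 ^ (g - 1) * 2 ^ (n - g + 1) = 2 ^ n := by rw [← pow_add]; congr 1; omega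
    have h3 : 2 ≤ 2 ^ (n - g + 1) := le_self_pow₀ one_le_two (by omega)
    have h4 : (m + 1) * 2 ^ (n - g + 1) ≤ 2 ^ n := h2 ▸ Nat.mul_le_mul_right _ h1
    rw [add_mul, one_mul] at h4
    omega
  have hsum : ∀ x y, x ∈ [a, b, d, e] → y ∈ [a, b, d, e] →
      m * (2 ^ ((x + n - s) % n) + 2 ^ ((y + n - s) % n)) < 2 ^ n - 1 := by
    intro x y hx hy
    refine lt_of_le_of_lt (Nat.mul_le_mul_left m ?_) hmg
    rw [pow_succ, mul_two]
    exact add_le_add (hsmall x hx) (hsmall y hy)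
  have h5 := h'.mul_left' m
  rw [hm] at h5
  have h6 := h5.eq_of_lt_of_lt (hsum a b (by simp) (by simp)) (hsum d e (by simp) (by simp))
  have hm0 : 0 < m := by
    rcases Nat.eq_zero_or_pos m with rfl | h0
    · have := Nat.one_lt_two_pow (show n ≠ 0 by omega)
      omega
    · exact h0
  have key : ∀ x y, x < n → y < n → (x + n - s) % n = (y + n - s) % n → x = y := by
    intro x y hx hy hxy
    have h7 : x + n - s ≡ y + n - s [MOD n] := hxy
    have h8 := h7.add_right s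
    rw [Nat.sub_add_cancel (by omega), Nat.sub_add_cancel (by omega)] at h8
    exact (Nat.add_modulus_modEq_iff.1 (h8.trans (Nat.add_modulus_modEq_iff.2 rfl)) ).eq_of_lt_of_lt hx hy
  rcases pow_pair_eq (Nat.eq_of_mul_eq_mul_left hm0 h6) with ⟨p, q⟩ | ⟨p, q⟩
  · exact Or.inl ⟨key _ _ ha hd p, key _ _ hb he q⟩
  · exact Or.inr ⟨key _ _ ha he p, key _ _ hb hd q⟩

theorem exceptional {n m : ℕ} (hn : 2 ≤ n) (hn21 : n < 21) (hmn : m ∣ n) (hm : m ∣ 2 ^ n - 1) :
    m = 1 ∨ (n, m) = (6, 3) ∨ (n, m) = (12, 3) ∨ (n, m) = (18, 3) ∨ (n, m) = (18, 9) ∨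
      (n, m) = (20, 5) := by
  have h : ∀ n < 21, 2 ≤ n → ∀ m ∈ n.divisors, m ∣ 2 ^ n - 1 → m = 1 ∨ (n, m) = (6, 3) ∨
      (n, m) = (12, 3) ∨ (n, m) = (18, 3) ∨ (n, m) = (18, 9) ∨ (n, m) = (20, 5) := by decide
  exact h n hn21 hn m (Nat.mem_divisors.2 ⟨hmn, by omega⟩) hm

/-- A third power is never a sum of two different ones. -/
theorem no_two_term {n m c i j : ℕ} (hn : 2 ≤ n) (hm : m * c = 2 ^ n - 1) (hmn : m ∣ n)
    (hi : i < n) (hj : j < n) (h : 2 ^ i + 2 ^ j ≡ 1 [MOD c]) : i = j := by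
  have hc : c ∣ 2 ^ n - 1 := hm ▸ dvd_mul_left c m
  have main : (m = 1 ∨ 21 ≤ n) → i = j := fun hcase => by
    have h2 := h.mul_left 2
    rw [mul_add, ← pow_succ', ← pow_succ', mul_one] at h2
    have h3 : 2 ^ ((i + 1) % n) + 2 ^ ((j + 1) % n) ≡ 2 ^ 0 + 2 ^ 0 [MOD c] :=
      ((two_pow_mod hc _).add (two_pow_mod hc _)).symm.trans h2
    have h4 := pair_modEq hn hm (Nat.le_of_dvd (by omega) hmn) hcase (Nat.mod_lt _ (by omega))
      (Nat.mod_lt _ (by omega)) (by omega) (by omega) h3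
    have h5 : i + 1 ≡ j + 1 [MOD n] := by
      show (i + 1) % n = (j + 1) % n
      omega
    exact (Nat.ModEq.add_right_cancel' 1 h5).eq_of_lt_of_lt hi hj
  by_cases hn21 : 21 ≤ n
  · exact main (Or.inr hn21)
  rcases exceptional hn (by omega) hmn (hm ▸ dvd_mul_right m c) with rfl | h' | h' | h' | h' | h'
  · exact main (Or.inl rfl)
  all_goals
    obtain ⟨rfl, rfl⟩ := Prod.mk.inj h'
    norm_num at hm
  · obtain rfl : c = 21 := by omega
    have key : ∀ i < 6, ∀ j < 6, (2 ^ i + 2 ^ j) % 21 = 1 → i = j := by decide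
    exact key i hi j hj h
  · obtain rfl : c = 1365 := by omega
    have key : ∀ i < 12, ∀ j < 12, (2 ^ i + 2 ^ j) % 1365 = 1 → i = j := by decide
    exact key i hi j hj h
  · obtain rfl : c = 87381 := by omega
    have key : ∀ i < 18, ∀ j < 18, (2 ^ i + 2 ^ j) % 87381 = 1 → i = j := by decide
    exact key i hi j hj h
  · obtain rfl : c = 29127 := by omega
    have key : ∀ i < 18, ∀ j < 18, (2 ^ i + 2 ^ j) % 29127 = 1 → i = j := by decide
    exact key i hi j hj h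
  · obtain rfl : c = 209715 := by omega
    have key : ∀ i < 20, ∀ j < 20, (2 ^ i + 2 ^ j) % 209715 = 1 → i = j := by decide
    exact key i hi j hj h

/-- The exponents `2 ^ r * (1 - 2 ^ i)` prime to `c` are distinct. -/
theorem twist_inj {n m c i j r : ℕ} (hn : 2 ≤ n) (hm : m * c = 2 ^ n - 1) (hmn : m ∣ n)
    (hi : i < n) (hi0 : i ≠ 0) (hj : j < n) (hr : r < n) (hu : (2 ^ i - 1).Coprime c)
    (h : 2 ^ r + 2 ^ j ≡ 2 ^ (r + i) + 1 [MOD c]) : i = j ∧ r = 0 := by
  have hc : c ∣ 2 ^ n - 1 := hm ▸ dvd_mul_left c m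
  have main : (m = 1 ∨ 21 ≤ n) → i = j ∧ r = 0 := fun hcase => by
    have h3 : 2 ^ r + 2 ^ j ≡ 2 ^ ((r + i) % n) + 2 ^ 0 [MOD c] :=
      h.trans ((two_pow_mod hc _).add (Nat.ModEq.refl _))
    rcases pair_modEq hn hm (Nat.le_of_dvd (by omega) hmn) hcase hr hj (Nat.mod_lt _ (by omega))
      (by omega) h3 with ⟨p, -⟩ | ⟨p, q⟩
    · exfalso
      have h5 : r + 0 ≡ r + i [MOD n] := by
        show (r + 0) % n = (r + i) % n
        rw [add_zero, Nat.mod_eq_of_lt hr]
        exact p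
      exact hi0 ((Nat.ModEq.add_left_cancel' r h5).eq_of_lt_of_lt (by omega) hi).symm
    · subst p
      rw [zero_add, Nat.mod_eq_of_lt hi] at q
      exact ⟨q.symm, rfl⟩
  by_cases hn21 : 21 ≤ n
  · exact main (Or.inr hn21)
  rcases exceptional hn (by omega) hmn (hm ▸ dvd_mul_right m c) with rfl | h' | h' | h' | h' | h'
  · exact main (Or.inl rfl)
  all_goals
    obtain ⟨rfl, rfl⟩ := Prod.mk.inj h'
    norm_num at hm
  · obtain rfl : c = 21 := by omega
    have key : ∀ i < 6, Nat.gcd (2 ^ i - 1) 21 = 1 → ∀ j < 6, ∀ r < 6,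
        (2 ^ r + 2 ^ j) % 21 = (2 ^ (r + i) + 1) % 21 → i = j ∧ r = 0 := by decide
    exact key i hi hu j hj r hr h
  · obtain rfl : c = 1365 := by omega
    have key : ∀ i < 12, Nat.gcd (2 ^ i - 1) 1365 = 1 → ∀ j < 12, ∀ r < 12,
        (2 ^ r + 2 ^ j) % 1365 = (2 ^ (r + i) + 1) % 1365 → i = j ∧ r = 0 := by decide
    exact key i hi hu j hj r hr h
  · obtain rfl : c = 87381 := by omega
    have key : ∀ i < 18, Nat.gcd (2 ^ i - 1) 87381 = 1 → ∀ j < 18, ∀ r < 18,
        (2 ^ r + 2 ^ j) % 87381 = (2 ^ (r + i) + 1) % 87381 → i = j ∧ r = 0 := by decide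
    exact key i hi hu j hj r hr h
  · obtain rfl : c = 29127 := by omega
    have key : ∀ i < 18, Nat.gcd (2 ^ i - 1) 29127 = 1 → ∀ j < 18, ∀ r < 18,
        (2 ^ r + 2 ^ j) % 29127 = (2 ^ (r + i) + 1) % 29127 → i = j ∧ r = 0 := by decide
    exact key i hi hu j hj r hr h
  · obtain rfl : c = 209715 := by omega
    have key : ∀ i < 20, Nat.gcd (2 ^ i - 1) 209715 = 1 → ∀ j < 20, ∀ r < 20,
        (2 ^ r + 2 ^ j) % 209715 = (2 ^ (r + i) + 1) % 209715 → i = j ∧ r = 0 := by decide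
    exact key i hi hu j hj r hr h

/-- The multiplicative order of two modulo `c` is `n`. -/
theorem order_two {n m c j : ℕ} (hn : 2 ≤ n) (hm : m * c = 2 ^ n - 1) (hmn : m ∣ n)
    (hj0 : 0 < j) (hj : j ≤ n) (h : c ∣ 2 ^ j - 1) : j = n := by
  have hc : c ∣ 2 ^ n - 1 := hm ▸ dvd_mul_left c m
  have hd : c ∣ 2 ^ (Nat.gcd j n) - 1 := by
    rw [← Nat.pow_sub_one_gcd_pow_sub_one]; exact Nat.dvd_gcd h hc
  set d := Nat.gcd j n with hdd
  have hd0 : 0 < d := Nat.gcd_pos_of_pos_left _ hj0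
  by_contra hne
  have hdn : d ≠ n := fun h' => hne (le_antisymm hj (h' ▸ Nat.gcd_le_left n hj0))
  obtain ⟨k, hk⟩ : d ∣ n := Nat.gcd_dvd_right j n
  have hk2 : 2 ≤ k := by
    rcases k with _ | _ | k
    · omega
    · omega
    · omega
  have hle : c ≤ 2 ^ d - 1 := Nat.le_of_dvd (by have := Nat.one_lt_two_pow hd0.ne'; omega) hd
  have hdn2 : 2 * d ≤ n := by rw [hk, mul_comm 2]; exact Nat.mul_le_mul_left d hk2
  have hmn' : m ≤ n := Nat.le_of_dvd (by omega) hmn
  have h1 : 2 ^ d * 2 ^ (n - d) = 2 ^ n := by rw [← pow_add]; congr 1; omega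
  have h2 : n ≤ 2 ^ (n - d) := by
    have key : ∀ t, 1 ≤ t → 2 * t ≤ 2 ^ t := by
      intro t ht
      induction t, ht using Nat.le_induction with
      | base => norm_num
      | succ t ht ih => rw [pow_succ]; omega
    have := key (n - d) (by omega)
    omega
  have h3 : m * c ≤ n * (2 ^ d - 1) := Nat.mul_le_mul hmn' hle
  have h4 : n * (2 ^ d - 1) ≤ 2 ^ (n - d) * (2 ^ d - 1) := Nat.mul_le_mul_right _ h2
  rw [hm] at h3
  replace h4 := h3.trans h4
  rw [Nat.mul_sub_one, mul_comm (2 ^ (n - d)), h1] at h4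
  have h5 : 2 ≤ 2 ^ (n - d) := le_self_pow₀ one_le_two (by omega)
  have h6 : 2 ^ (n - d) ≤ 2 ^ n := Nat.pow_le_pow_right two_pos (by omega)
  omega

end CfsgLib.FGS68.SuzukiGen
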