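import Cfsg.Agent.S3360
import Cfsg.Agent.Lib.SuzukiTwo.Basic
import Cfsg.Agent.Lib.SuzukiTwo.AdditiveMaps
import Cfsg.Agent.Lib.FGS68.SuzukiArith

/-!
2-groups with a solvable group of automorphisms transitive on involutions: a large cyclic group of scalars on
the central involutions, and the resulting vanishing of equivariant alternating maps.
-/

set_option autoImplicit false
set_option linter.style.haveILetI false
set_option linter.unusedSectionVars false

namespace CfsgLib.FGS68.SuzukiGen

open CfsgLib.SuzukiTwo (omegaCenter KInv omegaAct)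

/-- A solvable group of automorphisms transitive on the (at least two) involutions of a 2-group. -/
structure TransInv {P : Type*} [Group P] (K : Subgroup (MulAut P)) : Prop where
  fin : Finite P
  isPGroup : IsPGroup 2 P
  two : ∃ x y : P, x ≠ y ∧ x ≠ 1 ∧ x * x = 1 ∧ y ≠ 1 ∧ y * y = 1
  solvable : Group.IsSolvable K
  trans : ∀ x y : P, x ≠ 1 → x * x = 1 → y ≠ 1 → y * y = 1 → ∃ k ∈ K, k x = y

variable {P : Type*} [Group P] {K : Subgroup (MulAut P)}

theorem mem_omega_of_sq (hR : TransInv K) {x : P} (hx : x * x = 1) : x ∈ omegaCenter P := by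
  haveI := hR.fin
  haveI : Fact (Nat.Prime 2) := ⟨Nat.prime_two⟩
  by_cases hx1 : x = 1
  · rw [hx1]; exact Subgroup.one_mem _
  haveI : Nontrivial P := ⟨⟨x, 1, hx1⟩⟩
  obtain ⟨z, -, hzc, hz⟩ := CfsgLib.PGroup.exists_central_orderOf_eq hR.isPGroup (⊤ : Subgroup P) top_ne_bot
  have hz1 : z ≠ 1 := fun h => by rw [h, orderOf_one] at hz; omega
  have hz2 : z * z = 1 := by rw [← sq, ← hz]; exact pow_orderOf_eq_one z
  obtain ⟨k, -, hk⟩ := hR.trans z x hz1 hz2 hx1 hx
  refine ⟨Subgroup.mem_center_iff.2 fun g => ?_, hx⟩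
  have h := congrArg k (Subgroup.mem_center_iff.1 hzc (k.symm g))
  rwa [map_mul, map_mul, MulEquiv.apply_symm_apply, hk] at h

section field

variable {F : Type*} [Field F] [Fintype F] {n : ℕ}

theorem finrank_eq [CharP F 2] [Algebra (ZMod 2) F] (hcard : Fintype.card F = 2 ^ n) :
    Module.finrank (ZMod 2) F = n := by
  have h := Module.card_eq_pow_finrank (K := ZMod 2) (V := F)
  rw [ZMod.card, hcard] at h
  exact (Nat.pow_right_injective le_rfl h).symm

theorem exists_frob_pow [CharP F 2] (hcard : Fintype.card F = 2 ^ n) (σ : F ≃+* F) :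
    ∃ i, i < n ∧ ∀ x, σ x = x ^ 2 ^ i := by
  haveI : Fact (Nat.Prime 2) := ⟨Nat.prime_two⟩
  letI : Algebra (ZMod 2) F := ZMod.algebra F 2
  let τ : F ≃ₐ[ZMod 2] F := AlgEquiv.ofRingEquiv (f := σ) fun r => by
    have : (σ : F →+* F).comp (algebraMap (ZMod 2) F) = algebraMap (ZMod 2) F := Subsingleton.elim _ _
    exact RingHom.congr_fun this r
  obtain ⟨i, hi⟩ := (FiniteField.bijective_frobeniusAlgEquivOfAlgebraic_pow (ZMod 2) F).2 τ
  refine ⟨i, lt_of_lt_of_eq i.2 (finrank_eq hcard), fun x => ?_⟩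
  have h1 := DFunLike.congr_fun hi x
  rw [AlgEquiv.coe_pow, FiniteField.coe_frobeniusAlgEquivOfAlgebraic, pow_iterate, ZMod.card] at h1
  exact h1.symm

theorem card_aut_dvd [CharP F 2] (hcard : Fintype.card F = 2 ^ n) : Nat.card (F ≃+* F) = n := by
  haveI : Fact (Nat.Prime 2) := ⟨Nat.prime_two⟩
  letI : Algebra (ZMod 2) F := ZMod.algebra F 2
  rw [← finrank_eq hcard, ← IsGalois.card_aut_eq_finrank (ZMod 2) F]
  refine Nat.card_congr ⟨fun σ => AlgEquiv.ofRingEquiv (f := σ) fun r => ?_, fun τ => τ.toRingEquiv,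
    fun σ => RingEquiv.ext fun x => rfl, fun τ => AlgEquiv.ext fun x => rfl⟩
  have : (σ : F →+* F).comp (algebraMap (ZMod 2) F) = algebraMap (ZMod 2) F := Subsingleton.elim _ _
  exact RingHom.congr_fun this r

end field

/-- A cyclic group of scalars of index dividing the degree. -/
theorem exists_scalar (hR : TransInv K) :
    ∃ (F : Type) (_ : Field F) (_ : Fintype F) (_ : CharP F 2) (n m : ℕ) (γ : F) (k : MulAut P)
      (ψ : Multiplicative F ≃* omegaCenter P), Fintype.card F = 2 ^ n ∧ 2 ≤ n ∧
      m * orderOf γ = 2 ^ n - 1 ∧ m ∣ n ∧ k ∈ K ∧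
      ∀ x : F, k (ψ (Multiplicative.ofAdd x) : P) = ψ (Multiplicative.ofAdd (γ * x)) := by
  classical
  haveI := hR.fin
  haveI : Fact (Nat.Prime 2) := ⟨Nat.prime_two⟩
  letI : CommGroup (omegaCenter P) :=
    { (inferInstance : Group (omegaCenter P)) with mul_comm := CfsgLib.SuzukiTwo.omegaCenter_comm }
  letI : Module (ZMod 2) (Additive (omegaCenter P)) :=
    AddCommGroup.zmodModule fun x => by
      apply Additive.toMul.injective
      rw [toMul_nsmul, sq, toMul_zero]
      exact Subtype.ext (Additive.toMul x).2.2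
  obtain ⟨a, b, hab, ha1, ha2, hb1, hb2⟩ := hR.two
  set u : Additive (omegaCenter P) := Additive.ofMul ⟨a, mem_omega_of_sq hR ha2⟩
  set v : Additive (omegaCenter P) := Additive.ofMul ⟨b, mem_omega_of_sq hR hb2⟩
  have hu : u ≠ 0 := fun h => ha1 (congrArg (fun x : Additive (omegaCenter P) => ((Additive.toMul x : omegaCenter P) : P)) h)
  haveI : Nontrivial (Additive (omegaCenter P)) := ⟨⟨u, 0, hu⟩⟩
  let lin : K →* (Additive (omegaCenter P) ≃ₗ[ZMod 2] Additive (omegaCenter P)) :=
    { toFun := fun k =>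
        { MulEquiv.toAdditive (omegaAct K k) with
          map_smul' := fun c x => ZMod.map_smul (MulEquiv.toAdditive (omegaAct K k)).toAddMonoidHom c x }
      map_one' := rfl
      map_mul' := fun _ _ => rfl }
  haveI := hR.solvable
  haveI : Finite (MulAut P) := Finite.of_injective (fun f : MulAut P => (f : P → P)) DFunLike.coe_injective
  haveI : Finite lin.range := Finite.of_surjective lin.rangeRestrict lin.rangeRestrict_surjective
  obtain ⟨F, _, _, e, he⟩ | hex := Cfsg.Agent.S3360.result 2 (V := Additive (omegaCenter P))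
    (G := lin.range) (solvable_of_surjective lin.rangeRestrict_surjective) lin.range.subtype
    lin.range.subtype_injective (by
      intro x y hx hy
      obtain ⟨k, hk, hk'⟩ := hR.trans (Additive.toMul x : omegaCenter P) (Additive.toMul y : omegaCenter P)
        (fun h => hx (Additive.toMul.injective (Subtype.ext h))) (Additive.toMul x).2.2
        (fun h => hy (Additive.toMul.injective (Subtype.ext h))) (Additive.toMul y).2.2
      exact ⟨⟨lin ⟨k, hk⟩, ⟨k, hk⟩, rfl⟩, Additive.toMul.injective (Subtype.ext hk')⟩)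
  swap
  · exfalso
    obtain ⟨s, hs⟩ := IsPGroup.iff_card.1 (hR.isPGroup.to_subgroup (omegaCenter P))
    rw [Nat.card_congr (Additive.toMul (α := omegaCenter P)), hs] at hex
    simp only [Set.mem_insert_iff, Set.mem_singleton_iff] at hex
    rcases Nat.eq_zero_or_pos s with hs0 | hs0
    · subst hs0; norm_num at hex
    · have h2 : 2 ∣ 2 ^ s := dvd_pow_self 2 hs0.ne'
      omega
  have hF2 : ∀ x : F, x + x = 0 := fun x => by
    obtain ⟨w, rfl⟩ := e.surjective x
    rw [← map_add, ← map_zero e]
    congr 1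
    exact Additive.toMul.injective (Subtype.ext (Additive.toMul w).2.2)
  haveI : CharP F 2 := CharTwo.of_one_ne_zero_of_two_eq_zero one_ne_zero (by rw [← one_add_one_eq_two, hF2])
  obtain ⟨n, hn, hcard⟩ : ∃ n, 2 ≤ n ∧ Fintype.card F = 2 ^ n := by
    obtain ⟨n, -, hn⟩ := FiniteField.card F 2
    refine ⟨n, ?_, hn⟩
    by_contra hlt
    have hle : Fintype.card F ≤ 2 := by
      rw [hn]
      calc 2 ^ (n : ℕ) ≤ 2 ^ 1 := Nat.pow_le_pow_right two_pos (by omega)
        _ = 2 := pow_one 2
    have h3 : ({e 0, e u, e v} : Finset F).card = 3 := by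
      rw [Finset.card_eq_three]
      refine ⟨e 0, e u, e v, fun h => hu (e.injective h).symm, fun h => ?_, fun h => ?_, rfl⟩
      · exact hb1 (congrArg (fun x : Additive (omegaCenter P) => ((Additive.toMul x : omegaCenter P) : P)) (e.injective h).symm)
      · exact hab (congrArg (fun x : Additive (omegaCenter P) => ((Additive.toMul x : omegaCenter P) : P)) (e.injective h))
    have := Finset.card_le_univ ({e 0, e u, e v} : Finset F)
    omega
  -- the semilinear parts
  have hsl : ∀ k : K, ∃ (a : Fˣ) (σ : F ≃+* F), ∀ w, e (lin k w) = a * σ (e w) := by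
    intro k
    obtain ⟨a, σ, h⟩ := he ⟨lin k, k, rfl⟩
    refine ⟨Units.mk0 a fun ha => hu ?_, σ, h⟩
    have h1 := h u
    rw [ha, zero_mul, ← map_zero e] at h1
    exact (lin k).injective ((e.injective h1).trans (map_zero (lin k)).symm)
  choose A σ hA using hsl
  set w1 := e.symm 1 with hw1
  have hone : ∀ k, e (lin k w1) = A k := fun k => by rw [hA, hw1, AddEquiv.apply_symm_apply, map_one, mul_one]
  have hmulA : ∀ k l, (A (k * l) : F) = A k * σ k (A l) ∧ ∀ x, σ (k * l) x = σ k (σ l x) := by
    intro k l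
    have h1 : ∀ w, (A (k * l) : F) * σ (k * l) (e w) = A k * σ k (A l * σ l (e w)) := fun w => by
      rw [← hA, ← hA, ← hA, map_mul]
      rfl
    have h2 : (A (k * l) : F) = A k * σ k (A l) := by
      have := h1 w1
      rwa [hw1, AddEquiv.apply_symm_apply, map_one, map_one, mul_one, mul_one] at this
    refine ⟨h2, fun x => ?_⟩
    have := h1 (e.symm x)
    rw [AddEquiv.apply_symm_apply, map_mul, ← mul_assoc, ← h2] at this
    exact mul_left_cancel₀ (A (k * l)).ne_zero this
  have hσ1 : σ 1 = 1 := RingEquiv.ext fun x => by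
    have := (hmulA 1 1).2 x
    rw [one_mul] at this
    exact ((σ 1).injective this).symm
  let Φ : K →* (F ≃+* F) :=
    { toFun := σ, map_one' := hσ1, map_mul' := fun k l => RingEquiv.ext (hmulA k l).2 }
  let χ : Φ.ker →* Fˣ :=
    { toFun := fun k => A k
      map_one' := Units.ext (by
        show ((A (1 : K)) : F) = 1
        have h := (hmulA 1 1).1
        rw [one_mul, hσ1] at h
        exact (mul_eq_left₀ (A (1 : K)).ne_zero).1 h.symm)
      map_mul' := fun k l => Units.ext (by
        show ((A ((k : K) * l)) : F) = _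
        rw [(hmulA _ _).1, show σ (k : K) = 1 from k.2]
        rfl) }
  set S := χ.range with hS
  have hA1 : A (1 : K) = 1 := χ.map_one
  obtain ⟨g, hg⟩ : IsCyclic S := inferInstance
  obtain ⟨k₀, hk₀⟩ : ∃ k₀, χ k₀ = (g : Fˣ) := g.2
  have hgord : orderOf ((g : Fˣ) : F) = Nat.card S := by
    rw [orderOf_units, Subgroup.orderOf_coe]
    exact orderOf_eq_card_of_forall_mem_zpowers hg
  have hSinv : ∀ (τ : F ≃+* F) (s : Fˣ), s ∈ S → Units.map (τ : F →* F) s ∈ S := by
    intro τ s hs
    obtain ⟨i, -, hi⟩ := exists_frob_pow hcard τ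
    have : Units.map (τ : F →* F) s = s ^ 2 ^ i := Units.ext (by
      rw [Units.val_pow_eq_pow_val]; exact hi _)
    rw [this]
    exact pow_mem hs _
  have hindex : S.index ∣ n := by
    let f : K → Fˣ ⧸ S := fun k => QuotientGroup.mk (A k)
    let H : Subgroup K :=
      { carrier := {k | A k ∈ S}
        one_mem' := show A 1 ∈ S by rw [hA1]; exact one_mem S
        mul_mem' := fun {k l} hk hl => by
          have : A (k * l) = A k * Units.map (σ k : F →* F) (A l) := Units.ext (hmulA k l).1
          show A (k * l) ∈ S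
          rw [this]
          exact mul_mem hk (hSinv _ _ hl)
        inv_mem' := fun {k} hk => by
          have h1 : A (k * k⁻¹) = A k * Units.map (σ k : F →* F) (A k⁻¹) := Units.ext (hmulA k k⁻¹).1
          rw [mul_inv_cancel] at h1
          have h2 : Units.map (σ k : F →* F) (A k⁻¹) ∈ S := by
            rw [eq_inv_mul_iff_mul_eq.2 h1.symm]
            exact mul_mem (inv_mem hk) (hA1 ▸ one_mem S)
          have h3 := hSinv (σ k).symm _ h2
          have h4 : Units.map ((σ k).symm : F →* F) (Units.map (σ k : F →* F) (A k⁻¹)) = A k⁻¹ :=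
            Units.ext ((σ k).symm_apply_apply _)
          rwa [h4] at h3 }
    have hker : Φ.ker ≤ H := fun k hk => ⟨⟨k, hk⟩, rfl⟩
    have hcardq : H.index = S.index := by
      have hf : ∀ k l, f k = f l ↔ k⁻¹ * l ∈ H := by
        intro k l
        have h1 : A l = A k * Units.map (σ k : F →* F) (A (k⁻¹ * l)) := by
          conv_lhs => rw [← mul_inv_cancel_left k l]
          exact Units.ext (hmulA _ _).1
        rw [QuotientGroup.eq]
        show _ ↔ A (k⁻¹ * l) ∈ S
        rw [h1, inv_mul_cancel_left]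
        refine ⟨fun h => ?_, hSinv _ _⟩
        have h3 := hSinv (σ k).symm _ h
        have h4 : Units.map ((σ k).symm : F →* F) (Units.map (σ k : F →* F) (A (k⁻¹ * l))) = A (k⁻¹ * l) :=
          Units.ext ((σ k).symm_apply_apply _)
        rwa [h4] at h3
      refine Nat.card_eq_of_bijective (Quotient.lift f fun k l h => (hf k l).2
        (QuotientGroup.leftRel_apply.1 h)) ⟨?_, ?_⟩
      · rintro ⟨k⟩ ⟨l⟩ h
        exact QuotientGroup.eq.2 ((hf k l).1 h)
      · rintro ⟨s⟩
        obtain ⟨k, hk, hk'⟩ := hR.trans (Additive.toMul w1 : omegaCenter P)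
          (Additive.toMul (e.symm (s : F)) : omegaCenter P)
          (fun h => one_ne_zero (α := F) (by
            rw [show (1 : F) = e w1 from (e.apply_symm_apply 1).symm,
              show w1 = 0 from Additive.toMul.injective (Subtype.ext h), map_zero]))
          (Additive.toMul w1).2.2
          (fun h => s.ne_zero (by
            rw [show (s : F) = e (e.symm (s : F)) from (e.apply_symm_apply _).symm,
              show e.symm (s : F) = 0 from Additive.toMul.injective (Subtype.ext h), map_zero]))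
          (Additive.toMul (e.symm (s : F))).2.2
        refine ⟨QuotientGroup.mk ⟨k, hk⟩, congrArg QuotientGroup.mk (Units.ext ?_)⟩
        rw [← hone, show lin ⟨k, hk⟩ w1 = e.symm (s : F) from Additive.toMul.injective (Subtype.ext hk'),
          AddEquiv.apply_symm_apply]
    rw [← hcardq, ← card_aut_dvd hcard]
    refine (Subgroup.index_dvd_of_le hker).trans ?_
    rw [Subgroup.index_ker]
    exact Subgroup.card_subgroup_dvd_card _
  refine ⟨F, inferInstance, inferInstance, inferInstance, n, S.index, ((g : Fˣ) : F), (k₀ : K),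
    (AddEquiv.toMultiplicative e.symm).trans (MulEquiv.multiplicativeAdditive (omegaCenter P)), hcard, hn, ?_, hindex,
    (k₀ : K).2, fun x => ?_⟩
  · rw [hgord, mul_comm, Subgroup.card_mul_index, Nat.card_units, Nat.card_eq_fintype_card, hcard]
  · have h1 := hA (k₀ : K) (e.symm x)
    rw [AddEquiv.apply_symm_apply, show σ (k₀ : K) = 1 from k₀.2,
      show A (k₀ : K) = (g : Fˣ) from hk₀] at h1
    rw [← AddEquiv.eq_symm_apply] at h1
    exact congrArg (fun z : Additive (omegaCenter P) => ((Additive.toMul z : omegaCenter P) : P)) h1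

section coeff

variable {F : Type*} [Field F] [Fintype F] [CharP F 2]

theorem coeff_eq_zero [Fintype (F ≃+* F)] (d : (F ≃+* F) → F) (h : ∀ x, ∑ σ, d σ * σ x = 0) :
    ∀ σ, d σ = 0 :=
  Fintype.linearIndependent_iff.1 (CfsgLib.SuzukiTwo.linearIndependent_autos (F := F)) d (by
    funext x
    rw [Finset.sum_apply, Pi.zero_apply, ← h x]
    rfl)

/-- Alternating equivariant biadditive maps vanish. -/
theorem field_noAlt {n m : ℕ} {γ : F} (hcard : Fintype.card F = 2 ^ n) (hn : 2 ≤ n)
    (hm : m * orderOf γ = 2 ^ n - 1) (hmn : m ∣ n) (B : F →+ F →+ F) (halt : ∀ x, B x x = 0)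
    (heq : ∀ x y, B (γ * x) (γ * y) = γ * B x y) : ∀ x y, B x y = 0 := by
  classical
  haveI : Finite (F ≃+* F) := Finite.of_injective (fun f : F ≃+* F => (f : F → F)) DFunLike.coe_injective
  haveI : Fintype (F ≃+* F) := Fintype.ofFinite _
  obtain ⟨c, hc⟩ := CfsgLib.SuzukiTwo.exists_autos_of_biadditive B
  have h2n : 1 < 2 ^ n := Nat.one_lt_two_pow (by omega)
  have hγ : γ ≠ 0 := by
    intro h
    rw [h, orderOf_zero, mul_zero] at hm
    omega
  have hz : ∀ p : (F ≃+* F) × (F ≃+* F), c p * (p.1 γ * p.2 γ - γ) = 0 := by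
    intro p
    have h1 : ∀ x σ, ∑ τ, c (σ, τ) * (σ γ * τ γ - γ) * τ x = 0 := by
      intro y
      refine coeff_eq_zero (fun σ => ∑ τ, c (σ, τ) * (σ γ * τ γ - γ) * τ y) fun x => ?_
      have h0 : B (γ * x) (γ * y) - γ * B x y = 0 := sub_eq_zero.2 (heq x y)
      rw [hc, hc, Finset.mul_sum, ← Finset.sum_sub_distrib, Fintype.sum_prod_type] at h0
      rw [← h0]
      refine Finset.sum_congr rfl fun σ _ => ?_
      rw [Finset.sum_mul]
      refine Finset.sum_congr rfl fun τ _ => ?_
      rw [map_mul, map_mul]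
      ring
    exact coeff_eq_zero (fun τ => c (p.1, τ) * (p.1 γ * τ γ - γ)) (fun y => h1 y p.1) p.2
  have hdiag : ∀ p : (F ≃+* F) × (F ≃+* F), c p ≠ 0 → p.1 = p.2 := by
    intro p hp
    have h1 := sub_eq_zero.1 ((mul_eq_zero.1 (hz p)).resolve_left hp)
    obtain ⟨i, hi, hi'⟩ := exists_frob_pow hcard p.1
    obtain ⟨j, hj, hj'⟩ := exists_frob_pow hcard p.2
    rw [hi', hj', ← pow_add] at h1
    have hne : IsUnit γ := isUnit_iff_ne_zero.2 hγ
    have h2 : 2 ^ i + 2 ^ j ≡ 1 [MOD orderOf γ] := by
      rw [show orderOf γ = orderOf hne.unit by rw [← orderOf_units, IsUnit.unit_spec]]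
      refine pow_eq_pow_iff_modEq.1 (Units.ext ?_)
      rw [Units.val_pow_eq_pow_val, Units.val_pow_eq_pow_val, IsUnit.unit_spec, h1, pow_one]
    have := no_two_term hn hm hmn hi hj h2
    subst this
    exact RingEquiv.ext fun x => by rw [hi', hj']
  have hB : ∀ x y, B x y = ∑ σ, c (σ, σ) * σ (x * y) := by
    intro x y
    rw [hc, Fintype.sum_prod_type]
    refine Finset.sum_congr rfl fun σ _ => ?_
    rw [Finset.sum_eq_single σ, map_mul]
    · intro τ _ hτ
      by_cases h : c (σ, τ) = 0
      · rw [h, zero_mul]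
      · exact absurd (hdiag _ h).symm hτ
    · simp
  have hd : ∀ σ, c (σ, σ) = 0 := by
    refine coeff_eq_zero (fun σ => c (σ, σ)) fun z => ?_
    have hsq : Function.Surjective (fun y : F => y * y) :=
      Finite.injective_iff_surjective.1 fun x y (h : x * x = y * y) => by
        rwa [← sq, ← sq, CharTwo.sq_inj] at h
    obtain ⟨y, rfl⟩ := hsq z
    rw [← hB, halt]
  intro x y
  rw [hB]
  simp [hd]

end coeff

end CfsgLib.FGS68.SuzukiGen
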