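import Cfsg.Agent.Lib.FGS68.SuzukiCore

/-!
A nonabelian 2-group with a solvable group of automorphisms transitive on its at least two involutions has
squares and commutators among the central involutions.
-/

set_option autoImplicit false
set_option linter.style.haveILetI false
set_option linter.unusedSectionVars false

open scoped commutatorElement

namespace CfsgLib.FGS68.SuzukiGen

open CfsgLib.SuzukiTwo (omegaCenter KInv HomoData stepSubgroup mem_stepSubgroup stepSubgroup_normal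
  stepSubgroup_kInv lt_stepSubgroup centralizer_kInv)

variable {P : Type*} [Group P] {K : Subgroup (MulAut P)}

/-- Powers of the scalar fix nothing. -/
theorem scalar_pow_fpf (hR : TransInv K) {F : Type} [Field F] {γ : F} {k : MulAut P}
    {ψ : Multiplicative F ≃* omegaCenter P}
    (hψ : ∀ x : F, k (ψ (Multiplicative.ofAdd x) : P) = ψ (Multiplicative.ofAdd (γ * x))) {t : ℕ}
    (ht : γ ^ t ≠ 1) {x : P} (hx : (k ^ t) x = x) : x = 1 := by
  haveI := hR.fin
  haveI : Fact (Nat.Prime 2) := ⟨Nat.prime_two⟩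
  have hpow : ∀ (s : ℕ) (w : F), (k ^ s) (ψ (Multiplicative.ofAdd w) : P) =
      ψ (Multiplicative.ofAdd (γ ^ s * w)) := by
    intro s
    induction s with
    | zero => intro w; rw [pow_zero, pow_zero, one_mul]; rfl
    | succ s ih => intro w; rw [pow_succ', MulAut.mul_apply, ih, hψ, pow_succ', mul_assoc]
  by_contra hx1
  set y := x ^ (orderOf x / 2)
  have hy : orderOf y = 2 :=
    orderOf_pow_orderOf_div (orderOf_pos x).ne' (hR.isPGroup.dvd_orderOf hx1)
  have hy1 : y ≠ 1 := fun h => by rw [h, orderOf_one] at hy; omega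
  have hy2 : y * y = 1 := by rw [← sq, ← hy]; exact pow_orderOf_eq_one y
  obtain ⟨w, hw⟩ : ∃ w : F, ψ (Multiplicative.ofAdd w) = ⟨y, mem_omega_of_sq hR hy2⟩ :=
    ⟨Multiplicative.toAdd (ψ.symm ⟨y, mem_omega_of_sq hR hy2⟩), by
      rw [ofAdd_toAdd, MulEquiv.apply_symm_apply]⟩
  have h1 := hpow t w
  rw [hw, map_pow, hx] at h1
  have h2 : ψ (Multiplicative.ofAdd (γ ^ t * w)) = ψ (Multiplicative.ofAdd w) :=
    hw ▸ Subtype.ext h1.symm
  have h3 : γ ^ t * w = w := Multiplicative.ofAdd.injective (ψ.injective h2)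
  have hw0 : w ≠ 0 := fun h => by
    rw [h, ofAdd_zero, map_one] at hw
    exact hy1 (congrArg Subtype.val hw).symm
  exact ht ((mul_eq_right₀ hw0).1 h3)

theorem zmod_two_cases : ∀ d : ZMod 2, d = 0 ∨ d = 1 := by decide

theorem conj_root {F : Type*} [Field F] [Fintype F] [CharP F 2] [Algebra (ZMod 2) F] {a b : F}
    (h : (minpoly (ZMod 2) a).aeval b = 0) : ∃ σ : F ≃+* F, σ a = b := by
  haveI : Fact (Nat.Prime 2) := ⟨Nat.prime_two⟩
  have hint : IsIntegral (ZMod 2) a := Algebra.IsIntegral.isIntegral a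
  have hb : IsConjRoot (ZMod 2) a b := isConjRoot_of_aeval_eq_zero hint h
  obtain ⟨σ, hσ⟩ := (isConjRoot_iff_exists_algEquiv).1 hb
  exact ⟨σ.toRingEquiv.symm, by rw [← hσ]; exact σ.symm_apply_apply _⟩

section exponentFour

variable {A : Subgroup P} [hAn : A.Normal] (hR : TransInv K) (hA : HomoData K A 2)

include hR hA

theorem dev_omega {x : P} (hx : x ∈ A) (y : P) : dev y x ∈ omegaCenter P := by
  have h := dev_pi hR hA hx y
  rw [show (2 : ℕ) - 1 = 1 from rfl, pow_one, sq] at h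
  exact mem_omega_of_sq hR h

theorem sq_omega {x : P} (hx : x ∈ A) : x * x ∈ omegaCenter P := by
  have h := pi_mem hA hR hx
  rwa [show (2 : ℕ) - 1 = 1 from rfl, pow_one, sq] at h

theorem exists_root {v : P} (hv : v ∈ omegaCenter P) : ∃ x ∈ A, x * x = v := by
  obtain ⟨x, hx, hxv⟩ := pi_surj hA hR hv
  rw [show (2 : ℕ) - 1 = 1 from rfl, pow_one, sq] at hxv
  exact ⟨x, hx, hxv⟩

theorem dev_eq_of_sq {x x' : P} (hx : x ∈ A) (hx' : x' ∈ A) (h : x * x = x' * x') (y : P) :
    dev y x = dev y x' := by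
  have := delta_eq_of_sq_aux hR hA hx hx' h
  obtain ⟨e, he, rfl⟩ := this
  rw [dev_mul_right hA hx (omega_le_A hA hR he),
    show dev y e = 1 from commutatorElement_eq_one_iff_mul_comm.2 (Subgroup.mem_center_iff.1 he.1 y),
    mul_one]
where
  delta_eq_of_sq_aux (hR : TransInv K) (hA : HomoData K A 2) {x x' : P} (hx : x ∈ A) (hx' : x' ∈ A)
      (h : x * x = x' * x') : ∃ e ∈ omegaCenter P, x' = x * e := by
    refine ⟨x⁻¹ * x', mem_omega_of_sq hR ?_, by rw [mul_inv_cancel_left]⟩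
    calc x⁻¹ * x' * (x⁻¹ * x') = x⁻¹ * (x' * x⁻¹) * x' := by group
      _ = x⁻¹ * x⁻¹ * (x' * x') := by rw [hA.comm x' hx' _ (A.inv_mem hx)]; group
      _ = 1 := by rw [← h]; group

theorem sq_mem_A (hC : Subgroup.centralizer (A : Set P) = A) (y : P) : y * y ∈ A := by
  rw [← hC]
  refine Subgroup.mem_centralizer_iff.2 fun x hx => (commutatorElement_eq_one_iff_mul_comm.1 ?_).symm
  have e : dev (y * y) x = (y * dev y x * y⁻¹) * dev y x := by
    simp only [dev, commutatorElement_def]; group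
  show dev (y * y) x = 1
  rw [e, omega_conj (dev_omega hR hA hx y)]
  exact (dev_omega hR hA hx y).2

theorem dev_mul_left {x : P} (hx : x ∈ A) (y y' : P) : dev (y * y') x = dev y x * dev y' x := by
  have e : dev (y * y') x = (y * dev y' x * y⁻¹) * dev y x := by
    simp only [dev, commutatorElement_def]; group
  rw [e, omega_conj (dev_omega hR hA hx y')]
  exact (Subgroup.mem_center_iff.1 (dev_omega hR hA hx y').1 _).symm

theorem comm_mem_A (hC : Subgroup.centralizer (A : Set P) = A) (y g : P) : ⁅y, g⁆ ∈ A := by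
  rw [← hC]
  refine Subgroup.mem_centralizer_iff.2 fun x hx => (commutatorElement_eq_one_iff_mul_comm.1 ?_).symm
  have hinv : ∀ z, dev z⁻¹ x = (dev z x)⁻¹ := fun z => by
    refine eq_inv_of_mul_eq_one_left ?_
    rw [← dev_mul_left hR hA hx, inv_mul_cancel]
    simp [dev]
  show dev (y * g * y⁻¹ * g⁻¹) x = 1
  rw [dev_mul_left hR hA hx, dev_mul_left hR hA hx, dev_mul_left hR hA hx, hinv, hinv]
  rw [(Subgroup.mem_center_iff.1 (dev_omega hR hA hx g).1 (dev y x)), mul_inv_cancel_right,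
    mul_inv_cancel]

/-- In exponent four the commutators are involutions. -/
theorem comm_sq_eq_one (hC : Subgroup.centralizer (A : Set P) = A) (u w : P) :
    ⁅u, w⁆ * ⁅u, w⁆ = 1 := by
  classical
  haveI := hR.fin
  haveI : Fact (Nat.Prime 2) := ⟨Nat.prime_two⟩
  obtain ⟨F, _, _, _, n, m, γ, k, ψ, hcard, hn, hm, hmn, hk, hψ⟩ := exists_scalar hR
  letI : Algebra (ZMod 2) F := ZMod.algebra F 2
  haveI : Finite (F ≃+* F) := Finite.of_injective (fun f : F ≃+* F => (f : F → F)) DFunLike.coe_injective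
  haveI : Fintype (F ≃+* F) := Fintype.ofFinite _
  have hsqA : ∀ y : P, y * y ∈ A := sq_mem_A hR hA hC
  have hcA : ∀ y g : P, ⁅y, g⁆ ∈ A := comm_mem_A hR hA hC
  have h2n : 1 < 2 ^ n := Nat.one_lt_two_pow (by omega)
  have hγ0 : γ ≠ 0 := by
    intro h
    rw [h, orderOf_zero, mul_zero] at hm
    omega
  have hγmod : ∀ {a b : ℕ}, γ ^ a = γ ^ b → a ≡ b [MOD orderOf γ] := by
    intro a b h
    rw [show orderOf γ = orderOf (isUnit_iff_ne_zero.2 hγ0).unit by rw [← orderOf_units, IsUnit.unit_spec]]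
    refine pow_eq_pow_iff_modEq.1 (Units.ext ?_)
    rw [Units.val_pow_eq_pow_val, Units.val_pow_eq_pow_val, IsUnit.unit_spec, h]
  -- coordinates on the central involutions
  let co : omegaCenter P → F := fun v => Multiplicative.toAdd (ψ.symm v)
  have hco_mul : ∀ a b, co (a * b) = co a + co b := fun a b => by simp [co]
  have hco_inj : Function.Injective co := fun a b h => by simpa [co] using h
  have hco_one : co 1 = 0 := by simp [co]
  have hco_k : ∀ (v v' : omegaCenter P), (v' : P) = k v → co v' = γ * co v := by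
    intro v v' h
    have h1 := hψ (co v)
    rw [show ψ (Multiplicative.ofAdd (co v)) = v from by simp [co], ← h] at h1
    have h2 : v' = ψ (Multiplicative.ofAdd (γ * co v)) := Subtype.ext h1
    rw [h2]
    simp [co]
  have hroot : ∀ v : F, ∃ x ∈ A, x * x = (ψ (Multiplicative.ofAdd v) : P) := fun v =>
    exists_root hR hA (ψ (Multiplicative.ofAdd v)).2
  choose X hXA hXsq using hroot
  let ℓ : P → F →+ F := fun y => AddMonoidHom.mk' (fun v => co ⟨dev y (X v), dev_omega hR hA (hXA v) y⟩)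
    (fun v v' => by
      rw [← hco_mul]
      refine congrArg co (Subtype.ext ?_)
      show dev y (X (v + v')) = dev y (X v) * dev y (X v')
      rw [← dev_mul_right hA (hXA v) (hXA v')]
      refine dev_eq_of_sq hR hA (hXA _) (A.mul_mem (hXA v) (hXA v')) ?_ y
      rw [← sq (X v * X v'), mul_pow_of_mem hA (hXA v) (hXA v') 2, sq, sq, hXsq, hXsq, hXsq, ofAdd_add,
        map_mul]
      rfl)
  have hℓ : ∀ (y : P) {x : P} (hx : x ∈ A),
      ℓ y (co ⟨x * x, sq_omega hR hA hx⟩) = co ⟨dev y x, dev_omega hR hA hx y⟩ := by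
    intro y x hx
    refine congrArg co (Subtype.ext (dev_eq_of_sq hR hA (hXA _) hx ?_ y))
    rw [hXsq]
    simp [co]
  have hℓmul : ∀ y y', ℓ (y * y') = ℓ y + ℓ y' := fun y y' => AddMonoidHom.ext fun v => by
    show co _ = co _ + co _
    rw [← hco_mul]
    exact congrArg co (Subtype.ext (dev_mul_left hR hA (hXA v) y y'))
  have hℓA : ∀ y, ℓ y = 0 → y ∈ A := by
    intro y h
    rw [← hC]
    refine Subgroup.mem_centralizer_iff.2 fun x hx => (commutatorElement_eq_one_iff_mul_comm.1 ?_).symm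
    have h1 := hℓ y hx
    rw [h, AddMonoidHom.zero_apply, ← hco_one] at h1
    exact (congrArg Subtype.val (hco_inj h1)).symm
  have hℓk : ∀ y v, ℓ (k y) (γ * v) = γ * ℓ y v := by
    intro y v
    refine hco_k _ _ ?_
    show dev (k y) (X (γ * v)) = k (dev y (X v))
    rw [map_commutatorElement]
    refine dev_eq_of_sq hR hA (hXA _) (hA.inv k hk _ (hXA v)) ?_ _
    rw [hXsq, ← map_mul, hXsq, hψ]
  choose a ha using fun y => CfsgLib.SuzukiTwo.exists_autos_of_additive (ℓ y)
  have hauniq : ∀ y (d : (F ≃+* F) → F), (∀ v, ℓ y v = ∑ σ, d σ * σ v) → ∀ σ, a y σ = d σ := by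
    intro y d hd σ
    refine sub_eq_zero.1 (coeff_eq_zero (fun σ => a y σ - d σ) (fun v => ?_) σ)
    rw [Finset.sum_congr rfl (fun σ _ => sub_mul (a y σ) (d σ) (σ v)), Finset.sum_sub_distrib, ← ha,
      ← hd, sub_self]
  have hamul : ∀ y y' σ, a (y * y') σ = a y σ + a y' σ := fun y y' =>
    hauniq _ (fun σ => a y σ + a y' σ) fun v => by
      rw [hℓmul, AddMonoidHom.add_apply, ha, ha, ← Finset.sum_add_distrib]
      exact Finset.sum_congr rfl fun σ _ => (add_mul _ _ _).symm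
  have haone : ∀ σ, a 1 σ = 0 := fun σ => by
    have := hamul 1 1 σ
    rw [one_mul] at this
    exact left_eq_add.1 this
  have hainv : ∀ y σ, a y⁻¹ σ = a y σ := fun y σ => by
    have := hamul y⁻¹ y σ
    rw [inv_mul_cancel, haone] at this
    exact CharTwo.add_eq_zero.1 this.symm
  let μ : (F ≃+* F) → F := fun σ => γ * (σ γ)⁻¹
  have hσγ : ∀ σ : F ≃+* F, σ γ ≠ 0 := fun σ => by simpa using hγ0
  have hak : ∀ y σ, a (k y) σ = μ σ * a y σ := by
    intro y
    refine hauniq _ (fun σ => μ σ * a y σ) fun v => ?_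
    have hv : v = γ * (γ⁻¹ * v) := (mul_inv_cancel_left₀ hγ0 v).symm
    conv_lhs => rw [hv, hℓk, ha, Finset.mul_sum]
    refine Finset.sum_congr rfl fun σ _ => ?_
    rw [map_mul σ, map_inv₀ σ]
    show γ * (a y σ * ((σ γ)⁻¹ * σ v)) = γ * (σ γ)⁻¹ * a y σ * σ v
    ring
  have hakpow : ∀ (t : ℕ) y σ, a ((k ^ t) y) σ = μ σ ^ t * a y σ := by
    intro t
    induction t with
    | zero => intro y σ; rw [pow_zero, pow_zero, one_mul]; rfl
    | succ t ih => intro y σ; rw [pow_succ', MulAut.mul_apply, hak, ih, pow_succ']; ring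
  -- present components have faithful characters
  have hpres : ∀ σ, (∃ y, a y σ ≠ 0) → ∀ t, μ σ ^ t = 1 → γ ^ t = 1 := by
    rintro σ ⟨y, hy⟩ t ht
    by_contra hne
    have hinj : Function.Injective (fun z : P => z⁻¹ * (k ^ t) z) := by
      intro z z' (h : z⁻¹ * (k ^ t) z = z'⁻¹ * (k ^ t) z')
      refine mul_inv_eq_one.1 (scalar_pow_fpf hR hψ hne (x := z * z'⁻¹) ?_)
      rw [map_mul, map_inv]
      calc (k ^ t) z * ((k ^ t) z')⁻¹ = z * (z⁻¹ * (k ^ t) z) * ((k ^ t) z')⁻¹ := by group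
        _ = z * z'⁻¹ := by rw [h]; group
    obtain ⟨z, rfl⟩ := (Finite.injective_iff_surjective.1 hinj) y
    apply hy
    rw [hamul, hainv, hakpow, ht, one_mul, CharTwo.add_self_eq_zero]
  have hexp : ∀ σ, (∃ y, a y σ ≠ 0) → ∃ i, i ≠ 0 ∧ i < n ∧ (∀ x, σ x = x ^ 2 ^ i) ∧
      (2 ^ i - 1).Coprime (orderOf γ) := by
    intro σ hσ
    obtain ⟨i, hi, hi'⟩ := exists_frob_pow hcard σ
    have hi0 : i ≠ 0 := by
      rintro rfl
      have h1 := hpres σ hσ 1 (by
        simp only [μ, pow_one, hi', pow_zero]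
        exact mul_inv_cancel₀ hγ0)
      rw [pow_one] at h1
      rw [h1, orderOf_one, mul_one] at hm
      have := Nat.le_of_dvd (by omega) hmn
      have key : ∀ t, 2 ≤ t → t + 2 ≤ 2 ^ t := by
        intro t ht
        induction t, ht using Nat.le_induction with
        | base => norm_num
        | succ t ht ih => rw [pow_succ]; omega
      have := key n hn
      omega
    refine ⟨i, hi0, hi, hi', ?_⟩
    set g := Nat.gcd (2 ^ i - 1) (orderOf γ) with hg
    obtain ⟨e, he⟩ : g ∣ orderOf γ := Nat.gcd_dvd_right _ _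
    obtain ⟨e', he'⟩ : g ∣ 2 ^ i - 1 := Nat.gcd_dvd_left _ _
    have h1 : σ γ = γ * γ ^ (2 ^ i - 1) := by
      rw [hi', ← pow_succ', Nat.sub_add_cancel Nat.one_le_two_pow]
    have h2 : γ ^ ((2 ^ i - 1) * e) = 1 := by
      rw [he', show g * e' * e = orderOf γ * e' by rw [he]; ring, pow_mul, pow_orderOf_eq_one, one_pow]
    have h3 := hpres σ hσ e (by
      simp only [μ, h1, mul_inv_rev]
      rw [mul_comm _ γ⁻¹, ← mul_assoc, mul_inv_cancel₀ hγ0, one_mul, inv_pow, ← pow_mul, h2, inv_one])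
    have h4 : orderOf γ ∣ e := orderOf_dvd_of_pow_eq_one h3
    have hpos : 0 < orderOf γ := by
      rcases Nat.eq_zero_or_pos (orderOf γ) with h | h
      · rw [h, mul_zero] at hm; omega
      · exact h
    have he0 : 0 < e := by
      rcases Nat.eq_zero_or_pos e with h | h
      · rw [h, mul_zero] at he; omega
      · exact h
    have h5 := Nat.le_of_dvd he0 h4
    show g = 1
    rw [he] at h5
    have hg0 : 0 < g := Nat.pos_of_ne_zero fun h => by rw [h, zero_mul] at he; omega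
    exact le_antisymm (Nat.le_of_mul_le_mul_right (by rw [one_mul]; exact h5) he0) hg0
  -- projections
  have hpoly : ∀ (q : Polynomial (ZMod 2)) (y : P), ∃ y', ∀ σ, a y' σ = q.aeval (μ σ) * a y σ := by
    intro q
    induction q using Polynomial.induction_on' with
    | add q r hq hr =>
      intro y
      obtain ⟨y₁, h₁⟩ := hq y
      obtain ⟨y₂, h₂⟩ := hr y
      exact ⟨y₁ * y₂, fun σ => by rw [hamul, h₁, h₂, map_add, add_mul]⟩
    | monomial t c =>
      intro y
      rcases zmod_two_cases c with rfl | rfl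
      · exact ⟨1, fun σ => by rw [haone, Polynomial.monomial_zero_right, map_zero, zero_mul]⟩
      · exact ⟨(k ^ t) y, fun σ => by rw [hakpow, Polynomial.aeval_monomial, map_one, one_mul]⟩
  have hdist : ∀ σ τ : F ≃+* F, (∃ y, a y σ ≠ 0) → (∃ y, a y τ ≠ 0) → σ ≠ τ →
      (minpoly (ZMod 2) (μ τ)).aeval (μ σ) ≠ 0 := by
    intro σ τ hσ hτ hne h
    obtain ⟨i, hi0, hi, hi', hcop⟩ := hexp σ hσ
    obtain ⟨j, hj0, hj, hj', hcopj⟩ := hexp τ hτ
    obtain ⟨ρ, hρ⟩ := conj_root h
    obtain ⟨r, hr, hr'⟩ := exists_frob_pow hcard ρ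
    simp only [μ, map_mul, map_inv₀, hi', hj', hr', mul_pow, inv_pow] at hρ
    rw [← pow_mul, ← pow_add] at hρ
    have h1 : γ ^ 2 ^ r * γ ^ 2 ^ i = γ * γ ^ 2 ^ (j + r) := by
      have hp := pow_ne_zero (2 ^ (j + r)) hγ0
      have hq := pow_ne_zero (2 ^ i) hγ0
      field_simp at hρ
      linear_combination hρ
    rw [← pow_add, ← pow_succ'] at h1
    have h2 : 2 ^ r + 2 ^ i ≡ 2 ^ (r + j) + 1 [MOD orderOf γ] := by
      rw [add_comm r j]
      exact hγmod h1
    obtain ⟨rfl, -⟩ := twist_inj hn hm hmn hj hj0 hi hr hcopj h2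
    exact hne (RingEquiv.ext fun x => by rw [hi', hj'])
  have hproj : ∀ y σ, a y σ ≠ 0 → ∃ y', a y' σ = a y σ ∧ ∀ τ, τ ≠ σ → a y' τ = 0 := by
    intro y σ hσ
    set T := Finset.univ.filter fun τ => τ ≠ σ ∧ ∃ z, a z τ ≠ 0 with hT
    set q := (∏ τ ∈ T, minpoly (ZMod 2) (μ τ)) ^ (2 ^ n - 1) with hq
    obtain ⟨y', hy'⟩ := hpoly q y
    refine ⟨y', ?_, fun τ hτ => ?_⟩
    · rw [hy', hq, map_pow, map_prod, ← hcard, FiniteField.pow_card_sub_one_eq_one, one_mul]
      rw [Finset.prod_ne_zero_iff]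
      intro τ hτ
      rw [hT, Finset.mem_filter] at hτ
      exact hdist σ τ ⟨y, hσ⟩ hτ.2.2 hτ.2.1.symm
    · by_cases h : ∃ z, a z τ ≠ 0
      · rw [hy', hq, map_pow, map_prod, Finset.prod_eq_zero (i := τ) (by rw [hT]; simp [hτ, h])
          (minpoly.aeval _ _), zero_pow (by omega), zero_mul]
      · push Not at h
        exact h y'
  -- pure elements
  let Pure : (F ≃+* F) → P → Prop := fun σ y => ∀ τ, τ ≠ σ → a y τ = 0
  have hspan : ∀ H : Subgroup P, A ≤ H → (∀ σ y, Pure σ y → y ∈ H) → ∀ y, y ∈ H := by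
    intro H hAH hPH
    have key : ∀ (s : ℕ) (y : P), (Finset.univ.filter fun σ => a y σ ≠ 0).card = s → y ∈ H := by
      intro s
      induction s using Nat.strong_induction_on with
      | _ s ih =>
        intro y hy
        by_cases h : ∃ σ, a y σ ≠ 0
        · obtain ⟨σ, hσ⟩ := h
          obtain ⟨y', h1, h2⟩ := hproj y σ hσ
          have hy' : y' ∈ H := hPH σ y' h2
          have hlt : (Finset.univ.filter fun τ => a (y * y'⁻¹) τ ≠ 0).card < s := by
            rw [← hy]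
            refine Finset.card_lt_card ?_
            rw [Finset.ssubset_iff_of_subset]
            · refine ⟨σ, by simp [hσ], ?_⟩
              simp [hamul, hainv, h1, CharTwo.add_self_eq_zero]
            · intro τ hτ
              simp only [Finset.mem_filter, Finset.mem_univ, true_and, hamul, hainv] at hτ ⊢
              by_cases hτσ : τ = σ
              · subst hτσ; exact hσ
              · rwa [h2 τ hτσ, add_zero] at hτ
          have := H.mul_mem (ih _ hlt _ rfl) hy'
          rwa [inv_mul_cancel_right] at this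
        · push Not at h
          exact hAH (hℓA y (AddMonoidHom.ext fun v => by simp [ha, h]))
    exact fun y => key _ y rfl
  -- squared commutators
  have hΓmem : ∀ g y : P, ⁅g, y⁆ * ⁅g, y⁆ ∈ omegaCenter P := fun g y => sq_omega hR hA (hcA g y)
  let Γ : P → P → F := fun g y => co ⟨⁅g, y⁆ * ⁅g, y⁆, hΓmem g y⟩
  have hconjsq : ∀ (g : P) {c : P}, c ∈ A → g * c * g⁻¹ * (g * c * g⁻¹) = c * c := by
    intro g c hc
    have := omega_conj (sq_omega hR hA hc) g
    rw [← this]; group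
  have hΓr : ∀ g y y', Γ g (y * y') = Γ g y + Γ g y' := by
    intro g y y'
    rw [← hco_mul]
    refine congrArg co (Subtype.ext ?_)
    show ⁅g, y * y'⁆ * ⁅g, y * y'⁆ = (⁅g, y⁆ * ⁅g, y⁆) * (⁅g, y'⁆ * ⁅g, y'⁆)
    have e : ⁅g, y * y'⁆ = ⁅g, y⁆ * (y * ⁅g, y'⁆ * y⁻¹) := by
      simp only [commutatorElement_def]; group
    rw [e, ← sq, mul_pow_of_mem hA (hcA g y) (hAn.conj_mem _ (hcA g y') y) 2, sq, sq,
      hconjsq y (hcA g y')]
  have hΓsymm : ∀ g y, Γ g y = Γ y g := by
    intro g y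
    refine congrArg co (Subtype.ext ?_)
    show ⁅g, y⁆ * ⁅g, y⁆ = ⁅y, g⁆ * ⁅y, g⁆
    rw [← commutatorElement_inv y g]
    calc ⁅y, g⁆⁻¹ * ⁅y, g⁆⁻¹ = (⁅y, g⁆ * ⁅y, g⁆)⁻¹ := by group
      _ = ⁅y, g⁆ * ⁅y, g⁆ := inv_eq_of_mul_eq_one_right (hΓmem y g).2
  have hτmem : ∀ y : P, (y * y) * (y * y) ∈ omegaCenter P := fun y => sq_omega hR hA (hsqA y)
  let tau : P → F := fun y => co ⟨(y * y) * (y * y), hτmem y⟩
  have htau : ∀ y y', tau (y * y') = tau y + tau y' + Γ y' y := by
    intro y y'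
    rw [← hco_mul, ← hco_mul]
    refine congrArg co (Subtype.ext ?_)
    show (y * y' * (y * y')) * (y * y' * (y * y')) =
      (y * y) * (y * y) * ((y' * y') * (y' * y')) * (⁅y', y⁆ * ⁅y', y⁆)
    have e : y * y' * (y * y') = (y * ⁅y', y⁆ * y⁻¹) * ((y * y) * (y' * y')) := by
      simp only [commutatorElement_def]; group
    rw [e, ← sq, mul_pow_of_mem hA (hAn.conj_mem _ (hcA y' y) y) (A.mul_mem (hsqA y) (hsqA y')) 2,
      mul_pow_of_mem hA (hsqA y) (hsqA y') 2, sq, sq, sq, hconjsq y (hcA y' y)]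
    exact (Subgroup.mem_center_iff.1 (hΓmem y' y).1 _).symm
  have heq : ∀ g y, ℓ g (tau y) = Γ g y + ℓ y (Γ g y) := by
    intro g y
    rw [hℓ g (hsqA y), hℓ y (hcA g y), ← hco_mul]
    refine congrArg co (Subtype.ext ?_)
    show dev g (y * y) = ⁅g, y⁆ * ⁅g, y⁆ * dev y ⁅g, y⁆
    calc dev g (y * y) = ⁅g, y⁆ * (dev y ⁅g, y⁆ * ⁅g, y⁆) := by
          simp only [dev, commutatorElement_def]; group
      _ = _ := by rw [hA.comm _ (dev_mem hA (hcA g y) y) _ (hcA g y), mul_assoc]
  have hΓA : ∀ g x, x ∈ A → Γ g x = 0 := by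
    intro g x hx
    rw [← hco_one]
    exact congrArg co (Subtype.ext (dev_omega hR hA hx g).2)
  have hpure_val : ∀ σ y, Pure σ y → ∀ v, ℓ y v = a y σ * σ v := by
    intro σ y hy v
    rw [ha, Finset.sum_eq_single σ (fun τ _ hτ => by rw [hy τ hτ, zero_mul]) (by simp)]
  have hpure_mul : ∀ σ y y', Pure σ y → Pure σ y' → Pure σ (y * y') := fun σ y y' h h' τ hτ => by
    rw [hamul, h τ hτ, h' τ hτ, add_zero]
  have hpure_tau : ∀ σ y, Pure σ y → tau y = 0 := by
    intro σ y hy
    by_cases hay : a y σ = 0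
    · have hyA : y ∈ A := hℓA y (AddMonoidHom.ext fun v => by
        rw [hpure_val σ y hy, hay, zero_mul]; rfl)
      rw [← hco_one]
      exact congrArg co (Subtype.ext (sq_omega hR hA hyA).2)
    have h1 : ℓ y (tau y) = 0 := by
      rw [hℓ y (hsqA y), ← hco_one]
      refine congrArg co (Subtype.ext ?_)
      show dev y (y * y) = 1
      simp only [dev, commutatorElement_def]; group
    rw [hpure_val σ y hy, mul_eq_zero, or_iff_right hay] at h1
    exact (map_eq_zero σ).1 h1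
  have hsame : ∀ σ y y', Pure σ y → Pure σ y' → Γ y' y = 0 := by
    intro σ y y' h h'
    have := htau y y'
    rw [hpure_tau σ _ (hpure_mul σ y y' h h'), hpure_tau σ y h, hpure_tau σ y' h', add_zero,
      zero_add] at this
    exact this.symm
  have hother : ∀ σ, (∀ i, (∀ x, σ x = x ^ 2 ^ i) → i + 1 ≠ n) → ∀ y, Pure σ y → ∀ g, Γ g y = 0 := by
    intro σ hσn y hy g
    have hφ : ∀ z, Pure σ z → Γ g z + a z σ * σ (Γ g z) = 0 := fun z hz => by
      rw [← hpure_val σ z hz, ← heq, hpure_tau σ z hz, map_zero]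
    by_cases hay : a y σ = 0
    · exact hΓA g y (hℓA y (AddMonoidHom.ext fun v => by rw [hpure_val σ y hy, hay, zero_mul]; rfl))
    obtain ⟨i, hi0, hi, hi', hcop⟩ := hexp σ ⟨y, hay⟩
    have hyk : Pure σ (k y) := fun τ hτ => by rw [hak, hy τ hτ, mul_zero]
    by_contra hne
    set A₁ := a y σ with hA₁
    set φ₁ := Γ g y with hφ₁
    set φ₂ := Γ g (k y) with hφ₂
    have h2 : a (k y) σ = μ σ * A₁ := hak y σ
    have e1 := hφ y hy
    have e2 := hφ (k y) hyk
    have e3 := hφ (y * k y) (hpure_mul σ y (k y) hy hyk)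
    rw [hΓr, hamul, map_add] at e3
    rw [h2] at e2 e3
    have h4 : A₁ * σ φ₂ + μ σ * A₁ * σ φ₁ = 0 := by linear_combination e3 - e1 - e2
    have h5 : σ φ₂ = μ σ * σ φ₁ := by
      have h6 : A₁ * (σ φ₂ - μ σ * σ φ₁) = 0 := by
        linear_combination h4 - CharTwo.add_self_eq_zero (μ σ * A₁ * σ φ₁)
      exact sub_eq_zero.1 ((mul_eq_zero.1 h6).resolve_left hay)
    have h7 : φ₁ = A₁ * σ φ₁ := CharTwo.add_eq_zero.1 e1
    have h8 : φ₂ = μ σ * A₁ * (μ σ * σ φ₁) := by
      rw [← h5]; exact CharTwo.add_eq_zero.1 e2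
    have h9 : φ₂ = μ σ * μ σ * φ₁ := by rw [h8]; linear_combination (-(μ σ * μ σ)) * h7
    rw [h9, map_mul, map_mul] at h5
    have h10 : σ (μ σ) * σ (μ σ) = μ σ :=
      mul_right_cancel₀ (fun h => hne ((map_eq_zero σ).1 h)) h5
    rw [hi', ← pow_two, ← pow_mul, ← pow_succ] at h10
    have hμ0 : μ σ ≠ 0 := mul_ne_zero hγ0 (inv_ne_zero (hσγ σ))
    have h11 : μ σ ^ (2 ^ (i + 1) - 1) = 1 := by
      refine mul_right_cancel₀ hμ0 ?_
      rw [← pow_succ, Nat.sub_add_cancel Nat.one_le_two_pow, h10, one_mul]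
    exact hσn i hi' (order_two hn hm hmn (Nat.succ_pos i) hi
      (orderOf_dvd_of_pow_eq_one (hpres σ ⟨y, hay⟩ _ h11)))
  have hpp : ∀ σ τ y z, Pure σ y → Pure τ z → Γ y z = 0 := by
    intro σ τ y z hy hz
    by_cases hστ : σ = τ
    · subst hστ
      exact hsame σ z y hz hy
    by_cases hσn : ∀ i, (∀ x, σ x = x ^ 2 ^ i) → i + 1 ≠ n
    · rw [hΓsymm]; exact hother σ hσn y hy z
    refine hother τ (fun j hj hjn => hσn fun i hi hin => hστ (RingEquiv.ext fun x => ?_)) z hz y
    rw [hi, hj, show i = j by omega]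
  have hzero : ∀ g y, Γ g y = 0 := by
    have mk : ∀ g : P, (∀ σ z, Pure σ z → Γ g z = 0) → ∀ y, Γ g y = 0 := by
      intro g h y
      have h0 : Γ g 1 = 0 := hΓA g 1 A.one_mem
      exact hspan
        { carrier := {z | Γ g z = 0}
          one_mem' := h0
          mul_mem' := fun {z z'} (h1 : Γ g z = 0) (h2 : Γ g z' = 0) =>
            show Γ g (z * z') = 0 by rw [hΓr, h1, h2, add_zero]
          inv_mem' := fun {z} (h1 : Γ g z = 0) => show Γ g z⁻¹ = 0 by
            have := hΓr g z⁻¹ z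
            rw [inv_mul_cancel, h0, h1, add_zero] at this
            exact this.symm }
        (fun x hx => hΓA g x hx) h y
    intro g y
    refine mk g (fun σ z hz => ?_) y
    rw [hΓsymm]
    exact mk z (fun τ x hx => hpp σ τ z x hz hx) g
  have h := hzero u w
  rw [← hco_one] at h
  exact congrArg Subtype.val (hco_inj h)

end exponentFour

/-- The structure theorem. -/
theorem structure_theorem (hR : TransInv K) (hna : ∃ x y : P, x * y ≠ y * x) :
    (∀ x : P, x * x ∈ omegaCenter P) ∧ (∀ x y : P, ⁅x, y⁆ ∈ omegaCenter P) ∧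
      ∀ x : P, x ∈ Subgroup.center P ↔ x * x = 1 := by
  classical
  haveI := hR.fin
  have hZi : KInv K (Subgroup.center P) := fun k _ x hx => Subgroup.mem_center_iff.2 fun g => by
    have h := congrArg k (Subgroup.mem_center_iff.1 hx (k.symm g))
    rwa [map_mul, map_mul, MulEquiv.apply_symm_apply] at h
  have hΩi : KInv K (omegaCenter P) := fun k hk x hx =>
    ⟨hZi k hk x hx.1, by rw [← map_mul, hx.2, map_one]⟩
  have hΩn : (omegaCenter P).Normal := ⟨fun x hx g => by rwa [omega_conj hx g]⟩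
  let S : Set (Subgroup P) :=
    {A | A.Normal ∧ (∀ a ∈ A, ∀ b ∈ A, a * b = b * a) ∧ KInv K A ∧ omegaCenter P ≤ A}
  obtain ⟨A, ⟨hAn, hAc, hAi, hΩA⟩, hmax⟩ := (Set.toFinite S).exists_maximal
    ⟨omegaCenter P, hΩn, fun a _ b hb => Subgroup.mem_center_iff.1 hb.1 a, hΩi, le_rfl⟩
  haveI := hAn
  obtain ⟨e₀, he₀, he₀1⟩ := exists_omega_ne_one hR
  have hAne : A ≠ ⊥ := fun h => he₀1 (by have := hΩA he₀; rwa [h, Subgroup.mem_bot] at this)
  obtain ⟨f, hA⟩ := exists_homoData hR hAc hAi hAne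
  have hAtop : A < ⊤ := lt_top_iff_ne_top.2 fun h => by
    obtain ⟨x, y, hxy⟩ := hna
    exact hxy (hAc x (h ▸ Subgroup.mem_top x) y (h ▸ Subgroup.mem_top y))
  -- the centre lies in `A`
  have hZA : Subgroup.center P ≤ A := by
    haveI : (A ⊔ Subgroup.center P).Normal := Subgroup.sup_normal _ _
    have hcomm : ∀ a ∈ A ⊔ Subgroup.center P, ∀ b ∈ A ⊔ Subgroup.center P, a * b = b * a := by
      have h1 : A ⊔ Subgroup.center P ≤
          Subgroup.centralizer ((A : Set P) ∪ (Subgroup.center P : Set P)) := by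
        refine sup_le (fun a ha => ?_) fun z hz => ?_
        · rintro b (hb | hb)
          · exact hAc b hb a ha
          · exact (Subgroup.mem_center_iff.1 hb a).symm
        · exact fun b _ => Subgroup.mem_center_iff.1 hz b
      intro a ha b hb
      have h2 : A ⊔ Subgroup.center P ≤ Subgroup.centralizer ({a} : Set P) := by
        refine sup_le (fun x hx => ?_) fun z hz => ?_
        · exact Subgroup.mem_centralizer_singleton_iff.2 (h1 ha x (Or.inl hx))
        · exact Subgroup.mem_centralizer_singleton_iff.2 (Subgroup.mem_center_iff.1 hz a).symm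
      exact (Subgroup.mem_centralizer_singleton_iff.1 (h2 hb)).symm
    have hinv : KInv K (A ⊔ Subgroup.center P) := by
      intro k hk x hx
      have h1 : (A ⊔ Subgroup.center P).map k.toMonoidHom ≤ A ⊔ Subgroup.center P := by
        rw [Subgroup.map_sup]
        exact sup_le_sup (Subgroup.map_le_iff_le_comap.2 fun y hy => hAi k hk y hy)
          (Subgroup.map_le_iff_le_comap.2 fun y hy => hZi k hk y hy)
      exact h1 ⟨x, hx, rfl⟩
    exact le_sup_right.trans (hmax ⟨inferInstance, hcomm, hinv, hΩA.trans le_sup_left⟩ le_sup_left)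
  set C := Subgroup.centralizer (A : Set P) with hCdef
  have hAC : A ≤ C := fun a ha => Subgroup.mem_centralizer_iff.2 fun b hb => hAc b hb a ha
  have hf2 : f ≤ 2 ∧ (2 ≤ f → C = A) := by
    have hCA : 2 ≤ f → C = A := by
      intro hf
      by_contra hne
      have hC : A < C := lt_of_le_of_ne hAC (Ne.symm hne)
      haveI : C.Normal := Subgroup.normal_centralizer
      have hlt := lt_stepSubgroup hR.isPGroup hC
      obtain ⟨hBn, -⟩ := stepSubgroup_normal hC.le
      exact hlt.not_ge (hmax ⟨hBn, stepSubgroup_comm hR hA hf hlt,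
        stepSubgroup_kInv hAi (centralizer_kInv hAi), hΩA.trans hlt.le⟩ hlt.le)
    refine ⟨?_, hCA⟩
    by_contra h
    exact (lt_stepSubgroup hR.isPGroup hAtop).not_ge (eq_bot_step hR hA (by omega) (hCA (by omega)))
  have hf1 := one_le_f hA
  -- the centre is elementary
  have hZ2 : ∀ z ∈ Subgroup.center P, z * z = 1 := by
    intro z hz
    by_contra hz2
    rcases (show f = 1 ∨ f = 2 by omega) with rfl | rfl
    · exact hz2 (by have := hA.pow_eq z (hZA hz); rwa [pow_one, sq] at this)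
    have hC := hf2.2 le_rfl
    let W : Subgroup P :=
      { carrier := {v | ∃ x ∈ Subgroup.center P, x * x = v}
        one_mem' := ⟨1, Subgroup.one_mem _, one_mul 1⟩
        mul_mem' := fun {v v'} ⟨x, hx, hxv⟩ ⟨y, hy, hyv⟩ => ⟨x * y, Subgroup.mul_mem _ hx hy, by
          rw [← hxv, ← hyv]
          calc x * y * (x * y) = x * (y * x) * y := by group
            _ = x * x * (y * y) := by rw [Subgroup.mem_center_iff.1 hx y]; group⟩
        inv_mem' := fun {v} ⟨x, hx, hxv⟩ => ⟨x⁻¹, Subgroup.inv_mem _ hx, by rw [← hxv, mul_inv_rev]⟩ }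
    have hWi : KInv K W := fun k hk v ⟨x, hx, hxv⟩ => ⟨k x, hZi k hk x hx, by rw [← map_mul, hxv]⟩
    have hΩW := omega_le hR hWi (x := z * z) ⟨z, hz, rfl⟩ hz2
    apply hAtop.ne
    rw [← hC, eq_top_iff]
    intro g _
    refine Subgroup.mem_centralizer_iff.2 fun x hx => ?_
    obtain ⟨w, hw, hwx⟩ := hΩW (sq_omega hR hA hx)
    have hz' : x * w⁻¹ ∈ omegaCenter P := mem_omega_of_sq hR (by
      rw [← sq, (Commute.mul_pow (Subgroup.mem_center_iff.1 (Subgroup.inv_mem _ hw) x) 2), sq, sq,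
        ← hwx]
      group)
    have hxc : x ∈ Subgroup.center P := by
      have := Subgroup.mul_mem _ hz'.1 hw
      rwa [inv_mul_cancel_right] at this
    exact (Subgroup.mem_center_iff.1 hxc g).symm
  have hcenter : ∀ x : P, x ∈ Subgroup.center P ↔ x * x = 1 :=
    fun x => ⟨hZ2 x, fun h => (mem_omega_of_sq hR h).1⟩
  suffices h : ∀ g : P, g * g ∈ omegaCenter P ∧ ∀ h : P, ⁅g, h⁆ ∈ omegaCenter P from
    ⟨fun x => (h x).1, fun x y => (h x).2 y, hcenter⟩
  rcases (show f = 1 ∨ f = 2 by omega) with rfl | rfl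
  · -- exponent two
    have hAΩ : A = omegaCenter P := le_antisymm (fun a ha => mem_omega_of_sq hR (by
      have := hA.pow_eq a ha; rwa [pow_one, sq] at this)) hΩA
    set B := stepSubgroup A (⊤ : Subgroup P) with hB
    haveI hBn : B.Normal := (stepSubgroup_normal le_top).1
    have hAB : A ≤ B := (stepSubgroup_normal le_top).2
    have hBi : KInv K B := stepSubgroup_kInv hAi (fun _ _ _ _ => Subgroup.mem_top _)
    have hBtop : B = ⊤ := by
      by_contra hne
      have hlt := lt_stepSubgroup hR.isPGroup (lt_top_iff_ne_top.2 hne)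
      obtain ⟨g, hg, hgB⟩ := SetLike.exists_of_lt hlt
      obtain ⟨⟨hg2, hgc⟩, -⟩ := mem_stepSubgroup.1 hg
      -- the centre of `B`
      have hZB : B ⊓ Subgroup.centralizer (B : Set P) ≤ A := by
        haveI : (Subgroup.centralizer (B : Set P)).Normal := Subgroup.normal_centralizer
        refine hmax ⟨inferInstance, ?_, ?_, ?_⟩ ?_
        · exact fun a ha b hb => hb.2 a ha.1
        · exact fun k hk x hx => ⟨hBi k hk x hx.1, centralizer_kInv hBi k hk x hx.2⟩
        · rw [← hAΩ]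
          exact le_inf hAB fun a ha b _ => Subgroup.mem_center_iff.1 ((hAΩ ▸ ha : a ∈ omegaCenter P)).1 b
        · exact le_inf hAB fun a ha b _ => Subgroup.mem_center_iff.1 ((hAΩ ▸ ha : a ∈ omegaCenter P)).1 b
      have hyΩ : ∀ y ∈ B, ∀ h : P, ⁅h, y⁆ ∈ omegaCenter P := fun y hy h => by
        have := (mem_stepSubgroup.1 hy).1.2 h
        rw [hAΩ] at this
        rw [← commutatorElement_inv]
        exact Subgroup.inv_mem _ this
      have hmulc : ∀ y ∈ B, ∀ h h' : P, ⁅h * h', y⁆ = ⁅h, y⁆ * ⁅h', y⁆ := fun y hy h h' => by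
        calc ⁅h * h', y⁆ = (h * ⁅h', y⁆ * h⁻¹) * ⁅h, y⁆ := by simp only [commutatorElement_def]; group
          _ = ⁅h', y⁆ * ⁅h, y⁆ := by rw [omega_conj (hyΩ y hy h')]
          _ = _ := (Subgroup.mem_center_iff.1 (hyΩ y hy h').1 _).symm
      refine hgB (mem_stepSubgroup.2 ⟨⟨hZB ⟨hg2, fun y hy => ?_⟩, fun h => hZB ⟨hgc h, fun y hy => ?_⟩⟩,
        Subgroup.mem_top g⟩)
      · refine (commutatorElement_eq_one_iff_mul_comm.1 ?_).symm
        rw [hmulc y hy]
        exact (hyΩ y hy g).2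
      · refine (commutatorElement_eq_one_iff_mul_comm.1 ?_).symm
        have hinv : ∀ z : P, ⁅z⁻¹, y⁆ = ⁅z, y⁆⁻¹ := fun z => by
          refine eq_inv_of_mul_eq_one_left ?_
          rw [← hmulc y hy, inv_mul_cancel]
          simp
        show ⁅g * h * g⁻¹ * h⁻¹, y⁆ = 1
        rw [hmulc y hy, hmulc y hy, hmulc y hy, hinv, hinv,
          Subgroup.mem_center_iff.1 (hyΩ y hy h).1 ⁅g, y⁆, mul_inv_cancel_right, mul_inv_cancel]
    intro g
    have hg : g ∈ B := hBtop ▸ Subgroup.mem_top g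
    obtain ⟨⟨h1, h2⟩, -⟩ := mem_stepSubgroup.1 hg
    rw [hAΩ] at h1 h2
    exact ⟨h1, h2⟩
  · have hC := hf2.2 le_rfl
    have hc := comm_sq_eq_one hR hA hC
    intro g
    refine ⟨?_, fun h => mem_omega_of_sq hR (hc g h)⟩
    have hg2 : g * g ∈ Subgroup.center P := by
      refine Subgroup.mem_center_iff.2 fun h => commutatorElement_eq_one_iff_mul_comm.1 ?_
      have hcA := comm_mem_A hR hA hC h g
      calc ⁅h, g * g⁆ = ⁅h, g⁆ * (g * ⁅h, g⁆ * g⁻¹) := by simp only [commutatorElement_def]; group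
        _ = ⁅h, g⁆ * ⁅h, g⁆ := by rw [omega_conj (mem_omega_of_sq hR (hc h g))]
        _ = 1 := hc h g
    exact ⟨hg2, hZ2 _ hg2⟩

end CfsgLib.FGS68.SuzukiGen
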