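import Cfsg.Agent.Lib.PLocal.PSolvable
import Cfsg.Agent.Lib.LocalStr.Basic
import Cfsg.Agent.Lib.Solvable.CoprimeGeneration
import Cfsg.Agent.Lib.Solvable.Core
import Cfsg.Agent.Lib.Transfer.PGroup
import Mathlib

/-!
A subgroup generated by two conjugates of a `p`-subgroup outside `O_p` of a `p`-soluble group.
-/

set_option autoImplicit false
set_option linter.style.haveILetI false

open Cfsg

namespace CfsgLib.FGS68

open scoped commutatorElement

variable {M : Type*} [Group M] [Finite M] {p : ℕ} [Fact p.Prime]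

/-- The subgroup generated by `A` and `xAx⁻¹`. -/
abbrev twoConj (A : Subgroup M) (x : M) : Subgroup M :=
  A ⊔ A.map (MulAut.conj x).toMonoidHom

theorem twoConj_le {A T : Subgroup M} (hAT : A ≤ T) {x : M} (hx : x ∈ T) : twoConj A x ≤ T := by
  refine sup_le hAT ?_
  rintro _ ⟨a, ha, rfl⟩
  exact mul_mem (mul_mem hx (hAT ha)) (inv_mem hx)

theorem exists_two_conjugates_of_section {Y : Type*} [Group Y] [Finite Y] (π : M →* Y) (hπ : Function.Surjective π)
    (hker : IsPGroup p π.ker) (V : Subgroup Y) [V.Normal] (hV : (Nat.card V).Coprime p)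
    (hCV : Subgroup.centralizer (V : Set Y) ≤ V) (A : Subgroup M) (hA : IsPGroup p A)
    (hcomm : ∀ a ∈ A, ∀ b ∈ A, Commute (π a) (π b)) (hpow : ∀ a ∈ A, π a ^ p = 1)
    (hne : A.map π ≠ ⊥) :
    ∃ x ∈ V.comap π, x ∈ CfsgLib.LocalStr.pRes p (twoConj A x) ∧
      CfsgLib.LocalStr.pRes p (twoConj A x) ≤ V.comap π ∧
      ⁅CfsgLib.LocalStr.pRes p (twoConj A x), A⁆ = CfsgLib.LocalStr.pRes p (twoConj A x) ∧
      (A ⊓ pCoreOf p (twoConj A x)).relIndex A = p ∧
      ⁅A ⊓ pCoreOf p (twoConj A x), twoConj A x⁆ ≤ π.ker := by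
  classical
  have hp : p.Prime := Fact.out
  set Ab := A.map π with hAb
  have hAbp : IsPGroup p Ab := hA.map π
  have hco : (Nat.card Ab).Coprime (Nat.card V) := by
    obtain ⟨k, hk⟩ := IsPGroup.iff_card.mp hAbp
    rw [hk]
    exact Nat.Coprime.pow_left k hV.symm
  haveI hAbc : IsMulCommutative Ab := ⟨⟨fun u v => by
    obtain ⟨a, ha, hau⟩ := u.2
    obtain ⟨b, hb, hbv⟩ := v.2
    refine Subtype.ext ?_
    rw [Subgroup.coe_mul, Subgroup.coe_mul, ← hau, ← hbv]
    exact (hcomm a ha b hb).eq⟩⟩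
  have hAbV : Ab ≤ Subgroup.normalizer (V : Set Y) := by rw [Subgroup.normalizer_eq_top]; exact le_top
  have hnotcent : ¬ V ≤ Subgroup.centralizer (Ab : Set Y) := by
    intro h
    refine hne (le_bot_iff.1 ?_)
    have h1 : Ab ≤ V := (Subgroup.le_centralizer_iff.1 h).trans hCV
    rw [← Subgroup.inf_eq_bot_of_coprime hco]
    exact le_inf le_rfl h1
  obtain ⟨B, hBA, ⟨ab, hab, hgen⟩, hB⟩ : ∃ B ≤ Ab, (∃ a ∈ Ab, Ab ≤ B ⊔ Subgroup.zpowers a) ∧
      ¬ V ⊓ Subgroup.centralizer (B : Set Y) ≤ Subgroup.centralizer (Ab : Set Y) := by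
    by_contra hno
    push Not at hno
    exact hnotcent (CfsgLib.Solvable.le_of_cyclic_quotient_centralizer_le hAbV hco hno)
  -- the elements to choose from
  set K := V.comap π with hK
  let P : M → Prop := fun x =>
    π x ∈ V ∧ π x ∈ Subgroup.centralizer (B : Set Y) ∧ π x ∉ Subgroup.centralizer (Ab : Set Y)
  obtain ⟨v, hv, hv'⟩ := SetLike.not_le_iff_exists.1 hB
  obtain ⟨x₀, rfl⟩ := hπ v
  obtain ⟨x, hx, hmin⟩ := Set.exists_min_image {x | P x} (fun x => Nat.card (twoConj A x))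
    (Set.toFinite _) ⟨x₀, hv.1, hv.2, hv'⟩
  obtain ⟨hxV, hxB, hxA⟩ := hx
  set L := twoConj A x with hL
  set N := CfsgLib.LocalStr.pRes p L with hN
  have hAL : A ≤ L := le_sup_left
  haveI : K.Normal := ‹V.Normal›.comap π
  have hAK : A ≤ Subgroup.normalizer (K : Set M) := by rw [Subgroup.normalizer_eq_top]; exact le_top
  have hLU : L ≤ K ⊔ A := twoConj_le le_sup_right (Subgroup.mem_sup_left hxV)
  have hNK : N ≤ K := by
    refine (CfsgLib.LocalStr.pRes_mono hLU).trans ?_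
    rw [CfsgLib.LocalStr.pRes_sup_pGroup hA hAK]
    exact CfsgLib.LocalStr.pRes_le _
  have hNL : N ≤ L := CfsgLib.LocalStr.pRes_le _
  have hLN : L ≤ Subgroup.normalizer (N : Set M) := CfsgLib.LocalStr.le_normalizer_pRes_self L
  -- a Sylow subgroup of `L` containing `A`
  obtain ⟨P₁, hP₁⟩ := (hA.of_equiv (Subgroup.subgroupOfEquivOfLe hAL).symm).exists_le_sylow
  have hA2 : IsPGroup p (A.map (MulAut.conj x).toMonoidHom) := hA.map _
  have hA2L : A.map (MulAut.conj x).toMonoidHom ≤ L := le_sup_right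
  obtain ⟨P₂, hP₂⟩ := (hA2.of_equiv (Subgroup.subgroupOfEquivOfLe hA2L).symm).exists_le_sylow
  obtain ⟨g, hg⟩ := MulAction.exists_smul_eq L P₁ P₂
  set T := (P₁ : Subgroup L).map L.subtype with hT
  have hAT : A ≤ T := fun a ha => ⟨⟨a, hAL ha⟩, hP₁ (Subgroup.mem_subgroupOf.2 ha), rfl⟩
  have hTp : IsPGroup p T := P₁.2.map _
  have hTL : T ≤ L := Subgroup.map_subtype_le _
  have hsyl : N ⊔ T = L := by
    rw [hN, hT, show CfsgLib.LocalStr.pRes p L = (pResidual p L).map L.subtype from rfl, ← Subgroup.map_sup,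
      CfsgLib.LocalStr.pResidual_sup_sylow P₁, ← MonoidHom.range_eq_map, Subgroup.range_subtype]
  obtain ⟨n, hn, t, ht, hnt⟩ : ∃ n ∈ N, ∃ t ∈ T, n * t = (g : M) :=
    (CfsgLib.Solvable.mem_sup_of_le_normalizer (hTL.trans hLN)).1 (hsyl.symm ▸ g.2)
  -- `A^x` moved into `T`
  have hmove : ∀ a ∈ A, n⁻¹ * (x * a * x⁻¹) * n ∈ T := by
    intro a ha
    have h1 : (⟨x * a * x⁻¹, hA2L ⟨a, ha, rfl⟩⟩ : L) ∈ (P₂ : Subgroup L) :=
      hP₂ (Subgroup.mem_subgroupOf.2 ⟨a, ha, rfl⟩)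
    rw [← hg, Sylow.coe_subgroup_smul, Subgroup.mem_pointwise_smul_iff_inv_smul_mem] at h1
    have h2 : (g : M)⁻¹ * (x * a * x⁻¹) * g ∈ T :=
      ⟨_, h1, by simp [MulAut.smul_def, MulAut.conj_inv_apply]⟩
    rw [← hnt] at h2
    have h3 := mul_mem (mul_mem ht h2) (inv_mem ht)
    simpa [mul_assoc] using h3
  -- the image of `T` is that of `A`
  have hTA : ∀ q ∈ T, π q ∈ Ab := by
    intro q hq
    have h1 : π q ∈ V ⊔ Ab := by
      have hle : L ≤ (V ⊔ Ab).comap π := by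
        refine hLU.trans (sup_le ?_ ?_)
        · exact fun k hk => Subgroup.mem_sup_left hk
        · exact fun a ha => Subgroup.mem_sup_right ⟨a, ha, rfl⟩
      exact hle (hTL hq)
    obtain ⟨u, hu, w, hw, huw⟩ := (CfsgLib.Solvable.mem_sup_of_le_normalizer hAbV).1 h1
    have hu' : u ∈ T.map π := by
      have : u = π q * w⁻¹ := by rw [← huw]; simp
      rw [this]
      exact mul_mem ⟨q, hq, rfl⟩ (inv_mem (Subgroup.map_mono hAT hw))
    obtain ⟨k, hk⟩ := IsPGroup.iff_card.mp (hTp.map π)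
    have : u ∈ (T.map π ⊓ V : Subgroup Y) := ⟨hu', hu⟩
    rw [Subgroup.inf_eq_bot_of_coprime (hk ▸ Nat.Coprime.pow_left k hV.symm), Subgroup.mem_bot] at this
    rw [← huw, this, one_mul]
    exact hw
  have hnV : π n ∈ V := hNK hn
  have hz : π (n⁻¹ * x) ∈ Subgroup.centralizer (Ab : Set Y) := by
    rintro _ ⟨a, ha, rfl⟩
    have hzV : π (n⁻¹ * x) ∈ V := by rw [map_mul, map_inv]; exact mul_mem (inv_mem hnV) hxV
    have h1 := hTA _ (hmove a ha)
    have h2 : π (n⁻¹ * x) * (π a * (π (n⁻¹ * x))⁻¹ * (π a)⁻¹) ∈ V :=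
      mul_mem hzV (‹V.Normal›.conj_mem _ (inv_mem hzV) _)
    have h3 : π (n⁻¹ * x) * π a * (π (n⁻¹ * x))⁻¹ * (π a)⁻¹ ∈ Ab := by
      have e : π (n⁻¹ * (x * a * x⁻¹) * n) = π (n⁻¹ * x) * π a * (π (n⁻¹ * x))⁻¹ := by
        simp [mul_assoc]
      rw [← e]
      exact mul_mem h1 (inv_mem ⟨a, ha, rfl⟩)
    have h4 : π (n⁻¹ * x) * π a * (π (n⁻¹ * x))⁻¹ * (π a)⁻¹ ∈ (Ab ⊓ V : Subgroup Y) :=
      ⟨h3, by simpa [mul_assoc] using h2⟩
    rw [Subgroup.inf_eq_bot_of_coprime hco, Subgroup.mem_bot] at h4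
    have h5 := mul_inv_eq_one.1 h4
    exact (mul_inv_eq_iff_eq_mul.1 h5).symm
  have hzx : π x = π n * π (n⁻¹ * x) := by simp
  have hnB : π n ∈ Subgroup.centralizer (B : Set Y) := by
    have : π n = π x * (π (n⁻¹ * x))⁻¹ := by rw [hzx]; simp
    rw [this]
    exact mul_mem hxB (inv_mem (Subgroup.centralizer_le hBA hz))
  have hnA : π n ∉ Subgroup.centralizer (Ab : Set Y) := fun h => hxA (hzx ▸ mul_mem h hz)
  have hle : twoConj A n ≤ L := twoConj_le hAL (hNL hn)
  have heq : twoConj A n = L := Subgroup.eq_of_le_of_card_ge hle (hmin n ⟨hnV, hnB, hnA⟩)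
  refine ⟨n, hnV, ?_⟩
  rw [heq]
  refine ⟨hn, hNK, ?_, ?_⟩
  · -- `[N, A] = N`
    have hAN : A ≤ Subgroup.normalizer (N : Set M) := hAL.trans hLN
    refine le_antisymm (CfsgLib.Solvable.commutator_le_of_normalizes hAN) ?_
    set C := ⁅N, A⁆ with hC
    have hLCA : L ≤ C ⊔ A := by
      rw [← heq]
      refine sup_le le_sup_right ?_
      rintro _ ⟨a, ha, rfl⟩
      have e : (MulAut.conj n).toMonoidHom a = ⁅n, a⁆ * a := by simp [commutatorElement_def]
      rw [e]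
      exact mul_mem (Subgroup.mem_sup_left (Subgroup.commutator_mem_commutator hn ha))
        (Subgroup.mem_sup_right ha)
    refine CfsgLib.LocalStr.pRes_le_iff.2 fun g hg hgc => ?_
    exact CfsgLib.LocalStr.mem_of_mem_sup_pGroup hA
      (CfsgLib.Solvable.le_normalizer_commutator_right N A) (hLCA hg) hgc
  · -- the intersection with `O_p`
    set O := pCoreOf p L with hO
    have hLC : L ≤ (Subgroup.centralizer (B : Set Y)).comap π := by
      rw [← heq]
      refine twoConj_le (fun a ha => ?_) hnB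
      intro b hb
      obtain ⟨a', ha', rfl⟩ := hBA hb
      exact hcomm a' ha' a ha
    have hS : L ⊓ B.comap π ≤ O := by
      refine CfsgLib.LocalStr.le_pCoreOf inf_le_left ?_ ((IsPGroup.comap_of_ker_isPGroup (hAbp.to_le hBA) π hker).to_le inf_le_right)
      rw [Subgroup.le_normalizer_iff]
      intro g hg s hs
      refine Subgroup.mem_inf.2 ⟨mul_mem (mul_mem hg hs.1) (inv_mem hg), ?_⟩
      have : π (g * s * g⁻¹) = π s := by
        rw [map_mul, map_mul, map_inv, ← hLC hg (π s) hs.2, mul_inv_cancel_right]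
      show π (g * s * g⁻¹) ∈ B
      rw [this]
      exact hs.2
    have hAO : ¬ A ≤ O := by
      intro h
      have hLO : L ≤ O := by
        rw [← heq]
        refine sup_le h ?_
        rintro _ ⟨a, ha, rfl⟩
        exact (Subgroup.mem_normalizer_iff.1 (CfsgLib.LocalStr.le_normalizer_pCoreOf L (hNL hn)) a).1 (h ha)
      have hLp : IsPGroup p L := (CfsgLib.LocalStr.isPGroup_pCoreOf L).to_le hLO
      have : n = 1 := Subgroup.mem_bot.1
        (CfsgLib.LocalStr.pRes_eq_bot_iff.2 hLp ▸ (hn : n ∈ CfsgLib.LocalStr.pRes p L))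
      exact hnA (by rw [this, map_one]; exact one_mem _)
    obtain ⟨a₀, ha₀, rfl⟩ := hab
    haveI hnorm : ((A ⊓ O).subgroupOf A).Normal := by
      refine ⟨fun u hu g => ?_⟩
      rw [Subgroup.mem_subgroupOf] at hu ⊢
      exact ⟨(g * u * g⁻¹).2, (Subgroup.mem_normalizer_iff.1
        (CfsgLib.LocalStr.le_normalizer_pCoreOf L (hAL g.2)) u).1 hu.2⟩
    have hmemO : ∀ a ∈ A, π a ∈ B → a ∈ A ⊓ O := fun a ha h => ⟨ha, hS ⟨hAL ha, h⟩⟩
    have hdec : ∀ a ∈ A, ∃ k : ℤ, a * (a₀ ^ k)⁻¹ ∈ A ∧ π (a * (a₀ ^ k)⁻¹) ∈ B := by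
      intro a ha
      have hBn : Subgroup.zpowers (π a₀) ≤ Subgroup.normalizer (B : Set Y) := by
        refine Subgroup.zpowers_le.2 (Subgroup.centralizer_le_normalizer _ ?_)
        intro b hb
        obtain ⟨a', ha', rfl⟩ := hBA hb
        exact hcomm a' ha' a₀ ha₀
      obtain ⟨b, hb, w, hw, hbw⟩ :=
        (CfsgLib.Solvable.mem_sup_of_le_normalizer hBn).1 (hgen (Subgroup.mem_map_of_mem π ha))
      obtain ⟨k, rfl⟩ := Subgroup.mem_zpowers_iff.1 hw
      refine ⟨k, mul_mem ha (inv_mem (zpow_mem ha₀ k)), ?_⟩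
      rw [map_mul, map_inv, map_zpow, ← hbw, mul_inv_cancel_right]
      exact hb
    let q₀ : A ⧸ (A ⊓ O).subgroupOf A := QuotientGroup.mk ⟨a₀, ha₀⟩
    have hall : ∀ u : A ⧸ (A ⊓ O).subgroupOf A, u ∈ Subgroup.zpowers q₀ := by
      intro u
      obtain ⟨a, rfl⟩ := QuotientGroup.mk_surjective u
      obtain ⟨k, hk1, hk2⟩ := hdec a a.2
      refine ⟨k, ?_⟩
      show q₀ ^ k = _
      rw [← QuotientGroup.mk_zpow, QuotientGroup.eq, Subgroup.mem_subgroupOf]
      simp only [Subgroup.coe_mul, Subgroup.coe_inv, SubgroupClass.coe_zpow]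
      have h1 := hmemO _ hk1 hk2
      have := (Subgroup.mem_normalizer_iff.1 (CfsgLib.LocalStr.le_normalizer_pCoreOf L
        (inv_mem (zpow_mem (hAL ha₀) k))) _).1 h1.2
      exact Subgroup.mem_inf.2 ⟨mul_mem (inv_mem (zpow_mem ha₀ k)) a.2, by simpa [mul_assoc] using this⟩
    have hq1 : q₀ ≠ 1 := by
      intro h
      refine hAO fun a ha => ?_
      have h1 := hall (QuotientGroup.mk ⟨a, ha⟩)
      rw [h, Subgroup.zpowers_one_eq_bot, Subgroup.mem_bot, QuotientGroup.eq_one_iff] at h1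
      exact (Subgroup.mem_subgroupOf.1 h1).2
    have hqp : q₀ ^ p = 1 := by
      rw [← QuotientGroup.mk_pow, QuotientGroup.eq_one_iff, Subgroup.mem_subgroupOf]
      exact hmemO (a₀ ^ p) (pow_mem ha₀ p) (by rw [map_pow, hpow a₀ ha₀]; exact one_mem _)
    have hord : orderOf q₀ = p := orderOf_eq_prime hqp hq1
    refine ⟨?_, ?_⟩
    · rw [Subgroup.relIndex, Subgroup.index_eq_card, ← hord]
      exact (orderOf_eq_card_of_forall_mem_zpowers hall).symm
    · rw [Subgroup.commutator_le]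
      intro a ha l hl
      obtain ⟨k, hk1, hk2⟩ := hdec a ha.1
      have hdvd : (p : ℤ) ∣ k := by
        rw [← hord, orderOf_dvd_iff_zpow_eq_one, ← QuotientGroup.mk_zpow, QuotientGroup.eq_one_iff,
          Subgroup.mem_subgroupOf]
        have h1 := hmemO _ hk1 hk2
        have h2 := mul_mem (inv_mem h1) ha
        simpa [mul_assoc] using h2
      have haB : π a ∈ B := by
        obtain ⟨j, rfl⟩ := hdvd
        have : π (a₀ ^ ((p : ℤ) * j)) = 1 := by rw [map_zpow, zpow_mul, zpow_natCast, hpow a₀ ha₀, one_zpow]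
        rw [map_mul, map_inv, this, inv_one, mul_one] at hk2
        exact hk2
      rw [MonoidHom.mem_ker, map_commutatorElement, commutatorElement_eq_one_iff_commute]
      exact hLC hl (π a) haB

theorem exists_two_conjugates (hM : IsPSolvable p M) (A : Subgroup M) (hA : IsPGroup p A)
    (hΦ : (frattini A).map A.subtype ≤ pCore p M) (hnot : ¬ A ≤ pCore p M) :
    ∃ x ∈ (pPrimeCore p (M ⧸ pCore p M)).comap (QuotientGroup.mk' (pCore p M)),
      x ∈ CfsgLib.LocalStr.pRes p (twoConj A x) ∧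
      CfsgLib.LocalStr.pRes p (twoConj A x) ≤
        (pPrimeCore p (M ⧸ pCore p M)).comap (QuotientGroup.mk' (pCore p M)) ∧
      ⁅CfsgLib.LocalStr.pRes p (twoConj A x), A⁆ = CfsgLib.LocalStr.pRes p (twoConj A x) ∧
      (A ⊓ pCoreOf p (twoConj A x)).relIndex A = p ∧
      ⁅A ⊓ pCoreOf p (twoConj A x), twoConj A x⁆ ≤ pCore p M := by
  have hker : (QuotientGroup.mk' (pCore p M)).ker = pCore p M := QuotientGroup.ker_mk' _
  haveI := CfsgLib.Solvable.pPrimeCore_normal p (M ⧸ pCore p M)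
  have hmem : ∀ {a : M}, a ∈ A → ∀ {u : A}, u ∈ frattini A → QuotientGroup.mk' (pCore p M) (u : M) = 1 :=
    fun {_} _ {u} hu => (QuotientGroup.eq_one_iff _).2 (hΦ ⟨u, hu, rfl⟩)
  obtain ⟨x, h1, h2, h3, h4, h5, h6⟩ := exists_two_conjugates_of_section (QuotientGroup.mk' (pCore p M))
    (QuotientGroup.mk'_surjective _) (hker.symm ▸ CfsgLib.Solvable.pCore_isPGroup (p := p) M)
    (pPrimeCore p (M ⧸ pCore p M)) (CfsgLib.Solvable.pPrimeCore_card_coprime p _)
    (CfsgLib.PLocal.centralizer_pPrimeCore_le_self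
      (CfsgLib.PLoc.isPSolvable_of_surjective (QuotientGroup.mk'_surjective _) hM)
      (CfsgLib.Solvable.pCore_quotient_eq_bot _ rfl)) A hA
    (fun a ha b hb => by
      rw [← commutatorElement_eq_one_iff_commute, ← map_commutatorElement]
      haveI := hA.isNilpotent
      exact hmem ha (u := ⁅(⟨a, ha⟩ : A), (⟨b, hb⟩ : A)⁆) (CfsgLib.Transfer.commutator_le_frattini
        (Subgroup.commutator_mem_commutator (Subgroup.mem_top _) (Subgroup.mem_top _))))
    (fun a ha => by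
      rw [← map_pow]
      exact hmem ha (u := (⟨a, ha⟩ : A) ^ p) (CfsgLib.Transfer.pow_mem_frattini hA _))
    (fun h => hnot (by rwa [Subgroup.map_eq_bot_iff, hker] at h))
  exact ⟨x, h1, h2, h3, h4, h5, hker ▸ h6⟩

end CfsgLib.FGS68
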